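import Groth.Agent.Lib.Helper5.PushEdge
import Groth.Agent.Lib.Helper29.QCohPush
import Groth.Prelude.Def_Canon
import Groth.Agent.Lib.Lead.LinLES.Biprod

set_option autoImplicit false
universe u
open CategoryTheory CategoryTheory.Limits AlgebraicGeometry Opposite TopologicalSpace

namespace Groth.Agent.Lib.Lead.SD

open Groth.Agent.Lib.Helper5.PushEdge

variable (A : Type u) [CommRing A] {X Z : Scheme.{u}} [X.Over (Spec (CommRingCat.of A))]
  [Z.Over (Spec (CommRingCat.of A))] (π : X ⟶ Z)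
  (hπ : π ≫ (Z ↘ Spec (CommRingCat.of A)) = X ↘ Spec (CommRingCat.of A))

include hπ in
lemma toGlobal_eq (a : A) :
    Coh.toGlobal (X ↘ Spec (CommRingCat.of A)) a =
      (π.appTop).hom (Coh.toGlobal (Z ↘ Spec (CommRingCat.of A)) a) := by
  unfold Coh.toGlobal
  rw [← hπ]
  rfl

include hπ in
lemma push_map_smulAb (F : X.Modules) (a : A) :
    (CohTop.push π.base).map (Coh.smulAb F (Coh.toGlobal (X ↘ Spec (CommRingCat.of A)) a)) =
      Coh.smulAb ((Scheme.Modules.pushforward π).obj F)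
        (Coh.toGlobal (Z ↘ Spec (CommRingCat.of A)) a) := by
  rw [toGlobal_eq A π hπ a]
  ext U m
  change (Coh.smulAb F _).hom.app (op (π ⁻¹ᵁ U.unop)) m = _
  rw [Coh.smulAb_app]
  refine Eq.trans ?_ (Coh.smulAb_app ((Scheme.Modules.pushforward π).obj F) _ U m).symm
  have key : Coh.resTop X (op (π ⁻¹ᵁ U.unop)) ((π.appTop).hom
      (Coh.toGlobal (Z ↘ Spec (CommRingCat.of A)) a)) =
      (π.app U.unop).hom (Coh.resTop Z U (Coh.toGlobal (Z ↘ Spec (CommRingCat.of A)) a)) := by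
    have := π.naturality (homOfLE (le_top : U.unop ≤ ⊤)).op
    exact (congrArg (fun k => k.hom (Coh.toGlobal (Z ↘ Spec (CommRingCat.of A)) a)) this).symm
  rw [key]
  rfl

lemma toSheaf_map_push {F G : X.Modules} (φ : F ⟶ G) :
    (SheafOfModules.toSheaf Z.ringCatSheaf).map ((Scheme.Modules.pushforward π).map φ) =
      (CohTop.push π.base).map ((SheafOfModules.toSheaf X.ringCatSheaf).map φ) := rfl

/-- The edge map `H^r(Z, π_* F) → H^r(X, F)` as an `A`-linear map. -/
noncomputable def edgeLin (F : X.Modules) (r : ℕ) :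
    Coh.HH Z ((Scheme.Modules.pushforward π).obj F) r →ₗ[A] Coh.HH X F r where
  toFun := edge π.base (Coh.toAb F) r
  map_add' := map_add _
  map_smul' a x := by
    change edge π.base (Coh.toAb F) r (Sheaf.H.map (Coh.smulAb _
      (Coh.toGlobal (Z ↘ Spec (CommRingCat.of A)) a)) r x) =
      Sheaf.H.map (Coh.smulAb F (Coh.toGlobal (X ↘ Spec (CommRingCat.of A)) a)) r
        (edge π.base (Coh.toAb F) r x)
    rw [← push_map_smulAb A π hπ F a]
    exact edge_map π.base (Coh.smulAb F (Coh.toGlobal (X ↘ Spec (CommRingCat.of A)) a)) r x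

lemma edgeLin_apply (F : X.Modules) (r : ℕ)
    (x : Coh.HH Z ((Scheme.Modules.pushforward π).obj F) r) :
    edgeLin A π hπ F r x = edge π.base (Coh.toAb F) r x := rfl

lemma edgeLin_HHlin {F G : X.Modules} (φ : F ⟶ G) (r : ℕ)
    (x : Coh.HH Z ((Scheme.Modules.pushforward π).obj F) r) :
    edgeLin A π hπ G r (Canon.HHlin A ((Scheme.Modules.pushforward π).map φ) r x) =
      Canon.HHlin A φ r (edgeLin A π hπ F r x) := by
  change edge π.base (Coh.toAb G) r (Sheaf.H.map ((SheafOfModules.toSheaf Z.ringCatSheaf).map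
    ((Scheme.Modules.pushforward π).map φ)) r x) = _
  rw [toSheaf_map_push]
  exact edge_map π.base ((SheafOfModules.toSheaf X.ringCatSheaf).map φ) r x

lemma bijective_edgeLin [IsAffineHom π] (F : X.Modules) (hF : Coh.IsQCoh F) (r : ℕ) :
    Function.Bijective (edgeLin A π hπ F r) := by
  haveI : Coh.IsQCoh F := hF
  have h := bijective_pushEdge π r F (fun q hq => isZero_Rpush_of_isAffineHom π F q hq)
  have e : ⇑(CohPull.pushEdge π F r) = ⇑(edgeLin A π hπ F r) := funext (pushEdge_eq π F r)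
  rw [← e]
  exact h

include hπ in
open Groth.Agent.Lib.Lead.LinLES in
/-- **Dualizing pairs pass up along finite (affine) morphisms.** -/
theorem exists_isRDualOver_of_affine [IsAffineHom π] (r : ℕ)
    (ωZ : Z.Modules) (trZ : Coh.HH Z ωZ r →ₗ[A] A) (hZ : Canon.IsRDualOver A Z r ωZ trZ)
    (ωX : X.Modules) (hωX : Coh.IsQCoh ωX) (τ : (Coh.push π).obj ωX ⟶ ωZ)
    (huniv : ∀ F : X.Modules, Coh.IsQCoh F →
      Function.Bijective (fun φ : F ⟶ ωX => (Coh.push π).map φ ≫ τ)) :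
    ∃ trX : Coh.HH X ωX r →ₗ[A] A, Canon.IsRDualOver A X r ωX trX := by
  let eω : Coh.HH Z ((Scheme.Modules.pushforward π).obj ωX) r ≃ₗ[A] Coh.HH X ωX r :=
    LinearEquiv.ofBijective (edgeLin A π hπ ωX r) (bijective_edgeLin A π hπ ωX hωX r)
  refine ⟨(trZ ∘ₗ Canon.HHlin A τ r) ∘ₗ eω.symm.toLinearMap, hωX, fun F hF => ?_⟩
  let eF : Coh.HH Z ((Scheme.Modules.pushforward π).obj F) r ≃ₗ[A] Coh.HH X F r :=
    LinearEquiv.ofBijective (edgeLin A π hπ F r) (bijective_edgeLin A π hπ F hF r)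
  have hπF : Coh.IsQCoh ((Scheme.Modules.pushforward π).obj F) := by
    haveI : F.IsQuasicoherent := hF
    exact Groth.Agent.Lib.Helper29.QCoh.isQuasicoherent_pushforward_of_isAffineHom π F
  have key : ∀ φ : F ⟶ ωX,
      Canon.dualityMap A X r ωX ((trZ ∘ₗ Canon.HHlin A τ r) ∘ₗ eω.symm.toLinearMap) F φ =
        (Canon.dualityMap A Z r ωZ trZ ((Scheme.Modules.pushforward π).obj F)
          ((Coh.push π).map φ ≫ τ)) ∘ₗ eF.symm.toLinearMap := by
    intro φ
    apply LinearMap.ext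
    intro x
    obtain ⟨y, rfl⟩ := eF.surjective x
    change trZ (Canon.HHlin A τ r (eω.symm (Canon.HHlin A φ r (edgeLin A π hπ F r y)))) =
      trZ (Canon.HHlin A ((Coh.push π).map φ ≫ τ) r (eF.symm (eF y)))
    rw [eF.symm_apply_apply, ← edgeLin_HHlin A π hπ φ r y, HHlin_comp]
    congr 2
    exact eω.symm_apply_apply _
  have hfun : Canon.dualityMap A X r ωX ((trZ ∘ₗ Canon.HHlin A τ r) ∘ₗ eω.symm.toLinearMap) F =
      (fun ψ : Coh.HH Z ((Scheme.Modules.pushforward π).obj F) r →ₗ[A] A =>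
        ψ ∘ₗ eF.symm.toLinearMap) ∘
      (Canon.dualityMap A Z r ωZ trZ ((Scheme.Modules.pushforward π).obj F)) ∘
      (fun φ : F ⟶ ωX => (Coh.push π).map φ ≫ τ) := funext key
  rw [hfun]
  refine Function.Bijective.comp ?_ (Function.Bijective.comp (hZ.2 _ hπF) (huniv F hF))
  constructor
  · intro ψ₁ ψ₂ h12
    apply LinearMap.ext
    intro y
    have := congrArg (fun f : Coh.HH X F r →ₗ[A] A => f (eF y)) h12
    simpa using this
  · intro ψ'
    refine ⟨ψ' ∘ₗ eF.toLinearMap, ?_⟩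
    apply LinearMap.ext
    intro x
    simp

end Groth.Agent.Lib.Lead.SD
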