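import Groth.Prelude.Def_KLin
import Groth.Prelude.Def_DCoh4

/-!
# The tensor product and the sheaf Hom of `O_X`-modules are linear over the base ring
-/

set_option autoImplicit false

universe u

open CategoryTheory CategoryTheory.Limits AlgebraicGeometry Opposite MonoidalCategory
  TopologicalSpace

namespace Groth.Agent.Lib.Lead.SD.TensorLin

variable {X : Scheme.{u}}

/-- The sheafification adjunction for presheaves of `O_X`-modules. -/
noncomputable def shAdj : DCoh.shP (X := X) ⊣ DCoh.toP (X := X) :=
  PresheafOfModules.sheafificationAdjunction (𝟙 X.ringCatSheaf.obj)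

/-- The restriction of a global function, typed in the ring of the presheaf of modules. -/
noncomputable abbrev resP (U : (Opens X)ᵒᵖ) (r : Coh.Γtop X) :
    ((X.sheaf.obj ⋙ forget₂ CommRingCat RingCat.{u}).obj U : Type u) :=
  Coh.resTop X U r

lemma shP_map_eq_smulModΓ (P : CohB1.PMod X) (f : P ⟶ P) (r : Coh.Γtop X)
    (hf : ∀ (U : (Opens X)ᵒᵖ) (p : P.obj U), (f.app U).hom p = resP U r • p) :
    DCoh.shP.map f = Formal.smulModΓ (DCoh.shP.obj P) r := by
  apply (shAdj.homEquiv _ _).injective
  rw [Adjunction.homEquiv_unit, Adjunction.homEquiv_unit]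
  have h := shAdj.unit.naturality f
  simp only [Functor.id_map, Functor.comp_map] at h
  rw [← h]
  ext U p
  change (ModuleCat.Hom.hom ((shAdj.unit.app P).app U)) ((ModuleCat.Hom.hom (f.app U)) p) =
    resP U r • (ModuleCat.Hom.hom ((shAdj.unit.app P).app U)) p
  rw [hf U p, map_smul]


/-- Sectionwise, `M ⊗ (r • -)` is multiplication by `r`. -/
lemma whiskerLeft_smulModΓ_apply (M T : X.Modules) (r : Coh.Γtop X) (U : (Opens X)ᵒᵖ)
    (p : (DCoh.toP.obj M ⊗ DCoh.toP.obj T : CohB1.PMod X).obj U) :
    (ModuleCat.Hom.hom ((DCoh.toP.obj M ◁ DCoh.toP.map (Formal.smulModΓ T r)).app U)) p =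
      resP U r • p := by
  induction p using TensorProduct.induction_on with
  | zero =>
    exact (map_zero (ModuleCat.Hom.hom
      ((DCoh.toP.obj M ◁ DCoh.toP.map (Formal.smulModΓ T r)).app U))).trans (smul_zero _).symm
  | tmul m t =>
    change m ⊗ₜ[((X.sheaf.obj ⋙ forget₂ CommRingCat RingCat.{u}).obj U : Type u)]
      (resP U r • t) = _
    exact TensorProduct.tmul_smul (resP U r) m t
  | add a b ha hb =>
    exact (map_add (ModuleCat.Hom.hom
      ((DCoh.toP.obj M ◁ DCoh.toP.map (Formal.smulModΓ T r)).app U)) a b).trans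
      ((congrArg₂ (· + ·) ha hb).trans (smul_add _ _ _).symm)

/-- Tensoring with `M` sends multiplication by a global function to multiplication by it. -/
theorem tensorBi_obj_map_smulModΓ (M T : X.Modules) (r : Coh.Γtop X) :
    ((DCoh.tensorBi (X := X)).obj M).map (Formal.smulModΓ T r) =
      Formal.smulModΓ (((DCoh.tensorBi (X := X)).obj M).obj T) r :=
  shP_map_eq_smulModΓ _ _ r (whiskerLeft_smulModΓ_apply M T r)

section linear

variable (A : Type u) [CommRing A] [X.Over (Spec (CommRingCat.of A))]

theorem tensorBi_obj_map_smul (M T : X.Modules) (a : A) :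
    ((DCoh.tensorBi (X := X)).obj M).map (a • 𝟙 T) =
      a • 𝟙 (((DCoh.tensorBi (X := X)).obj M).obj T) := by
  rw [KLin.smul_id, KLin.smul_id]
  exact tensorBi_obj_map_smulModΓ M T _

/-- The sheaf Hom functor is linear on scalar endomorphisms. -/
theorem sheafHom_map_smul (M N : X.Modules) [DCoh.HasSheafHom M] (a : A) :
    (DCoh.sheafHom M).map (a • 𝟙 N) = a • 𝟙 ((DCoh.sheafHom M).obj N) := by
  apply ((DCoh.sheafHomAdj M).homEquiv _ _).symm.injective
  rw [Adjunction.homEquiv_counit, Adjunction.homEquiv_counit, tensorBi_obj_map_smul,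
    Linear.smul_comp, Category.id_comp]
  have h := (DCoh.sheafHomAdj M).counit.naturality (a • 𝟙 N)
  simp only [Functor.comp_map, Functor.id_map] at h
  rw [h, Linear.comp_smul]
  exact congrArg (a • ·) (Category.comp_id _)

end linear

end Groth.Agent.Lib.Lead.SD.TensorLin
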