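import Groth.Agent.Lib.Lead.SD.ExtHom

/-!
# `Ext^p(F, B) ≃ₗ H^p(X, Hom(F, B))` linearly over the base ring, for `F` finite locally free
-/

set_option autoImplicit false
set_option maxSynthPendingDepth 3

universe u

open CategoryTheory CategoryTheory.Limits AlgebraicGeometry Opposite Abelian

namespace Groth.Agent.Lib.Lead.SD

open Groth.Agent.Lib.Lead.LinLES Groth.Agent.Lib.Helper29.QCoh

variable {X : Scheme.{u}}

/-- The unit section `ℤ → O_X`. -/
noncomputable def ιX : Groth.Agent.S0491.Zc (Opens.grothendieckTopology X) ⟶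
    (toSheafAb X).obj (Coh.structureModule X) :=
  Groth.Agent.S0491.ι (Opens.grothendieckTopology X) X.ringCatSheaf

lemma ιX_bijective (M : X.Modules) :
    Function.Bijective (fun f : Coh.structureModule X ⟶ M => ιX ≫ (toSheafAb X).map f) :=
  Groth.Agent.S0491.bij (Opens.grothendieckTopology X) X.ringCatSheaf M

instance : EnoughInjectives X.Modules :=
  Groth.Agent.S0485.result (Opens.grothendieckTopology X) X.ringCatSheaf

variable [HasExt.{u} X.Modules]

/-- The comparison map `Ext^p(O_X, M) → H^p(X, M)`. -/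
noncomputable def cmpX (M : X.Modules) (p : ℕ)
    (x : Ext (Coh.structureModule X) M p) : Coh.HH X M p :=
  ExtH.cmp (toSheafAb X) (Coh.structureModule X) ιX M p x

lemma cmpX_add (M : X.Modules) (p : ℕ) (x y : Ext (Coh.structureModule X) M p) :
    cmpX M p (x + y) = cmpX M p x + cmpX M p y :=
  ExtH.cmp_add _ _ _ M p x y

lemma cmpX_bijective (M : X.Modules) (p : ℕ) : Function.Bijective (cmpX M p) := by
  refine ExtH.cmp_bijective (toSheafAb X) (Coh.structureModule X) ιX ιX_bijective ?_ p M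
  intro I hI n x
  haveI : Injective (C := SheafOfModules.{u} X.ringCatSheaf) I := hI
  have h := Groth.Agent.Lib.Helper5.ModAcyclic.isTotallyAcyclic_toSheaf X.ringCatSheaf I
    (Groth.Agent.S0491.Kt (Opens.grothendieckTopology X)) n
  have := Groth.Agent.Lib.Helper5.FreeSheafify.subsingleton_ext_of_iso
    (Groth.Agent.S0491.ZcIso (Opens.grothendieckTopology X)) _ _ h
  exact @Subsingleton.elim _ this x 0

variable (A : Type u) [CommRing A] [X.Over (Spec (CommRingCat.of A))]

lemma cmpX_smul (M : X.Modules) (p : ℕ) (a : A) (x : Ext (Coh.structureModule X) M p) :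
    cmpX M p (a • x) = a • cmpX M p x := by
  rw [Ext.smul_eq_comp_mk₀]
  refine (ExtH.cmp_comp_mk₀ (toSheafAb X) (Coh.structureModule X) ιX (a • 𝟙 M) p x).trans ?_
  exact congrArg (fun φ : Coh.toAb M ⟶ Coh.toAb M =>
    Ext.comp (cmpX M p x) (Ext.mk₀ φ) (add_zero p)) (abMap_smul_id A M a)

/-- **`Ext^p(F, B) ≃ₗ[A] H^p(X, Hom(F, B))`** for `F` finite locally free on `X` over `Spec A`. -/
theorem nonempty_ext_linearEquiv_HH_sheafHom (F B : X.Modules) (hF : FlatMod.IsFinLocFree F)
    [DCoh.HasSheafHom F] (p : ℕ) :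
    Nonempty (Ext F B p ≃ₗ[A] Coh.HH X ((DCoh.sheafHom F).obj B) p) := by
  obtain ⟨T⟩ := nonempty_extFunctor_iso_unit X F hF p
  let τ : Ext F B p →+ Ext (Coh.structureModule X) ((DCoh.sheafHom F).obj B) p :=
    ExtH.natApp (DCoh.sheafHom F) p T.hom B
  have hτ : Function.Bijective τ := ExtH.natApp_bijective (DCoh.sheafHom F) p T B
  have hsmul : ∀ (a : A) (α : Ext F B p), τ (a • α) = a • τ α := fun a α =>
    ExtH.natApp_smul (DCoh.sheafHom F) p T.hom B a (TensorLin.sheafHom_map_smul A F B a) α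
  refine ⟨LinearEquiv.ofBijective
    { toFun := fun α => cmpX _ p (τ α)
      map_add' := fun α β => by rw [map_add, cmpX_add]
      map_smul' := fun a α => by rw [hsmul, cmpX_smul, RingHom.id_apply] }
    ⟨(cmpX_bijective _ p).1.comp hτ.1, (cmpX_bijective _ p).2.comp hτ.2⟩⟩

end Groth.Agent.Lib.Lead.SD
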