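import Groth.Agent.Lib.Lead.SD.Untwist
import Groth.Agent.Lib.Helper5.FinLocFreeExt
import Groth.Agent.Lib.Lead.Koszul.ClosedSub
import Groth.Agent.S0844

/-!
# `Ext` groups between twisting sheaves on projective space

`Ext^p(L, B) ≃+ H^p(X, B ⊗ L⁻¹)` for an invertible finite locally free `L`; on `P^n_R` this gives
the vanishing of `Ext^m(O(a), O(b))` from the cohomology of `O(b - a)`.
-/

set_option autoImplicit false

universe u

open CategoryTheory CategoryTheory.Limits AlgebraicGeometry Opposite Abelian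

namespace Groth.Agent.Lib.Lead.SD

open Groth.Agent.Lib.Lead.TwistExact Groth.Agent.Lib.Helper17.Tensor Groth.Agent.Lib.Helper29.QCoh
  Groth.Agent.Lib.Helper17.IHom Groth.Agent.Lib.Helper5.FinLocFreeExt
  Groth.Agent.Lib.Helper5.LocalGlobalExt

section general

variable {X : Scheme.{u}}

/-- Tensoring with an invertible module is an equivalence. -/
noncomputable def tensorRightEquiv (L L' : X.Modules)
    (μ : CohB1.tensorMod L L' ≅ Coh.structureModule X)
    (μ' : CohB1.tensorMod L' L ≅ Coh.structureModule X) : X.Modules ≌ X.Modules :=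
  CategoryTheory.Equivalence.mk (tensorRight L) (tensorRight L') (untwistNatIso L L' μ).symm
    (untwistNatIso L' L μ')

/-- The internal Hom out of an invertible module is tensoring with its inverse. -/
noncomputable def sheafHomIsoTensorRight (L L' : X.Modules)
    (μ : CohB1.tensorMod L L' ≅ Coh.structureModule X)
    (μ' : CohB1.tensorMod L' L ≅ Coh.structureModule X) :
    ModSite.sheafHom (O := X.sheaf) L ≅ tensorRight L' :=
  (ModSite.sheafHomAdj (O := X.sheaf) L).rightAdjointUniq
    (tensorRightEquiv L L' μ μ').toAdjunction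

/-- `Ext^p(L, B) ≃+ H^p(X, B ⊗ L')` for `L` finite locally free with inverse `L'`. -/
theorem nonempty_ext_addEquiv_HH_tensor [HasExt.{u} X.Modules] (L L' : X.Modules)
    (μ : CohB1.tensorMod L L' ≅ Coh.structureModule X)
    (μ' : CohB1.tensorMod L' L ≅ Coh.structureModule X)
    (hL : FlatMod.IsFinLocFree L) (B : X.Modules) (p : ℕ) :
    Nonempty (Abelian.Ext L B p ≃+ Coh.HH X (CohB1.tensorMod B L') p) := by
  haveI hExt : HasExt.{u} (ModSite.Mod X.sheaf) := inferInstanceAs (HasExt.{u} X.Modules)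
  haveI : EnoughInjectives (ModSite.Mod X.sheaf) :=
    Groth.Agent.S0485.result (Opens.grothendieckTopology X) X.ringCatSheaf
  obtain ⟨e1⟩ := nonempty_ext_iso X.sheaf L
    (Groth.Agent.Lib.Helper5.LocBasisScheme.hasLocBases_of_isFinLocFree L hL) B p
  obtain ⟨e3⟩ := nonempty_rightDerived_Γ_iso X.sheaf ((tensorRight L').obj B) p
  exact ⟨(e1 ≪≫ ((Γ X.sheaf).rightDerived p).mapIso ((sheafHomIsoTensorRight L L' μ μ').app B) ≪≫
    e3).addCommGroupIsoToAddEquiv⟩

end general

section Pn

open Groth.Agent.Lib.Lead.Pn Groth.Agent.Lib.Lead.Koszul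

variable (n : ℕ) (R : Type u) [CommRing R] [HasExt.{u} (CohB1.ProjSpace n R).Modules]

/-- `Ext^m(O(a), O(b)) = 0` on `P^n_R` for `m ≥ 1`, unless `m = n` and `b - a ≤ -n-1`. -/
theorem subsingleton_ext_twist (a b : ℤ) (m : ℕ) (hm : 1 ≤ m)
    (h : ¬ (m = n ∧ b + -a ≤ -((n : ℤ) + 1))) :
    Subsingleton (Abelian.Ext (Twist.twistProjSpace n R a) (Twist.twistProjSpace n R b) m) := by
  obtain ⟨e1⟩ := nonempty_twist_tensor_iso n R a (-a)
  obtain ⟨e2⟩ := nonempty_twist_tensor_iso n R (-a) a
  obtain ⟨e0⟩ := nonempty_unit_iso_twist_zero (CohB1.polyGrading n R)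
  obtain ⟨e3⟩ := nonempty_twist_tensor_iso n R b (-a)
  let μ : CohB1.tensorMod (Twist.twistProjSpace n R a) (Twist.twistProjSpace n R (-a)) ≅
      Coh.structureModule (CohB1.ProjSpace n R) :=
    e1 ≪≫ eqToIso (congrArg (Twist.twistProjSpace n R) (add_neg_cancel a)) ≪≫ e0.symm
  let μ' : CohB1.tensorMod (Twist.twistProjSpace n R (-a)) (Twist.twistProjSpace n R a) ≅
      Coh.structureModule (CohB1.ProjSpace n R) :=
    e2 ≪≫ eqToIso (congrArg (Twist.twistProjSpace n R) (neg_add_cancel a)) ≪≫ e0.symm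
  obtain ⟨e⟩ := nonempty_ext_addEquiv_HH_tensor _ _ μ μ' (isFinLocFree_twist n R a)
    (Twist.twistProjSpace n R b) m
  have h1 : Subsingleton (Coh.HH (CohB1.ProjSpace n R)
      (CohB1.tensorMod (Twist.twistProjSpace n R b) (Twist.twistProjSpace n R (-a))) m) :=
    subsingleton_HH_of_iso e3.symm m
      (Groth.Agent.S0844.result R n (b + -a) m (by omega) h)
  exact e.toEquiv.subsingleton

end Pn

end Groth.Agent.Lib.Lead.SD
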