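import Mathlib

/-!
# A counting argument

A family of finite-dimensional vector spaces `V n` (`n : ℤ`) with bilinear "multiplications"
`W e × V n → V (n + e)` which are injective in the second variable for every nonzero element of
`W e`, where `dim W e ≥ e + 1`, vanishes for `n ≪ 0`.
-/

set_option autoImplicit false

namespace Groth.Agent.Lib.Lead.SD

open Module

theorem exists_forall_le_subsingleton {k : Type*} [Field k]
    (V : ℤ → Type*) [∀ n, AddCommGroup (V n)] [∀ n, Module k (V n)] [∀ n, Module.Finite k (V n)]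
    (W : ℕ → Type*) [∀ e, AddCommGroup (W e)] [∀ e, Module k (W e)]
    (hW : ∀ e, e + 1 ≤ finrank k (W e))
    (B : ∀ (n m : ℤ) (e : ℕ), m = n + e → W e →ₗ[k] V n →ₗ[k] V m)
    (hB : ∀ (n m : ℤ) (e : ℕ) (h : m = n + e) (w : W e), w ≠ 0 →
      Function.Injective (B n m e h w)) :
    ∃ n₀ : ℤ, ∀ n : ℤ, n ≤ n₀ → Subsingleton (V n) := by
  classical
  by_contra hcon
  push Not at hcon
  -- nonzero elements of `W e`
  have hWne : ∀ e, ∃ w : W e, w ≠ 0 := by
    intro e
    have h1 : 0 < finrank k (W e) := lt_of_lt_of_le (Nat.succ_pos e) (hW e)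
    haveI : Nontrivial (W e) := Module.nontrivial_of_finrank_pos (R := k) h1
    exact exists_ne 0
  -- monotonicity
  have hmono : ∀ (n m : ℤ), n ≤ m → finrank k (V n) ≤ finrank k (V m) := by
    intro n m hnm
    obtain ⟨e, he⟩ := Int.eq_ofNat_of_zero_le (sub_nonneg.mpr hnm)
    obtain ⟨w, hw⟩ := hWne e
    exact LinearMap.finrank_le_finrank_of_injective (hB n m e (by omega) w hw)
  -- all `V n` are nonzero
  have hne : ∀ n : ℤ, 0 < finrank k (V n) := by
    intro n
    obtain ⟨n', hn', hns⟩ := hcon n
    have h1 : 0 < finrank k (V n') := Module.finrank_pos_iff.mpr hns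
    exact lt_of_lt_of_le h1 (hmono n' n hn')
  set D := finrank k (V 0) with hD
  have hDpos : 0 < D := hne 0
  -- the contradiction
  let e : ℕ := D * D
  let n : ℤ := -(e : ℤ)
  have hn0 : (0 : ℤ) = n + e := by simp [n]
  have hinj : Function.Injective (B n 0 e hn0) := by
    intro w w' hww
    by_contra hne'
    have h1 : B n 0 e hn0 (w - w') = 0 := by rw [map_sub, hww, sub_self]
    have h2 := hB n 0 e hn0 (w - w') (sub_ne_zero.mpr hne')
    have h3 : 0 < finrank k (V n) := hne n
    haveI : Nontrivial (V n) := Module.nontrivial_of_finrank_pos (R := k) h3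
    obtain ⟨v, hv⟩ := exists_ne (0 : V n)
    apply hv
    apply h2
    rw [h1, LinearMap.zero_apply, map_zero]
  have h4 : finrank k (W e) ≤ finrank k (V n →ₗ[k] V 0) :=
    LinearMap.finrank_le_finrank_of_injective hinj
  rw [Module.finrank_linearMap] at h4
  have h5 : finrank k (V n) ≤ D := hmono n 0 (by simp [n])
  have h6 : finrank k (V n) * finrank k (V 0) ≤ D * D := Nat.mul_le_mul h5 le_rfl
  have h7 := hW e
  omega

end Groth.Agent.Lib.Lead.SD
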