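import Groth.Agent.Lib.Lead.SD.Horrocks
import Mathlib.CategoryTheory.Limits.Constructions.FiniteProductsOfBinaryProducts

/-!
# Horrocks' splitting criterion on `P^d`, `d ≥ 1`: the induction
-/

set_option autoImplicit false

universe u

open CategoryTheory CategoryTheory.Limits AlgebraicGeometry Opposite TopologicalSpace MvPolynomial

namespace Groth.Agent.Lib.Lead.SD

open Groth.Agent.Lib.Lead.LinLES Groth.Agent.Lib.Lead.Pn Groth.Agent.Lib.Lead.Koszul
open Groth.Agent.Lib.Helper29.QCoh Groth.Agent.Lib.Lead.TwistExact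

attribute [local instance] CategoryTheory.Abelian.hasFiniteBiproducts

section category

universe v' u'

variable {C : Type u'} [Category.{v'} C]

lemma nonempty_iso_sigma_succ [HasFiniteCoproducts C] [HasBinaryCoproducts C] {r : ℕ}
    (L : Fin (r + 1) → C) :
    Nonempty ((L 0 ⨿ ∐ fun j : Fin r => L j.succ) ≅ ∐ L) :=
  ⟨(extendCofanIsColimit L (colimit.isColimit (Discrete.functor fun j : Fin r => L j.succ))
    (colimit.isColimit (pair (L 0) (∐ fun j : Fin r => L j.succ)))).coconePointUniqueUpToIso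
      (colimit.isColimit (Discrete.functor L))⟩

lemma nonempty_biprod_iso_sigma [HasFiniteCoproducts C] [HasZeroMorphisms C]
    [HasBinaryBiproducts C] {r : ℕ}
    (L : Fin (r + 1) → C) (X Y : C) (e₀ : Y ≅ L 0) (e : X ≅ ∐ fun j : Fin r => L j.succ) :
    Nonempty (X ⊞ Y ≅ ∐ L) := by
  obtain ⟨e1⟩ := nonempty_iso_sigma_succ L
  exact ⟨biprod.braiding X Y ≪≫ biprod.isoCoprod Y X ≪≫ coprod.mapIso e₀ e ≪≫ e1⟩

lemma nonempty_iso_sigma_of_isZero [HasFiniteCoproducts C] [HasZeroMorphisms C]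
    {X : C} (hX : IsZero X) (L : Fin 0 → C) : Nonempty (X ≅ ∐ L) := by
  have h : IsInitial (∐ L) :=
    (isColimitEquivIsInitialOfIsEmpty C (colimit.cocone (Discrete.functor L)))
      (colimit.isColimit (Discrete.functor L))
  exact ⟨hX.isInitial.uniqueUpToIso h⟩

end category

section finrank

variable (n : ℕ) (K : Type u) [Field K]

/-- A proper direct summand has strictly smaller cohomology. -/
lemma finrank_lt_of_split {F' F W : (CohB1.ProjSpace n K).Modules} (i : F' ⟶ F) (r : F ⟶ F')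
    (s : W ⟶ F) (φ : F ⟶ W) (hir : i ≫ r = 𝟙 F') (hsφ : s ≫ φ = 𝟙 W) (hiφ : i ≫ φ = 0)
    (j : ℤ) (q : ℕ) [Module.Finite K (Coh.HH (CohB1.ProjSpace n K) (tw n K F j) q)]
    (hW : Nontrivial (Coh.HH (CohB1.ProjSpace n K) (tw n K W j) q)) :
    Module.finrank K (Coh.HH (CohB1.ProjSpace n K) (tw n K F' j) q) <
      Module.finrank K (Coh.HH (CohB1.ProjSpace n K) (tw n K F j) q) := by
  have key : Module.finrank K (Coh.HH (CohB1.ProjSpace n K)
        ((tensorRight (Twist.twistProjSpace n K j)).obj F') q) <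
      Module.finrank K (Coh.HH (CohB1.ProjSpace n K)
        ((tensorRight (Twist.twistProjSpace n K j)).obj F) q) := by
    haveI : Module.Finite K (Coh.HH (CohB1.ProjSpace n K)
        ((tensorRight (Twist.twistProjSpace n K j)).obj F) q) := ‹_›
    have hW' : Nontrivial (Coh.HH (CohB1.ProjSpace n K)
        ((tensorRight (Twist.twistProjSpace n K j)).obj W) q) := hW
    obtain ⟨I, hI⟩ : ∃ I, I = Canon.HHlin K ((tensorRight (Twist.twistProjSpace n K j)).map i) q :=
      ⟨_, rfl⟩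
    obtain ⟨Rr, hRr⟩ : ∃ Rr,
      Rr = Canon.HHlin K ((tensorRight (Twist.twistProjSpace n K j)).map r) q := ⟨_, rfl⟩
    obtain ⟨Φ, hΦ⟩ : ∃ Φ,
      Φ = Canon.HHlin K ((tensorRight (Twist.twistProjSpace n K j)).map φ) q := ⟨_, rfl⟩
    obtain ⟨Sg, hSg⟩ : ∃ Sg,
      Sg = Canon.HHlin K ((tensorRight (Twist.twistProjSpace n K j)).map s) q := ⟨_, rfl⟩
    have h1 : ∀ x, Rr (I x) = x := by
      intro x
      rw [hRr, hI, ← HHlin_comp, ← CategoryTheory.Functor.map_comp, hir,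
        CategoryTheory.Functor.map_id]
      exact HHlin_id K _ q x
    have h2 : ∀ w, Φ (Sg w) = w := by
      intro w
      rw [hΦ, hSg, ← HHlin_comp, ← CategoryTheory.Functor.map_comp, hsφ,
        CategoryTheory.Functor.map_id]
      exact HHlin_id K _ q w
    have h3 : ∀ x, Φ (I x) = 0 := by
      intro x
      rw [hΦ, hI, ← HHlin_comp, ← CategoryTheory.Functor.map_comp, hiφ,
        CategoryTheory.Functor.map_zero]
      exact HHlin_zero_apply q x
    have hinj : Function.Injective I := Function.LeftInverse.injective h1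
    obtain ⟨w, hw⟩ := exists_ne (0 : Coh.HH (CohB1.ProjSpace n K)
      ((tensorRight (Twist.twistProjSpace n K j)).obj W) q)
    have hlt : LinearMap.range I < ⊤ := by
      rw [lt_top_iff_ne_top]
      intro htop
      have hmem : Sg w ∈ LinearMap.range I := by rw [htop]; trivial
      obtain ⟨x, hx⟩ := hmem
      apply hw
      rw [← h2 w, ← hx, h3]
    rw [← LinearMap.finrank_range_of_inj hinj]
    exact Submodule.finrank_lt hlt.ne
  exact key

/-- `H^0(O(a)(j)) ≠ 0` when `a + j ≥ 0`. -/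
lemma nontrivial_HH_tw_twist (a j : ℤ) (h : 0 ≤ a + j) :
    Nontrivial (Coh.HH (CohB1.ProjSpace n K) (tw n K (Twist.twistProjSpace n K a) j) 0) := by
  obtain ⟨e, he⟩ := Int.eq_ofNat_of_zero_le h
  obtain ⟨ε⟩ := nonempty_tw_twist_iso n K a j (e : ℤ) he
  by_contra hcon
  rw [not_nontrivial_iff_subsingleton] at hcon
  have h1 : Subsingleton (Coh.HH (CohB1.ProjSpace n K) (Twist.twistProjSpace n K (e : ℤ)) 0) :=
    subsingleton_HH_of_iso ε 0 hcon
  have h2 : Subsingleton (CohB1.polyGrading n K e) := (h0TwistEquiv n K e).toEquiv.subsingleton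
  have hhom : (X 0 : MvPolynomial (Fin (n + 1)) K) ^ e ∈ CohB1.polyGrading n K e := by
    have := (isHomogeneous_X K (0 : Fin (n + 1))).pow e
    rw [one_mul] at this
    exact this
  have h3 : (⟨_, hhom⟩ : CohB1.polyGrading n K e) = 0 := Subsingleton.elim _ _
  have h4 : (X 0 : MvPolynomial (Fin (n + 1)) K) ^ e = 0 := congrArg Subtype.val h3
  exact pow_ne_zero e (X_ne_zero 0) h4

end finrank

section main

variable (m : ℕ) (K : Type u) [Field K]

/-- The induction for the converse direction of Horrocks' criterion. -/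
theorem horrocks_backward_aux
    (t : Coh.HH (CohB1.ProjSpace (m + 1) K)
      (Twist.twistProjSpace (m + 1) K (-((m : ℤ) + 2))) (m + 1) ≃ₗ[K] K) (m₁ : ℤ) :
    ∀ (h : ℕ) (F : (CohB1.ProjSpace (m + 1) K).Modules), Coh.IsCoh F →
      (∃ n₀ : ℤ, ∀ j : ℤ, j ≤ n₀ →
        Subsingleton (Coh.HH (CohB1.ProjSpace (m + 1) K) (tw (m + 1) K F j) 0)) →
      (∀ (j : ℤ) (i : ℕ), 1 ≤ i → i < m + 1 →
        Subsingleton (Coh.HH (CohB1.ProjSpace (m + 1) K) (tw (m + 1) K F j) i)) →
      Reg m K F m₁ →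
      Module.finrank K (Coh.HH (CohB1.ProjSpace (m + 1) K) (tw (m + 1) K F m₁) 0) = h →
      ∃ (r : ℕ) (a : Fin r → ℤ),
        Nonempty (F ≅ ∐ fun j => Twist.twistProjSpace (m + 1) K (a j)) := by
  intro h
  induction h using Nat.strong_induction_on with
  | _ h ih =>
  intro F hF hi hii hreg hh
  by_cases hF0 : IsZero F
  · exact ⟨0, Fin.elim0, nonempty_iso_sigma_of_isZero hF0 _⟩
  · obtain ⟨m₀, hm₀₁, hreg₀, hne⟩ := exists_nonvanishing_top m K F hF hF0 hi hii m₁ hreg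
    obtain ⟨s, φ, hsφ⟩ := exists_split m K t F hF m₀ hreg₀ hne
    have hS : (ShortComplex.mk (kernel.ι φ) φ (kernel.condition φ)).Exact :=
      ShortComplex.exact_kernel φ
    let σ := ShortComplex.Splitting.ofExactOfSection
      (ShortComplex.mk (kernel.ι φ) φ (kernel.condition φ)) hS s hsφ
      (inferInstanceAs (Mono (kernel.ι φ)))
    have hir : kernel.ι φ ≫ σ.r = 𝟙 _ := σ.f_r
    have hF' : Coh.IsCoh (kernel φ) :=
      (Groth.Agent.S9514.result _ hF (isCoh_twist (m + 1) K (-m₀)) φ).1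
    have hi' : ∃ n₀ : ℤ, ∀ j : ℤ, j ≤ n₀ →
        Subsingleton (Coh.HH (CohB1.ProjSpace (m + 1) K) (tw (m + 1) K (kernel φ) j) 0) := by
      obtain ⟨n₀, hn₀⟩ := hi
      exact ⟨n₀, fun j hj =>
        subsingleton_HH_tw_of_retract (m + 1) K (kernel.ι φ) σ.r hir j 0 (hn₀ j hj)⟩
    have hii' : ∀ (j : ℤ) (i : ℕ), 1 ≤ i → i < m + 1 →
        Subsingleton (Coh.HH (CohB1.ProjSpace (m + 1) K) (tw (m + 1) K (kernel φ) j) i) :=
      fun j i h1 h2 =>
        subsingleton_HH_tw_of_retract (m + 1) K (kernel.ι φ) σ.r hir j i (hii j i h1 h2)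
    have hreg' : Reg m K (kernel φ) m₁ := fun r hr p hp1 hpm =>
      subsingleton_HH_tw_of_retract (m + 1) K (kernel.ι φ) σ.r hir (r - p) p (hreg r hr p hp1 hpm)
    haveI : Module.Finite K (Coh.HH (CohB1.ProjSpace (m + 1) K) (tw (m + 1) K F m₁) 0) :=
      module_finite_HH_of_isCoh (m + 1) K _ (isCoh_tw (m + 1) K F hF m₁) 0
    have hlt : Module.finrank K
        (Coh.HH (CohB1.ProjSpace (m + 1) K) (tw (m + 1) K (kernel φ) m₁) 0) < h := by
      rw [← hh]
      exact finrank_lt_of_split (m + 1) K (kernel.ι φ) σ.r s φ hir hsφ (kernel.condition φ) m₁ 0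
        (nontrivial_HH_tw_twist (m + 1) K (-m₀) m₁ (by omega))
    obtain ⟨r, a, ⟨e⟩⟩ := ih _ hlt (kernel φ) hF' hi' hii' hreg' rfl
    refine ⟨r + 1, Fin.cons (-m₀) a, ?_⟩
    obtain ⟨e2⟩ := nonempty_biprod_iso_sigma
      (fun j : Fin (r + 1) => Twist.twistProjSpace (m + 1) K ((Fin.cons (-m₀) a : Fin (r + 1) → ℤ) j))
      (kernel φ) (Twist.twistProjSpace (m + 1) K (-m₀)) (Iso.refl _) e
    exact ⟨σ.isoBinaryBiproduct ≪≫ e2⟩

/-- **Horrocks' splitting criterion** on `P^{m+1}_K`. -/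
theorem horrocks (F : (CohB1.ProjSpace (m + 1) K).Modules) (hF : Coh.IsCoh F) :
    (∃ (r : ℕ) (a : Fin r → ℤ),
      Nonempty (F ≅ ∐ fun j => Twist.twistProjSpace (m + 1) K (a j))) ↔
    ((∃ n₀ : ℤ, ∀ j : ℤ, j ≤ n₀ →
        Subsingleton (Coh.HH (CohB1.ProjSpace (m + 1) K) (tw (m + 1) K F j) 0)) ∧
      ∀ (j : ℤ) (i : ℕ), 1 ≤ i → i < m + 1 →
        Subsingleton (Coh.HH (CohB1.ProjSpace (m + 1) K) (tw (m + 1) K F j) i)) := by
  constructor
  · rintro ⟨r, a, ⟨e⟩⟩
    exact horrocks_forward (m + 1) K (by omega) F r a e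
  · rintro ⟨hi, hii⟩
    obtain ⟨t0⟩ := Groth.Agent.S0845.result K (m + 1) 0
    have hcast : (-((((m + 1 : ℕ) : ℤ)) + 1 + ((0 : ℕ) : ℤ))) = -((m : ℤ) + 2) := by
      push_cast; ring
    rw [hcast] at t0
    obtain ⟨j₀, hj₀⟩ := exists_vanishing_tw (m + 1) K F hF
    have hreg : Reg m K F (j₀ + (m + 1 : ℕ)) := by
      intro r hr p hp1 hpm
      exact hj₀ (r - p) (by push_cast at hr ⊢; omega) p hp1
    exact horrocks_backward_aux m K
      (t0.trans (constEquiv (Fin (m + 1 + 1)) K)) (j₀ + (m + 1 : ℕ)) _ F hF hi hii hreg rfl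

end main

end Groth.Agent.Lib.Lead.SD
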