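import Groth.Agent.Lib.Helper29.Twist6
import Groth.Agent.Lib.Helper29.SerreA

/-!
# Multiplication of `H^0` by global sections of a second module
-/

set_option autoImplicit false

universe u

open CategoryTheory CategoryTheory.Limits AlgebraicGeometry Opposite TopologicalSpace

namespace Groth.Agent.Lib.Lead.SD

open Groth.Agent.Lib.Helper29.QCoh

section

variable {X : Scheme.{u}} {G L M : X.Modules} (ε : CohB1.tensorMod G L ⟶ M)

/-- The multiplication `Γ(L) × H^0(G) → H^0(M)` attached to `ε : G ⊗ L ⟶ M`. -/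
noncomputable def mulFun (w : Γ(L, ⊤)) (v : Coh.HH X G 0) : Coh.HH X M 0 :=
  (hh0 M).symm (ε.app ⊤ (tmulSec G L (hh0 G v) w))

lemma hh0_mulFun (w : Γ(L, ⊤)) (v : Coh.HH X G 0) :
    hh0 M (mulFun ε w v) = ε.app ⊤ (tmulSec G L (hh0 G v) w) := by
  unfold mulFun
  rw [AddEquiv.apply_symm_apply]

lemma mulFun_add_left (w w' : Γ(L, ⊤)) (v : Coh.HH X G 0) :
    mulFun ε (w + w') v = mulFun ε w v + mulFun ε w' v := by
  apply (hh0 M).injective
  rw [map_add, hh0_mulFun, hh0_mulFun, hh0_mulFun, tmulSec_add_right, map_add]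

lemma mulFun_add_right (w : Γ(L, ⊤)) (v v' : Coh.HH X G 0) :
    mulFun ε w (v + v') = mulFun ε w v + mulFun ε w v' := by
  apply (hh0 M).injective
  rw [map_add, hh0_mulFun, hh0_mulFun, hh0_mulFun, map_add, tmulSec_add_left, map_add]

lemma mulFun_smul_left (r : Coh.Γtop X) (w : Γ(L, ⊤)) (v : Coh.HH X G 0) :
    mulFun ε ((show Γ(X, ⊤) from r) • w) v = r • mulFun ε w v := by
  apply (hh0 M).injective
  rw [hh0_smul, hh0_mulFun, hh0_mulFun, tmulSec_smul_right, Scheme.Modules.Hom.app_smul]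

lemma mulFun_smul_right (r : Coh.Γtop X) (w : Γ(L, ⊤)) (v : Coh.HH X G 0) :
    mulFun ε w (r • v) = r • mulFun ε w v := by
  apply (hh0 M).injective
  rw [hh0_smul, hh0_mulFun, hh0_mulFun, hh0_smul, tmulSec_smul_left,
    Scheme.Modules.Hom.app_smul]

lemma mulFun_eq_zero_iff [IsIso ε] (w : Γ(L, ⊤)) (v : Coh.HH X G 0) :
    mulFun ε w v = 0 ↔ tmulSec G L (hh0 G v) w = 0 := by
  constructor
  · intro hv
    have h1 := congrArg (hh0 M) hv
    rw [hh0_mulFun, map_zero] at h1
    exact (app_bijective_of_isIso ε ⊤).1 (h1.trans (map_zero _).symm)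
  · intro h
    apply (hh0 M).injective
    rw [hh0_mulFun, h, map_zero, map_zero]

end

end Groth.Agent.Lib.Lead.SD
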