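import Groth.Agent.Lib.Lead.SD.TorsionFree
import Groth.Agent.Lib.Lead.SD.Count
import Groth.Agent.Lib.Lead.SD.MulSec
import Groth.Agent.Lib.Lead.SD.Horrocks2
import Groth.Agent.Lib.Helper29.Pic1
import Groth.Agent.Lib.Helper29.Res2
import Groth.Agent.Lib.Helper29.TwistPn2
import Groth.Agent.Lib.Lead.Pn.HomogRank

/-!
# `H^0(E(n)) = 0` for `n ≪ 0`, `E` locally free on `P^N_k`
-/

set_option autoImplicit false

universe u

open CategoryTheory CategoryTheory.Limits AlgebraicGeometry Opposite TopologicalSpace MvPolynomial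

namespace Groth.Agent.Lib.Lead.SD

open Groth.Agent.Lib.Lead.LinLES Groth.Agent.Lib.Lead.Pn Groth.Agent.Lib.Lead.Koszul
open Groth.Agent.Lib.Helper29.QCoh Groth.Agent.Lib.Lead.TwistExact

section

variable (N : ℕ) (k : Type u) [Field k]

instance isIntegral_projSpace' : IsIntegral (CohB1.ProjSpace N k) :=
  inferInstanceAs (IsIntegral (Proj (CohB1.polyGrading N k)))

lemma isCoh_of_isFinLocFree {X : Scheme.{u}} {E : X.Modules} (hE : FlatMod.IsFinLocFree E) :
    Coh.IsCoh E := by
  haveI := isFinitePresentation_of_isFinLocFree hE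
  exact ⟨inferInstance, inferInstance⟩

lemma isFinLocFree_tw (E : (CohB1.ProjSpace N k).Modules) (hE : FlatMod.IsFinLocFree E) (n : ℤ) :
    FlatMod.IsFinLocFree (tw N k E n) :=
  Res.isFinLocFree_tensor_invertible hE (twist_isInvertible N k n)

lemma polySec_zero (e : ℕ) : polySec N k e 0 = 0 := by
  have h := polySec_add N k e 0 0
  rw [add_zero] at h
  exact (add_eq_left.mp h.symm)

end

section

variable (N : ℕ) (k : Type u) [Field k] {G M : (CohB1.ProjSpace N k).Modules} (e : ℕ)
  (ε : CohB1.tensorMod G (Twist.twistProjSpace N k (e : ℤ)) ⟶ M)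

/-- The multiplication `H^0(O(e)) × H^0(G) → H^0(M)` as a bilinear map. -/
noncomputable def mulB : CohB1.polyGrading N k e →ₗ[k]
      Coh.HH (CohB1.ProjSpace N k) G 0 →ₗ[k] Coh.HH (CohB1.ProjSpace N k) M 0 :=
  LinearMap.mk₂ k (fun w v => mulFun ε (polySec N k e w) v)
    (by
      intro w w' v
      rw [polySec_add]
      exact mulFun_add_left ε (polySec N k e w) (polySec N k e w') v)
    (by
      intro r w v
      rw [polySec_smul]
      exact mulFun_smul_left ε (Coh.toGlobal (CohB1.ProjSpace.toSpec N k) r) _ v)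
    (by
      intro w v v'
      exact mulFun_add_right ε (polySec N k e w) v v')
    (by
      intro r w v
      exact mulFun_smul_right ε (Coh.toGlobal (CohB1.ProjSpace.toSpec N k) r) _ v)

lemma mulB_apply (w : CohB1.polyGrading N k e) (v : Coh.HH (CohB1.ProjSpace N k) G 0) :
    mulB N k e ε w v = mulFun ε (polySec N k e w) v := rfl

lemma mulB_injective [IsIso ε] (hG : FlatMod.IsFinLocFree G)
    (w : CohB1.polyGrading N k e) (hw : w ≠ 0) :
    Function.Injective (mulB N k e ε w) := by
  rw [injective_iff_map_eq_zero]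
  intro v hv
  rw [mulB_apply, mulFun_eq_zero_iff] at hv
  let s := homOfSection (Twist.twistProjSpace N k (e : ℤ)) (polySec N k e w)
  have hsv : sval s ⊤ = polySec N k e w := by
    rw [sval_homOfSection, res_self]
  have hs : s ≠ 0 := by
    intro h0
    apply hw
    apply polySec_injective N k e
    rw [polySec_zero, ← hsv, h0]
    rfl
  rw [← hsv] at hv
  have h3 := eq_zero_of_tmulSec_eq_zero hG (twist_isInvertible N k (e : ℤ)) s hs _ hv
  exact (hh0 G).injective (h3.trans (map_zero _).symm)

end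

section

variable (N : ℕ) (k : Type u) [Field k]

lemma succ_le_choose (e N : ℕ) (hN : 1 ≤ N) : e + 1 ≤ Nat.choose (e + N) N := by
  induction N, hN using Nat.le_induction with
  | base => simp
  | succ N hN ih =>
    have h1 : e + (N + 1) = (e + N) + 1 := by omega
    rw [h1, Nat.choose_succ_succ]
    omega

/-- A chosen isomorphism `E(n)(e) ≅ E(m)` for `m = n + e`. -/
noncomputable def twAddIso (E : (CohB1.ProjSpace N k).Modules) (n m : ℤ) (e : ℕ)
    (h : m = n + e) : tw N k (tw N k E n) (e : ℤ) ≅ tw N k E m :=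
  (nonempty_tw_tw_iso N k E n e).some ≪≫ eqToIso (by rw [h])

/-- For `E` finite locally free on `P^N_k`, `N ≥ 1`: `H^0(E(n)) = 0` for `n ≪ 0`. -/
theorem exists_forall_le_subsingleton_HH_zero (hN : 1 ≤ N)
    (E : (CohB1.ProjSpace N k).Modules) (hE : FlatMod.IsFinLocFree E) :
    ∃ n₀ : ℤ, ∀ n : ℤ, n ≤ n₀ →
      Subsingleton (Coh.HH (CohB1.ProjSpace N k) (tw N k E n) 0) := by
  haveI : ∀ n : ℤ, Module.Finite k (Coh.HH (CohB1.ProjSpace N k) (tw N k E n) 0) := fun n =>
    module_finite_HH_of_isCoh N k _ (isCoh_of_isFinLocFree (isFinLocFree_tw N k E hE n)) 0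
  refine exists_forall_le_subsingleton (k := k)
    (fun n : ℤ => Coh.HH (CohB1.ProjSpace N k) (tw N k E n) 0)
    (fun e : ℕ => CohB1.polyGrading N k e) ?_
    (fun n m e h => mulB N k e (twAddIso N k E n m e h).hom)
    (fun n m e h w hw => mulB_injective N k e (twAddIso N k E n m e h).hom
      (isFinLocFree_tw N k E hE n) w hw)
  intro e
  have h1 : Module.finrank k (CohB1.polyGrading N k e) = Nat.choose (e + N) N :=
    Groth.Agent.Lib.Lead.Pn.finrank_homogeneousSubmodule k N e
  rw [h1]
  exact succ_le_choose e N hN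

end

end Groth.Agent.Lib.Lead.SD
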