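import Groth.Agent.Lib.Lead.Pn.TwistSeq
import Groth.Agent.Lib.Lead.Pn.Finite
import Groth.Agent.Lib.Helper18.CZ1
import Groth.Agent.Lib.Helper25.SuppTensor
import Groth.Agent.Lib.Helper12.Dev6
import Groth.Agent.S0458
import Groth.Agent.S9514
import Groth.Agent.S0022
import Groth.Prelude.Def_Curv2

/-!
# Regularity of the cokernel and image of a complex with termwise regular terms on `P^n_k`

Let `E` be a bounded chain complex of coherent modules on `P^n_k` such that `E_s` is
`(d + s)`-regular and the homology sheaves `H_i(E)`, `i > 0`, have support of dimension `≤ 1`.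
Then `coker (E_1 → E_0)` is `d`-regular and `im (E_1 → E_0)` is `(d + 1)`-regular.

The proof is a descending induction on `s` of the statement
`H^j((im d_s)(d + s + 1 - j)) = 0` for all `j ≥ s + 1`, using the short exact sequences
`0 → Z_{s+1} → E_{s+1} → im d_s → 0` and `0 → im d_{s+1} → Z_{s+1} → H_{s+1} → 0` and the vanishing
of `H^j`, `j ≥ 2`, of coherent modules with support of dimension `≤ 1` (Grothendieck vanishing on
the support).
-/

set_option autoImplicit false

universe u

open CategoryTheory CategoryTheory.Limits AlgebraicGeometry Opposite TopologicalSpace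

namespace Groth.Agent.Lib.Lead.SD.RegComplex

open Groth.Agent.Lib.Lead.Pn Groth.Agent.Lib.Lead.TwistExact Groth.Agent.Lib.Helper29.QCoh

variable (k : Type u) [Field k] (n : ℕ)

/-- `H^j(M(a)) = 0`. -/
abbrev V (M : (CohB1.ProjSpace n k).Modules) (a : ℤ) (j : ℕ) : Prop :=
  Subsingleton (Coh.HH (CohB1.ProjSpace n k) (tw n k M a) j)

lemma isCoh_tw (F : (CohB1.ProjSpace n k).Modules) (hF : Coh.IsCoh F) (j : ℤ) :
    Coh.IsCoh (tw n k F j) := by
  haveI : F.IsQuasicoherent := hF.1
  haveI : F.IsFiniteType := hF.2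
  have hcohO := isCoh_twist n k j
  haveI := hcohO.1
  haveI := hcohO.2
  exact ⟨inferInstance, inferInstance⟩

/-- A coherent module on `P^n_k` whose support has dimension `≤ 1` has no cohomology in degrees
`≥ 2`. -/
theorem subsingleton_HH_of_dim_support_le_one (G : (CohB1.ProjSpace n k).Modules)
    (hG : Coh.IsCoh G) (hdim : topologicalKrullDim (CohB1.support G) ≤ 1) (j : ℕ) (hj : 2 ≤ j) :
    Subsingleton (Coh.HH (CohB1.ProjSpace n k) G j) := by
  haveI : IsNoetherian (Proj (CohB1.polyGrading n k)) :=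
    Groth.Agent.S2357.result (CohB1.polyGrading n k)
  haveI : IsNoetherian (CohB1.ProjSpace n k) :=
    inferInstanceAs (IsNoetherian (Proj (CohB1.polyGrading n k)))
  haveI : G.IsFiniteType := hG.2
  have hW : IsClosed (CohB1.support G) := Groth.Agent.Lib.Helper12.H12Dev.isClosed_support G
  let Wc : Closeds (CohB1.ProjSpace n k) := ⟨CohB1.support G, hW⟩
  let ι := (Scheme.IdealSheafData.vanishingIdeal Wc).subschemeι
  have hr : Set.range ι = CohB1.support G :=
    Groth.Agent.Lib.Helper12.H12Dev.range_subschemeι_vanishingIdeal Wc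
  refine Groth.Agent.Lib.Helper18.CZ1.subsingleton_HH_of_support ι j ?_ G hG (by rw [hr])
  intro N _
  have hmem : ∀ z, ι z ∈ CohB1.support G := fun z => hr ▸ Set.mem_range_self z
  have hind : Topology.IsInducing (Set.codRestrict ι (CohB1.support G) hmem) :=
    ι.isClosedEmbedding.isInducing.codRestrict hmem
  have hdimZ : topologicalKrullDim ↥(Scheme.IdealSheafData.vanishingIdeal Wc).subscheme ≤ 1 :=
    hind.topologicalKrullDim_le.trans hdim
  haveI : NoetherianSpace ↥(Scheme.IdealSheafData.vanishingIdeal Wc).subscheme :=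
    ι.isClosedEmbedding.isInducing.noetherianSpace
  haveI : NoetherianSpace ↑(Scheme.IdealSheafData.vanishingIdeal Wc).subscheme.toTopCat :=
    (inferInstance : NoetherianSpace ↥(Scheme.IdealSheafData.vanishingIdeal Wc).subscheme)
  exact Groth.Agent.S0458.result
    (X := (Scheme.IdealSheafData.vanishingIdeal Wc).subscheme.toTopCat) 1 hdimZ (Coh.toAb N) j
    (by omega)

theorem V_of_dim_support_le_one (G : (CohB1.ProjSpace n k).Modules)
    (hG : Coh.IsCoh G) (hdim : topologicalKrullDim (CohB1.support G) ≤ 1) (a : ℤ) (j : ℕ)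
    (hj : 2 ≤ j) : V k n G a j :=
  subsingleton_HH_of_dim_support_le_one k n _ (isCoh_tw k n G hG a)
    ((Groth.Agent.Lib.Helper25.SuppTensor.topologicalKrullDim_support_tensorMod_le G _).trans hdim)
    j hj

theorem V_X₃ (S : ShortComplex (CohB1.ProjSpace n k).Modules) (hS : S.ShortExact) (a : ℤ)
    (q : ℕ) (h₂ : V k n S.X₂ a q) (h₁ : V k n S.X₁ a (q + 1)) : V k n S.X₃ a q :=
  subsingleton_HH_X₃ (S.map (tensorRight (Twist.twistProjSpace n k a)))
    (shortExact_map_tw n k S hS a) q h₂ h₁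

theorem V_X₂ (S : ShortComplex (CohB1.ProjSpace n k).Modules) (hS : S.ShortExact) (a : ℤ)
    (q : ℕ) (h₁ : V k n S.X₁ a q) (h₃ : V k n S.X₃ a q) : V k n S.X₂ a q :=
  Groth.Agent.Lib.Lead.Koszul.subsingleton_HH_X₂ (S.map (tensorRight (Twist.twistProjSpace n k a)))
    (shortExact_map_tw n k S hS a) q h₁ h₃

theorem V_of_isZero (M : (CohB1.ProjSpace n k).Modules) (hM : IsZero M) (a : ℤ) (j : ℕ) :
    V k n M a j :=
  Groth.Agent.Lib.Helper18.CZ1.subsingleton_HH_of_isZero
    ((tensorRight (Twist.twistProjSpace n k a)).map_isZero hM) j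

theorem V_of_regular (M : (CohB1.ProjSpace n k).Modules) (hM : Coh.IsCoh M) (m : ℤ)
    (hreg : Curv2.IsMRegular k n M m) (j : ℕ) (hj : 1 ≤ j) : V k n M (m - j) j := by
  by_cases hjn : j ≤ n
  · exact hreg j hj hjn
  · haveI : M.IsQuasicoherent := hM.1
    haveI : Coh.IsQCoh (tw n k M (m - j)) :=
      (inferInstance : (tw n k M (m - j)).IsQuasicoherent)
    exact Groth.Agent.S0022.result n k _ j (by omega)

section Main

variable (E : ChainComplex ((CohB1.ProjSpace n k).Modules) ℕ)

/-- `0 → Z_{s+1} → E_{s+1} → im d_s → 0`. -/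
noncomputable def S₁ (s : ℕ) : ShortComplex (CohB1.ProjSpace n k).Modules :=
  ShortComplex.mk (E.iCycles (s + 1)) (Abelian.factorThruImage (E.d (s + 1) s)) (by
    rw [← cancel_mono (Abelian.image.ι (E.d (s + 1) s)), Category.assoc, Abelian.image.fac,
      zero_comp]
    exact E.iCycles_d (s + 1) s)

lemma S₁_shortExact (s : ℕ) : (S₁ k n E s).ShortExact := by
  have hex : (ShortComplex.mk (E.iCycles (s + 1)) (E.d (s + 1) s) (E.iCycles_d (s + 1) s)).Exact :=
    ShortComplex.exact_of_f_is_kernel _ (E.cyclesIsKernel (s + 1) s (by simp))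
  let φ : S₁ k n E s ⟶
      ShortComplex.mk (E.iCycles (s + 1)) (E.d (s + 1) s) (E.iCycles_d (s + 1) s) :=
    { τ₁ := 𝟙 _
      τ₂ := 𝟙 _
      τ₃ := Abelian.image.ι _
      comm₁₂ := by simp [S₁]
      comm₂₃ := by simp [S₁] }
  haveI : Epi φ.τ₁ := inferInstanceAs (Epi (𝟙 _))
  haveI : IsIso φ.τ₂ := inferInstanceAs (IsIso (𝟙 _))
  haveI : Mono φ.τ₃ := inferInstanceAs (Mono (Abelian.image.ι _))
  have hex' : (S₁ k n E s).Exact := (ShortComplex.exact_iff_of_epi_of_isIso_of_mono φ).2 hex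
  haveI : Mono (S₁ k n E s).f := by dsimp only [S₁]; infer_instance
  haveI : Epi (S₁ k n E s).g := by dsimp only [S₁]; infer_instance
  exact ShortComplex.ShortExact.mk hex'

/-- The inclusion of the boundaries into the cycles. -/
noncomputable def bd (s : ℕ) : Abelian.image (E.d (s + 2) (s + 1)) ⟶ E.cycles (s + 1) :=
  E.liftCycles (Abelian.image.ι (E.d (s + 2) (s + 1))) s (by simp) (by
    rw [← cancel_epi (Abelian.factorThruImage (E.d (s + 2) (s + 1))), ← Category.assoc,
      Abelian.image.fac, comp_zero]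
    exact E.d_comp_d _ _ _)

lemma bd_i (s : ℕ) : bd k n E s ≫ E.iCycles (s + 1) = Abelian.image.ι (E.d (s + 2) (s + 1)) := by
  simp [bd]

lemma fac_bd (s : ℕ) :
    Abelian.factorThruImage (E.d (s + 2) (s + 1)) ≫ bd k n E s = E.toCycles (s + 2) (s + 1) := by
  rw [← cancel_mono (E.iCycles (s + 1)), Category.assoc, bd_i, Abelian.image.fac,
    HomologicalComplex.toCycles_i]

/-- `0 → im d_{s+1} → Z_{s+1} → H_{s+1} → 0`. -/
noncomputable def S₂ (s : ℕ) : ShortComplex (CohB1.ProjSpace n k).Modules :=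
  ShortComplex.mk (bd k n E s) (E.homologyπ (s + 1)) (by
    rw [← cancel_epi (Abelian.factorThruImage (E.d (s + 2) (s + 1))), ← Category.assoc, fac_bd,
      comp_zero]
    exact E.toCycles_comp_homologyπ _ _)

lemma S₂_shortExact (s : ℕ) : (S₂ k n E s).ShortExact := by
  have hex : (ShortComplex.mk (E.toCycles (s + 2) (s + 1)) (E.homologyπ (s + 1))
      (E.toCycles_comp_homologyπ _ _)).Exact :=
    ShortComplex.exact_of_g_is_cokernel _ (E.homologyIsCokernel (s + 2) (s + 1) (by simp))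
  let φ : ShortComplex.mk (E.toCycles (s + 2) (s + 1)) (E.homologyπ (s + 1))
      (E.toCycles_comp_homologyπ _ _) ⟶ S₂ k n E s :=
    { τ₁ := Abelian.factorThruImage _
      τ₂ := 𝟙 _
      τ₃ := 𝟙 _
      comm₁₂ := by simp [S₂, fac_bd]
      comm₂₃ := by simp [S₂] }
  haveI : Epi φ.τ₁ := inferInstanceAs (Epi (Abelian.factorThruImage _))
  haveI : IsIso φ.τ₂ := inferInstanceAs (IsIso (𝟙 _))
  haveI : Mono φ.τ₃ := inferInstanceAs (Mono (𝟙 _))
  have hex' : (S₂ k n E s).Exact := (ShortComplex.exact_iff_of_epi_of_isIso_of_mono φ).1 hex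
  haveI : Mono (bd k n E s) := by
    haveI : Mono (bd k n E s ≫ E.iCycles (s + 1)) := by rw [bd_i]; infer_instance
    exact mono_of_mono (bd k n E s) (E.iCycles (s + 1))
  haveI : Mono (S₂ k n E s).f := by dsimp only [S₂]; infer_instance
  haveI : Epi (S₂ k n E s).g := by dsimp only [S₂]; infer_instance
  exact ShortComplex.ShortExact.mk hex'

/-- `0 → im d_0 → E_0 → coker d_0 → 0`. -/
noncomputable def S₃ : ShortComplex (CohB1.ProjSpace n k).Modules :=
  ShortComplex.mk (Abelian.image.ι (E.d 1 0)) (cokernel.π (E.d 1 0)) (kernel.condition _)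

lemma S₃_shortExact : (S₃ k n E).ShortExact := by
  haveI : Mono (S₃ k n E).f := by dsimp only [S₃]; infer_instance
  haveI : Epi (S₃ k n E).g := by dsimp only [S₃]; infer_instance
  exact ShortComplex.ShortExact.mk (ShortComplex.exact_of_f_is_kernel _ (kernelIsKernel _))

lemma isCoh_homology (hcoh : ∀ s : ℕ, Coh.IsCoh (E.X s)) (s : ℕ) :
    Coh.IsCoh (E.homology (s + 1)) := by
  haveI : IsLocallyNoetherian (CohB1.ProjSpace n k) := inferInstance
  have e₁ : E.cycles (s + 1) ≅ kernel (E.d (s + 1) s) :=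
    (E.cyclesIsKernel (s + 1) s (by simp)).conePointUniqueUpToIso (limit.isLimit _)
  have hZ : Coh.IsCoh (E.cycles (s + 1)) :=
    Groth.Agent.Lib.Helper12.H12Dev.isCoh_of_iso e₁.symm
      (Groth.Agent.S9514.result _ (hcoh _) (hcoh _) (E.d (s + 1) s)).1
  have e₂ : E.homology (s + 1) ≅ cokernel (E.toCycles (s + 2) (s + 1)) :=
    (E.homologyIsCokernel (s + 2) (s + 1) (by simp)).coconePointUniqueUpToIso
      (colimit.isColimit _)
  exact Groth.Agent.Lib.Helper12.H12Dev.isCoh_of_iso e₂.symm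
    (Groth.Agent.S9514.result _ (hcoh _) hZ (E.toCycles (s + 2) (s + 1))).2

theorem main (t : ℕ) (hbdd : ∀ s : ℕ, t < s → IsZero (E.X s))
    (hcoh : ∀ s : ℕ, Coh.IsCoh (E.X s)) (d : ℤ)
    (hreg : ∀ s : ℕ, Curv2.IsMRegular k n (E.X s) (d + s))
    (hsupp : ∀ i : ℕ, 0 < i → topologicalKrullDim (CohB1.support (E.homology i)) ≤ 1) :
    ∀ m s : ℕ, t ≤ s + m → ∀ j : ℕ, s + 1 ≤ j →
      V k n (Abelian.image (E.d (s + 1) s)) (d + s + 1 - j) j := by
  intro m
  induction m with
  | zero =>
    intro s hs j _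
    have hz : IsZero (E.X (s + 1)) := hbdd (s + 1) (by omega)
    have hz' : IsZero (Abelian.image (E.d (s + 1) s)) :=
      IsZero.of_epi (Abelian.factorThruImage (E.d (s + 1) s)) hz
    exact V_of_isZero k n _ hz' _ _
  | succ m ih =>
    intro s hs j hj
    have hP := ih (s + 1) (by omega)
    refine V_X₃ k n (S₁ k n E s) (S₁_shortExact k n E s) _ j ?_ ?_
    · have h := V_of_regular k n (E.X (s + 1)) (hcoh _) (d + ((s + 1 : ℕ) : ℤ)) (hreg (s + 1)) j
        (by omega)
      have e : d + ((s + 1 : ℕ) : ℤ) - (j : ℤ) = d + s + 1 - j := by push_cast; ring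
      rw [e] at h
      exact h
    · refine V_X₂ k n (S₂ k n E s) (S₂_shortExact k n E s) _ (j + 1) ?_ ?_
      · have h := hP (j + 1) (by omega)
        have e : d + ((s + 1 : ℕ) : ℤ) + 1 - ((j + 1 : ℕ) : ℤ) = d + s + 1 - j := by
          push_cast; ring
        rw [e] at h
        exact h
      · exact V_of_dim_support_le_one k n _ (isCoh_homology k n E hcoh s)
          (hsupp (s + 1) (by omega)) _ (j + 1) (by omega)

theorem regular_cokernel_and_image (t : ℕ) (hbdd : ∀ s : ℕ, t < s → IsZero (E.X s))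
    (hcoh : ∀ s : ℕ, Coh.IsCoh (E.X s)) (d : ℤ)
    (hreg : ∀ s : ℕ, Curv2.IsMRegular k n (E.X s) (d + s))
    (hsupp : ∀ i : ℕ, 0 < i → topologicalKrullDim (CohB1.support (E.homology i)) ≤ 1) :
    Curv2.IsMRegular k n (cokernel (E.d 1 0)) d ∧
      Curv2.IsMRegular k n (Abelian.image (E.d 1 0)) (d + 1) := by
  have hP := main k n E t hbdd hcoh d hreg hsupp t 0 (by omega)
  have himg : ∀ j : ℕ, 1 ≤ j → V k n (Abelian.image (E.d 1 0)) (d + 1 - j) j := by
    intro j hj
    have h := hP j (by omega)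
    have e : d + ((0 : ℕ) : ℤ) + 1 - (j : ℤ) = d + 1 - j := by push_cast; ring
    rw [e] at h
    exact h
  refine ⟨fun i hi hin => ?_, fun i hi _ => himg i hi⟩
  refine V_X₃ k n (S₃ k n E) (S₃_shortExact k n E) (d - i) i ?_ ?_
  · have h := hreg 0 i hi hin
    have e : d + ((0 : ℕ) : ℤ) - (i : ℤ) = d - i := by push_cast; ring
    rw [e] at h
    exact h
  · have h := himg (i + 1) (by omega)
    have e : d + 1 - ((i + 1 : ℕ) : ℤ) = d - i := by push_cast; ring
    rw [e] at h
    exact h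

end Main

end Groth.Agent.Lib.Lead.SD.RegComplex
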