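import Groth.Agent.Lib.Lead.SD.CMVanish2
import Groth.Agent.Lib.Helper29.RegDim1
import Groth.Agent.Lib.Helper18.PMor3
import Groth.Agent.Lib.Helper29.ProjF4

/-!
# Cohen–Macaulayness of closed subschemes of `P^N_k` and vanishing of cohomology of negative twists
(Hartshorne III.7.6, (i) ⇔ (ii))
-/

set_option autoImplicit false

universe u

open CategoryTheory CategoryTheory.Limits AlgebraicGeometry TopologicalSpace Opposite Abelian

namespace Groth.Agent.Lib.Lead.SD.CMEquiv

open Groth.Agent.Lib.Helper29.QCoh Groth.Agent.Lib.Lead.SD.CMVanish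

variable (k : Type u) [Field k] (N : ℕ) {X : Scheme.{u}} (ι : X ⟶ CohB1.ProjSpace N k)
  [IsClosedImmersion ι]

/-- the dimension of `P^N_k` is at most `N` -/
theorem topologicalKrullDim_projSpace_le :
    topologicalKrullDim ↥(CohB1.ProjSpace N k) ≤ (N : WithBot ℕ∞) := by
  rw [Groth.Agent.Lib.Helper14.AS.topologicalKrullDim_eq_iSup_stalk]
  refine iSup_le fun z => ?_
  obtain ⟨a, ha⟩ := Groth.Agent.Lib.Helper21.FibDim.exists_nat_trdeg k (CohB1.ProjSpace N k) z
  obtain ⟨b, hb⟩ := Groth.Agent.Lib.Helper21.exists_nat_eq_ringKrullDim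
    (R := (CohB1.ProjSpace N k).presheaf.stalk z)
  have h2 := Groth.Agent.Lib.Helper17.PnReg.trdeg_add_dim k N z a b ha hb
  rw [hb]
  have : b ≤ N := by omega
  exact_mod_cast this

include ι in
theorem dim_le (n : ℕ) (hn : topologicalKrullDim ↥X = n) : n ≤ N := by
  have h1 : topologicalKrullDim ↥X ≤ topologicalKrullDim ↥(CohB1.ProjSpace N k) :=
    ι.isClosedEmbedding.isInducing.topologicalKrullDim_le
  have h2 := h1.trans (topologicalKrullDim_projSpace_le k N)
  rw [hn] at h2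
  exact_mod_cast h2

/-- **(i) ⇒ (ii) for coherent sheaves of depth `≥ n`** -/
theorem exists_vanishing_of_depth (n : ℕ) (hnN : n ≤ N) (F : X.Modules) (hFc : Coh.IsCoh F)
    (hdepth : ∀ x : X, IsClosed ({x} : Set ↥X) →
      (n : ℕ∞) ≤ LocCoh.depth (X.presheaf.stalk x) (F.presheaf.stalk x))
    (j : ℕ) (hj : j < n) :
    ∃ m₀ : ℤ, ∀ m : ℤ, m₀ ≤ m → Subsingleton (Coh.HH X (CohB1.tensorMod F
      ((Scheme.Modules.pullback ι).obj (Twist.twistProjSpace N k (-m)))) j) := by
  haveI : EnoughInjectives (CohB1.ProjSpace N k).Modules :=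
    Groth.Agent.S0485.result (Opens.grothendieckTopology (CohB1.ProjSpace N k))
      (CohB1.ProjSpace N k).ringCatSheaf
  haveI : HasInjectiveResolutions (ModSite.Mod (CohB1.ProjSpace N k).sheaf) :=
    inferInstanceAs (HasInjectiveResolutions (CohB1.ProjSpace N k).Modules)
  haveI : ModSite.HasSheafHom (O := (CohB1.ProjSpace N k).sheaf)
      ((Scheme.Modules.pushforward ι).obj F) :=
    Groth.Agent.Lib.Helper17.IHom.hasSheafHom _
  haveI := hFc.1
  have hG : Coh.IsCoh ((Scheme.Modules.pushforward ι).obj F) :=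
    Groth.Agent.Lib.Lead.Koszul.isCoh_push N k ι _ hFc
  have h1 := (Groth.Agent.Lib.Helper17.DualVanish.vanishing_iff k N
    ((Scheme.Modules.pushforward ι).obj F) hG j (by omega)).mpr
    (isZero_extSh_push_of_depth k N ι F hFc n hdepth _
      (Groth.Agent.Lib.Lead.Pn.isInvertible_twistProjSpace N k _)
      (Groth.Agent.Lib.Lead.Pn.isCoh_twist N k _) (N - j) (by omega))
  obtain ⟨m₀, hm₀⟩ := h1
  refine ⟨m₀, fun m hm => ?_⟩
  haveI : (Twist.twistProjSpace N k (-m)).IsQuasicoherent :=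
    (Groth.Agent.Lib.Lead.Pn.isCoh_twist N k (-m)).1
  rw [Groth.Agent.Lib.Lead.Koszul.subsingleton_HH_iff_push ι (Twist.twistProjSpace N k (-m))
    (Groth.Agent.Lib.Lead.Koszul.isFinLocFree_twist N k (-m)) F j]
  exact hm₀ m hm

/-- depth of a finite locally free module at a Cohen–Macaulay point -/
theorem le_depth_of_isFinLocFree (n : ℕ) (F : X.Modules) (hF : FlatMod.IsFinLocFree F) (x : X)
    (hcm : LocCoh.IsCohenMacaulayLocalRing (X.presheaf.stalk x))
    (hdim : ringKrullDim (X.presheaf.stalk x) = n) :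
    (n : ℕ∞) ≤ LocCoh.depth (X.presheaf.stalk x) (F.presheaf.stalk x) := by
  haveI : Module.Flat (X.presheaf.stalk x) (F.presheaf.stalk x) :=
    Groth.Agent.Lib.Helper28.DCohRes.isFlat_of_isFinLocFree hF x
  have h2 := hcm.supportDim_eq_depth
  rw [Module.supportDim_self_eq_ringKrullDim, hdim] at h2
  have h3 : (n : ℕ∞) = LocCoh.depth (X.presheaf.stalk x) (X.presheaf.stalk x) := by
    exact_mod_cast h2
  rw [h3]
  exact Groth.Agent.Lib.Helper5.DepthFlat.depth_le_of_flat (F.presheaf.stalk x)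

/-- **Hartshorne III.7.6 (i) ⇒ (ii) for vector bundles** -/
theorem exists_vanishing_of_CM_of_isFinLocFree (n : ℕ) (hn : topologicalKrullDim ↥X = n)
    (hCM : ∀ x : X, IsClosed ({x} : Set ↥X) →
      LocCoh.IsCohenMacaulayLocalRing (X.presheaf.stalk x) ∧
        ringKrullDim (X.presheaf.stalk x) = n)
    (F : X.Modules) (hF : FlatMod.IsFinLocFree F) :
    ∃ q₀ : ℕ, ∀ q : ℕ, q₀ ≤ q → ∀ j : ℕ, j < n →
      Subsingleton (Coh.HH X (CohB1.tensorMod F
        ((Scheme.Modules.pullback ι).obj (Twist.twistProjSpace N k (-(q : ℤ))))) j) := by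
  have hnN : n ≤ N := dim_le k N ι n hn
  have hFc : Coh.IsCoh F := Groth.Agent.Lib.Lead.SD.isCoh_of_isFinLocFree hF
  have key := fun j (hj : j < n) => exists_vanishing_of_depth k N ι n hnN F hFc
    (fun x hx => le_depth_of_isFinLocFree n F hF x (hCM x hx).1 (hCM x hx).2) j hj
  choose! m₀ hm₀ using key
  refine ⟨(Finset.range n).sup (fun j => (m₀ j).toNat), fun q hq j hj => ?_⟩
  apply hm₀ j hj
  have h1 : (m₀ j).toNat ≤ (Finset.range n).sup (fun j => (m₀ j).toNat) :=
    Finset.le_sup (f := fun j => (m₀ j).toNat) (Finset.mem_range.mpr hj)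
  have h2 : m₀ j ≤ ((m₀ j).toNat : ℤ) := Int.self_le_toNat _
  have h3 : ((m₀ j).toNat : ℤ) ≤ (q : ℤ) := by exact_mod_cast h1.trans hq
  exact h2.trans h3

end Groth.Agent.Lib.Lead.SD.CMEquiv
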