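import Groth.Agent.Lib.Lead.SD.SerreDual

/-!
# Serre duality on projective space over a field: the induction
-/

set_option autoImplicit false

universe u

open CategoryTheory CategoryTheory.Limits AlgebraicGeometry Opposite Abelian TopologicalSpace

namespace Groth.Agent.Lib.Lead.SD

open Groth.Agent.Lib.Lead.LinLES Groth.Agent.Lib.Helper29.QCoh Groth.Agent.Lib.Lead.Pn
  Groth.Agent.Lib.Lead.Koszul

attribute [local instance] CategoryTheory.Abelian.hasFiniteBiproducts

variable (k : Type u) [Field k] (n : ℕ) [HasExt.{u} (CohB1.ProjSpace n k).Modules]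

variable (t : Coh.HH (CohB1.ProjSpace n k) (Twist.twistProjSpace n k (-((n : ℤ) + 1))) n →ₗ[k] k)

/-- The duality statement in `Ext`-degree `i`. -/
def DualAt (i : ℕ) : Prop :=
  ∀ F : (CohB1.ProjSpace n k).Modules, Coh.IsCoh F → ∀ (j : ℕ) (h : j + i = n),
    Function.Bijective (theta k t h (F := F))

variable {k n}

/-- Degree zero: the dualizing property. -/
theorem dualAt_zero
    (hP : ∀ F : (CohB1.ProjSpace n k).Modules, Coh.IsCoh F → Perf k n (Twist.twistProjSpace n k (-((n : ℤ) + 1))) t F) :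
    DualAt k n t 0 := by
  intro F hF j h
  obtain rfl : n = j := by omega
  constructor
  · intro α β hαβ
    obtain ⟨φ, rfl⟩ := (Ext.mk₀_bijective F (Twist.twistProjSpace n k (-((n : ℤ) + 1)))).2 α
    obtain ⟨φ', rfl⟩ := (Ext.mk₀_bijective F (Twist.twistProjSpace n k (-((n : ℤ) + 1)))).2 β
    obtain ⟨φ₀, -, hu⟩ := hP F hF (theta k t h (Ext.mk₀ φ))
    have h1 : φ = φ₀ := hu φ fun x => theta_mk₀ t φ x
    have h2 : φ' = φ₀ := hu φ' fun x => by
      rw [hαβ]
      exact theta_mk₀ t φ' x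
    rw [h1, h2]
  · intro ψ
    obtain ⟨φ, hφ, -⟩ := hP F hF ψ
    refine ⟨Ext.mk₀ φ, LinearMap.ext fun x => ?_⟩
    rw [hφ x]
    exact theta_mk₀ t φ x

/-- The short exact sequence attached to an epimorphism. -/
noncomputable def kerSC' {E F : (CohB1.ProjSpace n k).Modules} (φ : E ⟶ F) :
    ShortComplex (CohB1.ProjSpace n k).Modules :=
  ShortComplex.mk (kernel.ι φ) φ (kernel.condition φ)

lemma kerSC'_shortExact {E F : (CohB1.ProjSpace n k).Modules} (φ : E ⟶ F) [Epi φ] :
    (kerSC' φ).ShortExact :=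
  { exact := ShortComplex.exact_kernel φ
    mono_f := inferInstanceAs (Mono (kernel.ι φ))
    epi_g := inferInstanceAs (Epi φ) }

/-- The inductive step. -/
theorem dualAt_succ (i : ℕ) (hi : DualAt k n t i) : DualAt k n t (1 + i) := by
  intro F hF j h
  obtain ⟨b, q, hq, φ, hφ⟩ := exists_presentation k n F hF
  have hEcoh := isCoh_sum_twist k n b q
  have hKcoh : Coh.IsCoh (kernel φ) := (Groth.Agent.S9514.result _ hEcoh hF φ).1
  let S := kerSC' φ
  have hS : S.ShortExact := kerSC'_shortExact φ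
  have hExtE : ∀ m : ℕ, 1 ≤ m → Subsingleton (Ext S.X₂ (Twist.twistProjSpace n k (-((n : ℤ) + 1))) m) := fun m hm =>
    subsingleton_ext_sum_twist k n b q hq m hm
  have hHE : Subsingleton (Coh.HH (CohB1.ProjSpace n k) S.X₂ j) :=
    subsingleton_HH_sum_twist k n b q hq j (by omega)
  have h1 : j + 1 + i = n := by omega
  have bijE := hi S.X₂ hEcoh (j + 1) h1
  have bijK := hi S.X₁ hKcoh (j + 1) h1
  have hδinj : Function.Injective (δlin k S hS j) := by
    rw [injective_iff_map_eq_zero]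
    intro x hx
    obtain ⟨y, rfl⟩ := (exact₃ k S hS j x).1 hx
    rw [Subsingleton.elim y 0, map_zero]
  constructor
  · rw [injective_iff_map_eq_zero]
    intro α hα
    haveI := hExtE (1 + i) (by omega)
    obtain ⟨β, rfl⟩ := Ext.contravariant_sequence_exact₃ hS (Twist.twistProjSpace n k (-((n : ℤ) + 1))) α (Subsingleton.elim _ _)
      (rfl : 1 + i = 1 + i)
    have h2 : ∀ x, Canon.HHlin k S.f (j + 1) x = 0 → theta k t h1 β x = 0 := by
      intro x hx
      obtain ⟨y, rfl⟩ := (exact₁ k S hS j x).1 hx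
      exact (theta_extClass_comp t S hS h1 h β y).symm.trans (LinearMap.congr_fun hα y)
    obtain ⟨χ, hχ⟩ := exists_factor_of_ker_le (Canon.HHlin k S.f (j + 1)) (theta k t h1 β) h2
    obtain ⟨γ, rfl⟩ := bijE.2 χ
    have h3 : (Ext.mk₀ S.f).comp γ (zero_add i) = β := by
      apply bijK.1
      apply LinearMap.ext
      intro x
      rw [theta_mk₀_comp, ← hχ]
      rfl
    rw [← h3, ← Ext.comp_assoc_of_second_deg_zero, hS.extClass_comp, Ext.zero_comp]
    try rfl
  · intro ψ
    obtain ⟨ψ', hψ'⟩ := exists_extend_of_injective (δlin k S hS j) hδinj ψ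
    obtain ⟨β, hβ⟩ := bijK.2 ψ'
    refine ⟨hS.extClass.comp β rfl, LinearMap.ext fun x => ?_⟩
    exact (theta_extClass_comp t S hS h1 h β x).trans
      ((LinearMap.congr_fun hβ _).trans (LinearMap.congr_fun hψ' x))

theorem dualAt_all
    (hP : ∀ F : (CohB1.ProjSpace n k).Modules, Coh.IsCoh F → Perf k n (Twist.twistProjSpace n k (-((n : ℤ) + 1))) t F) (i : ℕ) :
    DualAt k n t i := by
  induction i with
  | zero => exact dualAt_zero t hP
  | succ i ih =>
    rw [Nat.add_comm i 1]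
    exact dualAt_succ t i ih

omit [HasExt.{u} (CohB1.ProjSpace n k).Modules] in
lemma injective_HHlin_zero_f' (S : ShortComplex (CohB1.ProjSpace n k).Modules)
    (hS : S.ShortExact) : Function.Injective (Canon.HHlin k S.f 0) := by
  haveI : Mono (abMap S.f) := (abS_shortExact S hS).mono_f
  intro x y hxy
  exact Abelian.Ext.postcomp_mk₀_injective_of_mono _ (abMap S.f) hxy

/-- `Ext^{n+1}(F, ω) = 0`. -/
theorem subsingleton_ext_succ_n (hn : DualAt k n t n)
    (F : (CohB1.ProjSpace n k).Modules) (hF : Coh.IsCoh F) :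
    Subsingleton (Ext F (Twist.twistProjSpace n k (-((n : ℤ) + 1))) (1 + n)) := by
  obtain ⟨b, q, hq, φ, hφ⟩ := exists_presentation k n F hF
  have hEcoh := isCoh_sum_twist k n b q
  have hKcoh : Coh.IsCoh (kernel φ) := (Groth.Agent.S9514.result _ hEcoh hF φ).1
  let S := kerSC' φ
  have hS : S.ShortExact := kerSC'_shortExact φ
  have h0 : 0 + n = n := zero_add n
  have bijE := hn S.X₂ hEcoh 0 h0
  have bijK := hn S.X₁ hKcoh 0 h0
  refine subsingleton_of_forall_eq 0 fun α => ?_
  haveI : Subsingleton (Ext S.X₂ (Twist.twistProjSpace n k (-((n : ℤ) + 1))) (1 + n)) :=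
    subsingleton_ext_sum_twist k n b q hq (1 + n) (by omega)
  obtain ⟨β, rfl⟩ := Ext.contravariant_sequence_exact₃ hS (Twist.twistProjSpace n k (-((n : ℤ) + 1))) α (Subsingleton.elim _ _)
    (rfl : 1 + n = 1 + n)
  obtain ⟨χ, hχ⟩ := exists_extend_of_injective (Canon.HHlin k S.f 0)
    (injective_HHlin_zero_f' S hS) (theta k t h0 β)
  obtain ⟨γ, rfl⟩ := bijE.2 χ
  have h3 : (Ext.mk₀ S.f).comp γ (zero_add n) = β := by
    apply bijK.1
    apply LinearMap.ext
    intro x
    rw [theta_mk₀_comp, ← hχ]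
    rfl
  rw [← h3, ← Ext.comp_assoc_of_second_deg_zero, hS.extClass_comp, Ext.zero_comp]
  try rfl

omit t in
/-- Vanishing of `Ext^m(-, ω)` on coherent modules propagates upwards. -/
theorem subsingleton_ext_step (m : ℕ)
    (hm : ∀ F : (CohB1.ProjSpace n k).Modules, Coh.IsCoh F → Subsingleton (Ext F (Twist.twistProjSpace n k (-((n : ℤ) + 1))) m))
    (F : (CohB1.ProjSpace n k).Modules) (hF : Coh.IsCoh F) :
    Subsingleton (Ext F (Twist.twistProjSpace n k (-((n : ℤ) + 1))) (1 + m)) := by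
  obtain ⟨b, q, hq, φ, hφ⟩ := exists_presentation k n F hF
  have hEcoh := isCoh_sum_twist k n b q
  have hKcoh : Coh.IsCoh (kernel φ) := (Groth.Agent.S9514.result _ hEcoh hF φ).1
  let S := kerSC' φ
  have hS : S.ShortExact := kerSC'_shortExact φ
  refine subsingleton_of_forall_eq 0 fun α => ?_
  haveI : Subsingleton (Ext S.X₂ (Twist.twistProjSpace n k (-((n : ℤ) + 1))) (1 + m)) :=
    subsingleton_ext_sum_twist k n b q hq (1 + m) (by omega)
  obtain ⟨β, rfl⟩ := Ext.contravariant_sequence_exact₃ hS (Twist.twistProjSpace n k (-((n : ℤ) + 1))) α (Subsingleton.elim _ _)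
    (rfl : 1 + m = 1 + m)
  haveI := hm S.X₁ hKcoh
  rw [Subsingleton.elim β 0, Ext.comp_zero]
  try rfl

theorem subsingleton_ext_gt (hn : DualAt k n t n) (i : ℕ) (hi : n < i)
    (F : (CohB1.ProjSpace n k).Modules) (hF : Coh.IsCoh F) : Subsingleton (Ext F (Twist.twistProjSpace n k (-((n : ℤ) + 1))) i) := by
  obtain ⟨d, rfl⟩ : ∃ d, i = d + (1 + n) := ⟨i - (1 + n), by omega⟩
  clear hi
  induction d generalizing F with
  | zero =>
    rw [Nat.zero_add]
    exact subsingleton_ext_succ_n t hn F hF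
  | succ d ih =>
    rw [show d + 1 + (1 + n) = 1 + (d + (1 + n)) by omega]
    exact subsingleton_ext_step _ (fun G hG => ih G hG) F hF

/-- **Serre duality on `P^n_k`.** -/
theorem serre_duality (F : (CohB1.ProjSpace n k).Modules) (hF : Coh.IsCoh F) :
    (∀ i : ℕ, i ≤ n → Nonempty (Ext F (Twist.twistProjSpace n k (-((n : ℤ) + 1))) i ≃ₗ[k]
      Module.Dual k (Coh.HH (CohB1.ProjSpace n k) F (n - i)))) ∧
    ∀ i : ℕ, n < i → Subsingleton (Ext F (Twist.twistProjSpace n k (-((n : ℤ) + 1))) i) := by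
  obtain ⟨t, ht⟩ := Groth.Agent.S11314.result k n
  have hP : ∀ F : (CohB1.ProjSpace n k).Modules, Coh.IsCoh F → Perf k n (Twist.twistProjSpace n k (-((n : ℤ) + 1))) t F :=
    fun F hF ψ => ht F hF ψ
  refine ⟨fun i hi => ?_, fun i hi => subsingleton_ext_gt t (dualAt_all t hP n) i hi F hF⟩
  exact ⟨LinearEquiv.ofBijective (theta k t (Nat.sub_add_cancel hi))
    (dualAt_all t hP i F hF (n - i) (Nat.sub_add_cancel hi))⟩

end Groth.Agent.Lib.Lead.SD
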