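import Groth.Agent.Lib.Lead.SD.DualGen
import Groth.Agent.Lib.Lead.ExtCodim.DualVanish
import Groth.Agent.Lib.Helper12.ModCons1
import Groth.Agent.Lib.Helper12.ClosedPullbackEpi
import Groth.Agent.Lib.Helper16.ExtVanish

/-!
# Test epimorphisms on a closed subscheme of `P^N_k` (Hartshorne III.7.6, (ii) ⇒ (iii))

For `ι : X → P^N_k` a closed immersion and `ω` coherent on `X`, every coherent `F` on `X` is a
quotient of `E = ι^*(O(-q)^b)` for all `q ≫ 0`, and `Ext^m(E, ω) = H^m(X, ω(q))^b = 0` for `m ≥ 1`,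
`q ≫ 0`.  So the vanishing `H^j(X, ι^*O(-q)) = 0` (`lo ≤ j < n`, `q ≫ 0`) gives `HasTest n ω lo`.
-/

set_option autoImplicit false

universe u

open CategoryTheory CategoryTheory.Limits AlgebraicGeometry Opposite Abelian TopologicalSpace

namespace Groth.Agent.Lib.Lead.SD.DualProj

open Groth.Agent.Lib.Lead.LinLES Groth.Agent.Lib.Lead.SD Groth.Agent.Lib.Helper29.QCoh
  Groth.Agent.Lib.Lead.Pn Groth.Agent.Lib.Lead.Koszul Groth.Agent.Lib.Lead.ExtCodim

attribute [local instance] CategoryTheory.Abelian.hasFiniteBiproducts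

lemma exists_common_bound (n : ℕ) (P : ℕ → ℤ → Prop)
    (h : ∀ j < n, ∃ q₀ : ℤ, ∀ q : ℤ, q₀ ≤ q → P j q) :
    ∃ q₀ : ℤ, ∀ q : ℤ, q₀ ≤ q → ∀ j < n, P j q := by
  induction n with
  | zero => exact ⟨0, fun q _ j hj => absurd hj (Nat.not_lt_zero j)⟩
  | succ n ih =>
    obtain ⟨a, ha⟩ := ih (fun j hj => h j (Nat.lt_succ_of_lt hj))
    obtain ⟨b, hb⟩ := h n (Nat.lt_succ_self n)
    refine ⟨max a b, fun q hq j hj => ?_⟩
    rcases Nat.lt_succ_iff_lt_or_eq.mp hj with h1 | rfl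
    · exact ha q (le_trans (le_max_left _ _) hq) j h1
    · exact hb q (le_trans (le_max_right _ _) hq)

variable (k : Type u) [Field k] (N : ℕ)

/-- Presentations by `O(-q)^b` for all large `q` on `P^N_k`. -/
theorem exists_presentation_ge (G : (CohB1.ProjSpace N k).Modules) (hG : Coh.IsCoh G) :
    ∃ q₀ : ℤ, ∀ q : ℤ, q₀ ≤ q →
      ∃ (b : ℕ) (φ : (∐ fun _ : Fin b => Twist.twistProjSpace N k (-q)) ⟶ G), Epi φ := by
  obtain ⟨j₀, hj₀⟩ := exists_vanishing_tw N k G hG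
  refine ⟨j₀ + N, fun q hq => ?_⟩
  obtain ⟨b, φ, hφ, -⟩ := exists_epi_coprod_twist_kernel_regular N k G hG q
    (fun r hr p hp1 hpn => hj₀ _ (by
      have hp : (p : ℤ) ≤ N := by exact_mod_cast hpn
      omega) p hp1)
  exact ⟨b, φ, hφ⟩

variable {X : Scheme.{u}} (ι : X ⟶ CohB1.ProjSpace N k) [IsClosedImmersion ι]

/-- The test objects. -/
noncomputable def testObj (b : ℕ) (q : ℤ) : X.Modules :=
  (Scheme.Modules.pullback ι).obj (∐ fun _ : Fin b => Twist.twistProjSpace N k (-q))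

/-- the test object is a finite sum of copies of `ι^* O(-q)` -/
noncomputable def testObjIso (b : ℕ) (q : ℤ) :
    testObj k N ι b q ≅
      (⨁ fun _ : Fin b => (Scheme.Modules.pullback ι).obj (Twist.twistProjSpace N k (-q)) : X.Modules) :=
  PreservesCoproduct.iso (Scheme.Modules.pullback ι) _ ≪≫ (biproduct.isoCoproduct _).symm

omit [Field k] in
lemma isCoh_iso {Y : Scheme.{u}} {A B : Y.Modules} (e : A ≅ B) (hA : Coh.IsCoh A) : Coh.IsCoh B := by
  haveI := hA.1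
  haveI := hA.2
  exact ⟨isQuasicoherent_of_iso e, isFiniteType_of_iso e⟩

omit [IsClosedImmersion ι] in
lemma isCoh_testObj (b : ℕ) (q : ℤ) : Coh.IsCoh (testObj k N ι b q) := by
  apply Groth.Agent.Lib.Helper12.H12ConsP.isCoh_pullback
  exact isCoh_iso (biproduct.isoCoproduct _) (isCoh_sum_twist k N b q)

/-- every coherent module on `X` is a quotient of test objects for all large `q` -/
theorem exists_epi_testObj (F : X.Modules) (hF : Coh.IsCoh F) :
    ∃ q₀ : ℤ, ∀ q : ℤ, q₀ ≤ q → ∃ (b : ℕ) (ψ : testObj k N ι b q ⟶ F), Epi ψ := by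
  obtain ⟨q₀, h⟩ := exists_presentation_ge k N _ (isCoh_push N k ι F hF)
  refine ⟨q₀, fun q hq => ?_⟩
  obtain ⟨b, φ, hφ⟩ := h q hq
  exact ⟨b, _, (H12S19488.main ι _ F φ).1⟩

omit [IsClosedImmersion ι] in
lemma subsingleton_HH_testObj [X.Over (Spec (CommRingCat.of k))] (b : ℕ) (q : ℤ) (j : ℕ)
    (h : Subsingleton (Coh.HH X
      ((Scheme.Modules.pullback ι).obj (Twist.twistProjSpace N k (-q))) j)) :
    Subsingleton (Coh.HH X (testObj k N ι b q) j) :=
  subsingleton_HH_of_iso (testObjIso k N ι b q).symm j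
    (subsingleton_HH_biproduct k _ j fun _ => h)

omit [IsClosedImmersion ι] in
lemma subsingleton_ext_testObj [HasExt.{u} X.Modules] (ω : X.Modules) (b : ℕ) (q : ℤ) (m : ℕ)
    (h : Subsingleton (Ext ((Scheme.Modules.pullback ι).obj (Twist.twistProjSpace N k (-q))) ω m)) :
    Subsingleton (Ext (testObj k N ι b q) ω m) :=
  Groth.Agent.Lib.Helper16.Depth.subsingleton_ext_of_iso_left (testObjIso k N ι b q) ω m
    (subsingleton_ext_biproduct _ ω m fun _ => h)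

/-- Serre vanishing in the form `Ext^m(ι^* O(-q), ω) = 0` for `m ≥ 1`, `q ≫ 0`. -/
theorem exists_ext_vanishing [HasExt.{u} X.Modules] (ω : X.Modules) (hω : Coh.IsCoh ω) :
    ∃ q₀ : ℤ, ∀ q : ℤ, q₀ ≤ q → ∀ m : ℕ, 1 ≤ m →
      Subsingleton (Ext ((Scheme.Modules.pullback ι).obj (Twist.twistProjSpace N k (-q))) ω m) := by
  haveI : ω.IsQuasicoherent := hω.1
  obtain ⟨j₀, hj₀⟩ := exists_vanishing_tw N k _ (isCoh_push N k ι ω hω)
  refine ⟨j₀, fun q hq m hm => ?_⟩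
  have hL : FlatMod.IsFinLocFree
      ((Scheme.Modules.pullback ι).obj (Twist.twistProjSpace N k (-q))) :=
    isFinLocFree_pullback ι (isFinLocFree_twist N k (-q))
  obtain ⟨μ⟩ := nonempty_pull_twist_tensor_iso k N ι (-q)
  obtain ⟨μ'⟩ := nonempty_pull_twist_tensor_iso k N ι q
  rw [neg_neg] at μ
  obtain ⟨e⟩ := nonempty_ext_addEquiv_HH_tensor _ _ μ μ' hL ω m
  have h2 : Subsingleton (Coh.HH X (Pic13.twistOn k ι ω q) m) :=
    (subsingleton_HH_twistOn_iff N k ι ω q m).2 (hj₀ q hq m hm)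
  exact @Equiv.subsingleton _ _ e.toEquiv h2

/-- **Test epimorphisms** from the vanishing of `H^j(X, ι^* O(-q))`, `q ≫ 0`, in a range of degrees. -/
theorem hasTest [X.Over (Spec (CommRingCat.of k))] [HasExt.{u} X.Modules] (n lo : ℕ)
    (ω : X.Modules) (hω : Coh.IsCoh ω)
    (hvan : ∀ j : ℕ, lo ≤ j → j < n → ∃ q₀ : ℤ, ∀ q : ℤ, q₀ ≤ q → Subsingleton (Coh.HH X
      ((Scheme.Modules.pullback ι).obj (Twist.twistProjSpace N k (-q))) j)) :
    DualGen.HasTest n ω lo := by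
  intro F hF m hm
  obtain ⟨q₁, h1⟩ := exists_epi_testObj k N ι F hF
  obtain ⟨q₂, h2⟩ := exists_ext_vanishing k N ι ω hω
  obtain ⟨q₃, h3⟩ := exists_common_bound n
    (fun j q => lo ≤ j → Subsingleton (Coh.HH X
      ((Scheme.Modules.pullback ι).obj (Twist.twistProjSpace N k (-q))) j))
    (fun j hj => by
      by_cases hlo : lo ≤ j
      · obtain ⟨q₀, hq₀⟩ := hvan j hlo hj
        exact ⟨q₀, fun q hq _ => hq₀ q hq⟩
      · exact ⟨0, fun q _ h => absurd h hlo⟩)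
  obtain ⟨b, ψ, hψ⟩ := h1 (max q₁ (max q₂ q₃)) (le_max_left _ _)
  refine ⟨testObj k N ι b (max q₁ (max q₂ q₃)), ψ, hψ, isCoh_testObj k N ι b _, ?_, ?_⟩
  · exact subsingleton_ext_testObj k N ι ω b _ m
      (h2 _ (le_trans (le_max_left _ _) (le_max_right _ _)) m hm)
  · intro j hlo hj
    exact subsingleton_HH_testObj k N ι b _ j
      (h3 _ (le_trans (le_max_right _ _) (le_max_right _ _)) j hj hlo)

/-- **Hartshorne III.7.6, (ii) ⇒ (iii)**: on a closed subscheme `X ⊆ P^N_k` with a dualizing pair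
`(ω, t)` in dimension `n`, the vanishing of `H^j(X, O_X(-q))` for `j < n`, `q ≫ 0`, gives the
duality isomorphisms `Ext^i(F, ω) ≅ H^{n-i}(X, F)^*` and `Ext^i(F, ω) = 0` for `i > n`. -/
theorem duality_of_vanishing [X.Over (Spec (CommRingCat.of k))] [HasExt.{u} X.Modules] (n : ℕ)
    (ω : X.Modules) (hω : Coh.IsCoh ω) (t : Coh.HH X ω n →ₗ[k] k)
    (hdual : ∀ F : X.Modules, Coh.IsCoh F → ∀ ψ : Coh.HH X F n →ₗ[k] k,
        ∃! φ : F ⟶ ω, ∀ x : Coh.HH X F n,
          ψ x = t (Sheaf.H.map ((SheafOfModules.toSheaf X.ringCatSheaf).map φ) n x))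
    (hvan : ∀ j : ℕ, j < n → ∃ q₀ : ℤ, ∀ q : ℤ, q₀ ≤ q → Subsingleton (Coh.HH X
      ((Scheme.Modules.pullback ι).obj (Twist.twistProjSpace N k (-q))) j))
    (F : X.Modules) (hF : Coh.IsCoh F) :
    (∀ i : ℕ, i ≤ n → Nonempty (Ext F ω i ≃ₗ[k] Module.Dual k (Coh.HH X F (n - i)))) ∧
    ∀ i : ℕ, n < i → Subsingleton (Ext F ω i) := by
  haveI : IsLocallyNoetherian (CohB1.ProjSpace N k) :=
    Groth.Agent.Lib.Lead.Pn.isLocallyNoetherian_projSpace N k
  haveI : IsLocallyNoetherian X := LocallyOfFiniteType.isLocallyNoetherian ι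
  have hT : DualGen.HasTest n ω 0 := hasTest k N ι n 0 ω hω (fun j _ hj => hvan j hj)
  have hP : ∀ G : X.Modules, Coh.IsCoh G → Perf k n ω t G := fun G hG ψ => hdual G hG ψ
  exact DualGen.duality_full t hT hP F hF

/-- range version -/
theorem duality_range_of_vanishing [X.Over (Spec (CommRingCat.of k))] [HasExt.{u} X.Modules]
    (n lo : ℕ) (ω : X.Modules) (hω : Coh.IsCoh ω) (t : Coh.HH X ω n →ₗ[k] k)
    (hdual : ∀ F : X.Modules, Coh.IsCoh F → ∀ ψ : Coh.HH X F n →ₗ[k] k,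
        ∃! φ : F ⟶ ω, ∀ x : Coh.HH X F n,
          ψ x = t (Sheaf.H.map ((SheafOfModules.toSheaf X.ringCatSheaf).map φ) n x))
    (hvan : ∀ j : ℕ, lo ≤ j → j < n → ∃ q₀ : ℤ, ∀ q : ℤ, q₀ ≤ q → Subsingleton (Coh.HH X
      ((Scheme.Modules.pullback ι).obj (Twist.twistProjSpace N k (-q))) j))
    (F : X.Modules) (hF : Coh.IsCoh F) (i : ℕ) (hi : lo + i ≤ n) :
    Nonempty (Ext F ω i ≃ₗ[k] Module.Dual k (Coh.HH X F (n - i))) := by
  haveI : IsLocallyNoetherian (CohB1.ProjSpace N k) :=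
    Groth.Agent.Lib.Lead.Pn.isLocallyNoetherian_projSpace N k
  haveI : IsLocallyNoetherian X := LocallyOfFiniteType.isLocallyNoetherian ι
  have hT : DualGen.HasTest n ω lo := hasTest k N ι n lo ω hω hvan
  have hP : ∀ G : X.Modules, Coh.IsCoh G → Perf k n ω t G := fun G hG ψ => hdual G hG ψ
  exact DualGen.duality_range t lo hT hP F hF i hi

end Groth.Agent.Lib.Lead.SD.DualProj
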