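import Groth.Agent.Lib.Lead.SD.DualizingZero
import Groth.Agent.Lib.Helper5.ColimTopGen
import Groth.Agent.Lib.Helper5.ToSheafColim
import Groth.Agent.S2128
import Groth.Prelude.Def_Canon

/-!
# From coherent to quasi-coherent modules in the dualizing property

If `(ω, t)` has the representing property `Perf` at every coherent module of a quasi-compact
quasi-separated scheme, then it has it at every quasi-coherent module: a quasi-coherent module is a
filtered colimit of finitely presented ones (`S2128`) and cohomology classes of the colimit come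
from a stage (`ColimTopGen.H_rep`).
-/

set_option autoImplicit false

universe u

open CategoryTheory CategoryTheory.Limits AlgebraicGeometry Opposite TopologicalSpace

namespace Groth.Agent.Lib.Lead.SD

open Groth.Agent.Lib.Lead.LinLES

variable (A : Type u) [CommRing A] {X : Scheme.{u}} [X.Over (Spec (CommRingCat.of A))]

theorem bijective_dualityMap_of_perf [CompactSpace X] [QuasiSeparatedSpace X]
    (n : ℕ) (ω : X.Modules) (t : Coh.HH X ω n →ₗ[A] A)
    (h : ∀ F : X.Modules, Coh.IsCoh F → Perf A n ω t F)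
    (G : X.Modules) (hG : Coh.IsQCoh G) :
    Function.Bijective (Canon.dualityMap A X n ω t G) := by
  obtain ⟨K, hK1, hK2, D, c, hc, hfp, hpt⟩ := Groth.Agent.S2128.result X G hG
  subst hpt
  have hcoh : ∀ i, Coh.IsCoh (D.obj i) := fun i => by
    haveI : SheafOfModules.IsFinitePresentation (R := X.ringCatSheaf) (D.obj i) := hfp i
    have hq : SheafOfModules.IsQuasicoherent (R := X.ringCatSheaf) (D.obj i) := inferInstance
    have hft : SheafOfModules.IsFiniteType (R := X.ringCatSheaf) (D.obj i) := inferInstance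
    exact ⟨hq, hft⟩
  have hTc : IsColimit ((SheafOfModules.toSheaf X.ringCatSheaf).mapCocone c) :=
    isColimitOfPreserves (SheafOfModules.toSheaf X.ringCatSheaf) hc
  have hrep : ∀ x : Coh.HH X c.pt n, ∃ (i : K) (y : Coh.HH X (D.obj i) n),
      Canon.HHlin A (c.ι.app i) n y = x := fun x =>
    Groth.Agent.Lib.Helper5.ColimTopGen.H_rep (X := X.carrier)
      ((SheafOfModules.toSheaf X.ringCatSheaf).mapCocone c) hTc n x
  constructor
  · intro φ₁ φ₂ h12
    apply hc.hom_ext
    intro i
    obtain ⟨φ, -, hu⟩ := h (D.obj i) (hcoh i)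
      ((Canon.dualityMap A X n ω t c.pt φ₁) ∘ₗ Canon.HHlin A (c.ι.app i) n)
    have e1 : c.ι.app i ≫ φ₁ = φ := hu _ fun x => by
      rw [HHlin_comp]; rfl
    have e2 : c.ι.app i ≫ φ₂ = φ := hu _ fun x => by
      rw [HHlin_comp, h12]; rfl
    exact e1.trans e2.symm
  · intro ψ
    choose φ hφ hφu using fun i => h (D.obj i) (hcoh i) (ψ ∘ₗ Canon.HHlin A (c.ι.app i) n)
    have hnat : ∀ ⦃i j : K⦄ (f : i ⟶ j), D.map f ≫ φ j = φ i := fun i j f => by
      apply hφu i
      intro x
      rw [HHlin_comp, ← hφ j]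
      change ψ (Canon.HHlin A (c.ι.app i) n x) =
        ψ (Canon.HHlin A (c.ι.app j) n (Canon.HHlin A (D.map f) n x))
      rw [← HHlin_comp, c.w f]
    have hnat' : ∀ ⦃i j : K⦄ (f : i ⟶ j),
        D.map f ≫ φ j = φ i ≫ ((Functor.const K).obj ω).map f := fun i j f =>
      (hnat f).trans (Category.comp_id _).symm
    let s : Cocone D := ⟨ω, { app := φ, naturality := hnat' }⟩
    refine ⟨hc.desc s, ?_⟩
    apply LinearMap.ext
    intro x
    obtain ⟨i, y, rfl⟩ := hrep x
    change t (Canon.HHlin A (hc.desc s) n (Canon.HHlin A (c.ι.app i) n y)) = _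
    rw [← HHlin_comp, hc.fac s i]
    exact (hφ i y).symm

theorem isRDualOver_of_perf [CompactSpace X] [QuasiSeparatedSpace X]
    (n : ℕ) (ω : X.Modules) (hω : Coh.IsQCoh ω) (t : Coh.HH X ω n →ₗ[A] A)
    (h : ∀ F : X.Modules, Coh.IsCoh F → Perf A n ω t F) :
    Canon.IsRDualOver A X n ω t :=
  ⟨hω, fun G hG => bijective_dualityMap_of_perf A n ω t h G hG⟩

end Groth.Agent.Lib.Lead.SD
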