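import Groth.Agent.Lib.Helper29.IntegInv
import Groth.Agent.Lib.Helper29.Dual3
import Groth.Agent.Lib.Helper29.QCohLocFree
import Groth.Agent.Lib.Helper29.SerreA
import Groth.Agent.Lib.Helper29.QAff3

/-!
# Locally free modules on integral schemes are torsion free
-/

set_option autoImplicit false

universe u

open CategoryTheory CategoryTheory.Limits AlgebraicGeometry Opposite TopologicalSpace

namespace Groth.Agent.Lib.Lead.SD

open Groth.Agent.Lib.Helper29.QCoh Groth.Agent.Lib.Helper29.QCoh.Dual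
  Groth.Agent.Lib.Helper29.QCoh.QAff

variable {X : Scheme.{u}}

/-- On an integral scheme a section of a finite locally free module vanishing on a nonempty open
vanishes. -/
theorem eq_zero_of_res_eq_zero_of_isFinLocFree [IsIntegral X] {G : X.Modules}
    (hG : FlatMod.IsFinLocFree G) {U W : X.Opens} (h : U ≤ W) (hU : (U : Set X).Nonempty)
    (m : Γ(G, W)) (hm : Groth.Agent.Lib.Helper29.QCoh.res G h m = 0) : m = 0 := by
  haveI := isQuasicoherent_of_isFinLocFree hG
  have hcov : ∀ x : W, ∃ (V : X.Opens) (n : ℕ), IsAffineOpen V ∧ (x : X) ∈ V ∧ V ≤ W ∧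
      Nonempty (Γ(G, V) ≃ₗ[Γ(X, V)] (Fin n →₀ Γ(X, V))) := fun x =>
    exists_affine_le_linearEquiv_of_isFinLocFree hG x x.2
  choose V n hV hxV hVW he using hcov
  refine eq_zero_of_res_cover_eq_zero G V hVW ?_ m fun x => ?_
  · intro y hy
    exact Opens.mem_iSup.mpr ⟨⟨y, hy⟩, hxV ⟨y, hy⟩⟩
  obtain ⟨e⟩ := he x
  have hne : ((V x ⊓ U : X.Opens) : Set X).Nonempty :=
    inter_nonempty_of_isIntegral ⟨x, hxV x⟩ hU
  obtain ⟨y, hy⟩ := hne
  obtain ⟨f, hfle, hyf⟩ := (hV x).exists_basicOpen_le (V := V x ⊓ U) ⟨y, hy⟩ hy.1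
  have hVne : ((V x : X.Opens) : Set X).Nonempty := ⟨x, hxV x⟩
  haveI := isDomain_sections_of_isIntegral hVne
  have hf0 : f ≠ 0 := by
    rintro rfl
    rw [Scheme.basicOpen_zero] at hyf
    exact hyf
  have hres : Groth.Agent.Lib.Helper29.QCoh.res G (X.basicOpen_le f) (Groth.Agent.Lib.Helper29.QCoh.res G (hVW x) m) = 0 := by
    rw [res_res]
    have : Groth.Agent.Lib.Helper29.QCoh.res G ((X.basicOpen_le f).trans (hVW x)) m =
        Groth.Agent.Lib.Helper29.QCoh.res G (hfle.trans inf_le_right) (Groth.Agent.Lib.Helper29.QCoh.res G h m) := by rw [res_res]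
    rw [this, hm, map_zero]
  obtain ⟨N, hN⟩ := exists_pow_smul_eq_zero G (hV x) f _ hres
  have h1 : f ^ N • e (Groth.Agent.Lib.Helper29.QCoh.res G (hVW x) m) = 0 := by rw [← map_smul, hN, map_zero]
  have h2 : e (Groth.Agent.Lib.Helper29.QCoh.res G (hVW x) m) = 0 :=
    (smul_eq_zero.mp h1).resolve_left (pow_ne_zero N hf0)
  exact e.injective (h2.trans (map_zero e).symm)

/-- On an integral scheme, tensoring a section of a finite locally free module with a nonzero
section of an invertible module is injective. -/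
theorem eq_zero_of_tmulSec_eq_zero [IsIntegral X] {G L : X.Modules}
    (hG : FlatMod.IsFinLocFree G) (hL : PicF.IsInvertible L)
    (s : unitM X ⟶ L) (hs : s ≠ 0) (g : Γ(G, ⊤)) (h : tmulSec G L g (sval s ⊤) = 0) : g = 0 := by
  haveI := isQuasicoherent_of_isFinLocFree hG
  haveI := isQuasicoherent_of_isInvertible hL
  obtain ⟨x⟩ : Nonempty X := inferInstance
  obtain ⟨V, e, -, hxV, -, he⟩ := exists_affine_isTriv hL (W := ⊤) x trivial
  have hV : (V : Set X).Nonempty := ⟨x, hxV⟩
  obtain ⟨a, ha⟩ := he.exists_eq_smul (sval s V)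
  have ha0 : a ≠ 0 := coeff_ne_zero_of_ne_zero hL s hs hV a ha
  -- restrict to V
  have h1 : tmulSec G L (a • Groth.Agent.Lib.Helper29.QCoh.res G (le_top : V ≤ ⊤) g) e = 0 := by
    rw [tmulSec_smul_left, ← tmulSec_smul_right, ← ha, ← res_sval s (le_top : V ≤ ⊤),
      ← res_tmulSec, h, map_zero]
  have h2 : a • Groth.Agent.Lib.Helper29.QCoh.res G (le_top : V ≤ ⊤) g = 0 :=
    tmulSec_injective_of_isTriv G he (h1.trans (tmulSec_zero_left G L e).symm)
  -- restrict to D(a)
  have hu : IsUnit (rres X (X.basicOpen_le a) a) := (isUnit_rres_iff _ a).2 le_rfl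
  have h3 : Groth.Agent.Lib.Helper29.QCoh.res G (le_top : X.basicOpen a ≤ ⊤) g = 0 := by
    have h4 := congrArg (Groth.Agent.Lib.Helper29.QCoh.res G (X.basicOpen_le a)) h2
    rw [res_smul', res_res, map_zero] at h4
    exact (hu.smul_eq_zero).1 h4
  have hne : ((X.basicOpen a : X.Opens) : Set X).Nonempty := by
    rw [Set.nonempty_iff_ne_empty]
    intro hb
    exact ha0 ((basicOpen_eq_bot_iff a).1 (Opens.ext (by rw [hb]; rfl)))
  exact eq_zero_of_res_eq_zero_of_isFinLocFree hG le_top hne g h3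

end Groth.Agent.Lib.Lead.SD
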