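import Groth.Agent.Lib.Lead.SD.CMEquiv
import Groth.Agent.Lib.Helper12.Fin6
import Groth.Agent.Lib.Helper10.PullbackStalk
import Groth.Agent.Lib.Helper29.VA5
import Groth.Agent.Lib.Helper18.CM3
import Groth.Agent.Lib.Helper11.DepthLoc
import Groth.Agent.S0012
import Groth.Agent.Lib.Helper12.ModCons1
import Groth.Agent.Lib.Helper29.Pic4
import Groth.Agent.Lib.Helper29.TensorInv
import Groth.Agent.Lib.Lead.ExtCodim.DualVanish

/-!
# Vanishing of `H^j(X, F ⊗ L^{-m})`, `m ≫ 0`, below the depth of `F` at closed points, for `L` ample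
on `X` proper over a field
-/

set_option autoImplicit false

universe u

open CategoryTheory CategoryTheory.Limits AlgebraicGeometry TopologicalSpace Opposite Abelian
open scoped TensorProduct

namespace Groth.Agent.Lib.Lead.SD.AmpleNeg

open Groth.Agent.Lib.Helper29.QCoh

section Iso

variable {X : Scheme.{u}}

noncomputable def tensorPowUnit : (n : ℕ) → (CohB1.tensorPow (unitM X) n ≅ unitM X)
  | 0 => Iso.refl _
  | n + 1 => tensorCongr (tensorPowUnit n) (Iso.refl _) ≪≫ tensorUnitR _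

noncomputable def invPow {L M : X.Modules} (e : CohB1.tensorMod L M ≅ unitM X) (n : ℕ) :
    CohB1.tensorMod (CohB1.tensorPow L n) (CohB1.tensorPow M n) ≅ unitM X :=
  (tensorPowTensor L M n).symm ≪≫ tensorPowCongr e n ≪≫ tensorPowUnit n

/-- two inverses of the same module are isomorphic -/
noncomputable def invUnique {A B B' : X.Modules} (e : CohB1.tensorMod A B ≅ unitM X)
    (e' : CohB1.tensorMod A B' ≅ unitM X) : B ≅ B' :=
  (tensorUnitL B).symm ≪≫ tensorCongr e'.symm (Iso.refl B) ≪≫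
    tensorCongr (tensorBraid A B') (Iso.refl B) ≪≫ tensorAssoc B' A B ≪≫
    tensorCongr (Iso.refl B') e ≪≫ tensorUnitR B'

end Iso

section Depth

variable {X : Scheme.{u}}

/-- tensoring with an invertible module does not change the depth of the stalks -/
theorem depth_stalk_tensor_invertible (F N : X.Modules) [F.IsQuasicoherent] [N.IsQuasicoherent]
    (hN : PicF.IsInvertible N) (x : X) :
    LocCoh.depth (X.presheaf.stalk x) ((CohB1.tensorMod F N).presheaf.stalk x) =
      LocCoh.depth (X.presheaf.stalk x) (F.presheaf.stalk x) := by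
  obtain ⟨e1⟩ := Groth.Agent.Lib.Helper10.PullbackStalk.nonempty_stalk_tensorMod_equiv F N x
  obtain ⟨t, ht⟩ := Groth.Agent.Lib.Helper18.InvStalk.exists_generator hN x
  have hfree := Groth.Agent.Lib.Helper18.InvStalk.free_of_generator hN x t ht
  let e2 : X.presheaf.stalk x ≃ₗ[X.presheaf.stalk x] N.presheaf.stalk x :=
    LinearEquiv.ofBijective (LinearMap.toSpanSingleton _ _ t) ⟨by
      rw [← LinearMap.ker_eq_bot, eq_bot_iff]
      intro r hr
      rw [LinearMap.mem_ker, LinearMap.toSpanSingleton_apply] at hr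
      exact (Submodule.mem_bot _).mpr (hfree r hr), by
      rw [← LinearMap.range_eq_top, LinearMap.range_toSpanSingleton]
      exact ht⟩
  let e3 := e1 ≪≫ₗ TensorProduct.congr (LinearEquiv.refl _ _) e2.symm ≪≫ₗ TensorProduct.rid _ _
  exact Groth.Agent.Lib.Helper18.CM.idealDepth_congr e3 _

/-- no associated maximal ideal gives depth at least one -/
theorem one_le_depth_of_not_isAssPoint [IsLocallyNoetherian X] (F : X.Modules) (hF : Coh.IsCoh F)
    (x : X) (h : ¬ Curv2.IsAssPoint F x) :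
    (1 : ℕ∞) ≤ LocCoh.depth (X.presheaf.stalk x) (F.presheaf.stalk x) := by
  haveI := Groth.Agent.Lib.Helper9.RefStalk.finite_stalk_of_isCoh F hF x
  rcases Groth.Agent.Lib.Helper11.DepthLoc.exists_regular_or_le_associatedPrime
    (IsLocalRing.maximalIdeal (X.presheaf.stalk x)) (F.presheaf.stalk x) with
    ⟨a, ha, hreg⟩ | ⟨q, hq, hle⟩
  · unfold LocCoh.depth LocCoh.idealDepth
    split_ifs with htop
    · exact le_top
    · refine le_iSup₂_of_le [a] ⟨?_, ?_⟩ (by simp)
      · exact (RingTheory.Sequence.isWeaklyRegular_singleton_iff _ _).mpr hreg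
      · intro r hr
        rw [List.mem_singleton] at hr
        rw [hr]
        exact ha
  · exfalso
    have hq' : q.IsPrime := hq.isPrime
    have : IsLocalRing.maximalIdeal (X.presheaf.stalk x) = q :=
      (IsLocalRing.maximalIdeal.isMaximal _).eq_of_le hq'.ne_top hle
    apply h
    unfold Curv2.IsAssPoint
    rw [this]
    exact hq

end Depth

section Embedded

open Groth.Agent.Lib.Lead.SD.CMVanish Groth.Agent.Lib.Lead.SD.CMEquiv

variable (k : Type u) [Field k] (N : ℕ) {X : Scheme.{u}} (ι : X ⟶ CohB1.ProjSpace N k)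
  [IsClosedImmersion ι]

include ι in
/-- cohomology of quasi-coherent modules on a closed subscheme of `P^N_k` vanishes above `N` -/
theorem subsingleton_HH_of_gt (G : X.Modules) [G.IsQuasicoherent] (q : ℕ) (hq : N < q) :
    Subsingleton (Coh.HH X G q) := by
  haveI : IsAffineHom ι := inferInstance
  obtain ⟨e⟩ := Groth.Agent.S0012.result ι G q
  haveI : Coh.IsQCoh ((Coh.push ι).obj G) := isQuasicoherent_pushforward_of_isAffineHom ι G
  haveI : Subsingleton (Coh.HH (CohB1.ProjSpace N k) ((Coh.push ι).obj G) q) :=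
    Groth.Agent.S0022.result N k ((Coh.push ι).obj G) q hq
  exact e.toEquiv.subsingleton

/-- **(i) ⇒ (ii) for coherent sheaves of depth `≥ n`**, without restriction on `n` -/
theorem exists_vanishing_of_depth' (n : ℕ) (F : X.Modules) (hFc : Coh.IsCoh F)
    (hdepth : ∀ x : X, IsClosed ({x} : Set ↥X) →
      (n : ℕ∞) ≤ LocCoh.depth (X.presheaf.stalk x) (F.presheaf.stalk x))
    (j : ℕ) (hj : j < n) :
    ∃ m₀ : ℤ, ∀ m : ℤ, m₀ ≤ m → Subsingleton (Coh.HH X (CohB1.tensorMod F
      ((Scheme.Modules.pullback ι).obj (Twist.twistProjSpace N k (-m)))) j) := by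
  by_cases hjN : j ≤ N
  · haveI : EnoughInjectives (CohB1.ProjSpace N k).Modules :=
      Groth.Agent.S0485.result (Opens.grothendieckTopology (CohB1.ProjSpace N k))
        (CohB1.ProjSpace N k).ringCatSheaf
    haveI : HasInjectiveResolutions (ModSite.Mod (CohB1.ProjSpace N k).sheaf) :=
      inferInstanceAs (HasInjectiveResolutions (CohB1.ProjSpace N k).Modules)
    haveI : ModSite.HasSheafHom (O := (CohB1.ProjSpace N k).sheaf)
        ((Scheme.Modules.pushforward ι).obj F) :=
      Groth.Agent.Lib.Helper17.IHom.hasSheafHom _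
    haveI := hFc.1
    have hG : Coh.IsCoh ((Scheme.Modules.pushforward ι).obj F) :=
      Groth.Agent.Lib.Lead.Koszul.isCoh_push N k ι _ hFc
    have h1 := (Groth.Agent.Lib.Helper17.DualVanish.vanishing_iff k N
      ((Scheme.Modules.pushforward ι).obj F) hG j hjN).mpr
      (isZero_extSh_push_of_depth k N ι F hFc n hdepth _
        (Groth.Agent.Lib.Lead.Pn.isInvertible_twistProjSpace N k _)
        (Groth.Agent.Lib.Lead.Pn.isCoh_twist N k _) (N - j) (by omega))
    obtain ⟨m₀, hm₀⟩ := h1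
    refine ⟨m₀, fun m hm => ?_⟩
    haveI : (Twist.twistProjSpace N k (-m)).IsQuasicoherent :=
      (Groth.Agent.Lib.Lead.Pn.isCoh_twist N k (-m)).1
    rw [Groth.Agent.Lib.Lead.Koszul.subsingleton_HH_iff_push ι (Twist.twistProjSpace N k (-m))
      (Groth.Agent.Lib.Lead.Koszul.isFinLocFree_twist N k (-m)) F j]
    exact hm₀ m hm
  · refine ⟨0, fun m _ => ?_⟩
    haveI := hFc.1
    haveI : ((Scheme.Modules.pullback ι).obj (Twist.twistProjSpace N k (-m))).IsQuasicoherent :=
      (Groth.Agent.Lib.Helper12.H12ConsP.isCoh_pullback _ _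
        (Groth.Agent.Lib.Lead.Pn.isCoh_twist N k (-m))).1
    exact subsingleton_HH_of_gt k N ι _ j (by omega)

end Embedded

section Main

variable (k : Type u) [Field k] (X : Scheme.{u}) [X.Over (Spec (CommRingCat.of k))]
  [IsProper (X ↘ (Spec (CommRingCat.of k)))]

/-- a power of an ample module on a proper `k`-scheme is the pullback of `O(1)` along a closed
immersion into a projective space over `k` -/
theorem exists_embedding (L : X.Modules) (hL : CohB1.IsAmple L) :
    ∃ (d N : ℕ) (κ : X ⟶ CohB1.ProjSpace N k), 0 < d ∧ IsClosedImmersion κ ∧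
      Nonempty ((Scheme.Modules.pullback κ).obj (Twist.twistProjSpace N k 1) ≅
        CohB1.tensorPow L d) := by
  obtain ⟨n₀, h⟩ := exists_isRelVeryAmplePn_of_isAmple (X ↘ (Spec (CommRingCat.of k))) hL
    (isInvertible_unit X)
  obtain ⟨N, i, hi, hif, ⟨e⟩⟩ := h (n₀ + 1) (by omega)
  obtain ⟨κ, hκ, -, ⟨τ⟩⟩ := Groth.Agent.Lib.Helper12.H12Fin.exists_closedImmersion_projSpace N k
    (X ↘ (Spec (CommRingCat.of k))) i hif
  exact ⟨n₀ + 1, N, κ, by omega, hκ, ⟨τ ≪≫ e.symm ≪≫ tensorUnitR _⟩⟩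

theorem isCoh_tensorMod {Y : Scheme.{u}} (F G : Y.Modules) (hF : Coh.IsCoh F) (hG : Coh.IsCoh G) :
    Coh.IsCoh (CohB1.tensorMod F G) := by
  have := hF.1
  have := hF.2
  have := hG.1
  have := hG.2
  exact ⟨inferInstance, inferInstance⟩

theorem isCoh_of_isInvertible {Y : Scheme.{u}} {L : Y.Modules} (hL : PicF.IsInvertible L) :
    Coh.IsCoh L :=
  ⟨isQuasicoherent_of_isInvertible hL, isFiniteType_of_isInvertible hL⟩

omit [X.Over (Spec (CommRingCat.of k))] [IsProper (X ↘ (Spec (CommRingCat.of k)))] in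
/-- `κ^*O(-q) ≅ M^{dq}` when `κ^*O(1) ≅ L^d` and `M` is an inverse of `L` -/
theorem nonempty_pull_twist_neg_iso {N : ℕ} (κ : X ⟶ CohB1.ProjSpace N k) (L M : X.Modules) (d : ℕ)
    (e1 : (Scheme.Modules.pullback κ).obj (Twist.twistProjSpace N k 1) ≅ CohB1.tensorPow L d)
    (eM : CohB1.tensorMod L M ≅ unitM X) (q : ℕ) :
    Nonempty ((Scheme.Modules.pullback κ).obj (Twist.twistProjSpace N k (-(q : ℤ))) ≅
      CohB1.tensorPow M (d * q)) := by
  obtain ⟨a1⟩ := Groth.Agent.Lib.Helper29.Pic.nonempty_tensorPow_twist_iso N k 1 q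
  obtain ⟨a2⟩ := nonempty_pullbackTensorPowIso κ
    (Groth.Agent.Lib.Lead.Pn.isInvertible_twistProjSpace N k 1) q
  obtain ⟨a3⟩ := Groth.Agent.Lib.Lead.ExtCodim.nonempty_pull_twist_tensor_iso k N κ (q : ℤ)
  have a0 : Twist.twistProjSpace N k (q : ℤ) ≅
      CohB1.tensorPow (Twist.twistProjSpace N k 1) q :=
    eqToIso (by rw [one_mul]; rfl) ≪≫ a1.symm
  have a4 : (Scheme.Modules.pullback κ).obj (Twist.twistProjSpace N k (q : ℤ)) ≅
      CohB1.tensorPow L (d * q) :=
    (Scheme.Modules.pullback κ).mapIso a0 ≪≫ a2 ≪≫ tensorPowCongr e1 q ≪≫ tensorPowMul L d q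
  exact ⟨invUnique a3 (tensorCongr a4 (Iso.refl _) ≪≫ invPow eM (d * q))⟩

include k in
/-- **Vanishing for negative twists**: on a proper `k`-scheme with ample `L` and inverse `M`, a
coherent `F` with depth `≥ n` at all closed points has `H^j(F ⊗ M^m) = 0` for `j < n`, `m ≫ 0`. -/
theorem exists_vanishing_neg (L : X.Modules) (hL : CohB1.IsAmple L) (M : X.Modules)
    (hM : ClSub.IsInverseOf L M) (n : ℕ) (F : X.Modules) (hF : Coh.IsCoh F)
    (hdepth : ∀ x : X, IsClosed ({x} : Set ↥X) →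
      (n : ℕ∞) ≤ LocCoh.depth (X.presheaf.stalk x) (F.presheaf.stalk x))
    (j : ℕ) (hj : j < n) :
    ∃ m₀ : ℕ, ∀ m : ℕ, m₀ ≤ m →
      Subsingleton (Coh.HH X (CohB1.tensorMod F (CohB1.tensorPow M m)) j) := by
  obtain ⟨d, N, κ, hd, hκ, ⟨e1⟩⟩ := exists_embedding k X L hL
  obtain ⟨eM⟩ := hM
  have hLinv : PicF.IsInvertible L := hL.1
  have hMinv : PicF.IsInvertible M :=
    isInvertible_of_tensor_iso M L (tensorBraid M L ≪≫ eM)
  have hMr : ∀ r : ℕ, PicF.IsInvertible (CohB1.tensorPow M r) := fun r =>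
    isInvertible_tensorPow hMinv r
  haveI := hF.1
  have key : ∀ r : ℕ, ∃ m₀ : ℤ, ∀ m : ℤ, m₀ ≤ m → Subsingleton (Coh.HH X (CohB1.tensorMod
      (CohB1.tensorMod F (CohB1.tensorPow M r))
      ((Scheme.Modules.pullback κ).obj (Twist.twistProjSpace N k (-m)))) j) := by
    intro r
    haveI := isQuasicoherent_of_isInvertible (hMr r)
    refine exists_vanishing_of_depth' k N κ n _
      (isCoh_tensorMod _ _ hF (isCoh_of_isInvertible (hMr r))) ?_ j hj
    intro x hx
    rw [depth_stalk_tensor_invertible F _ (hMr r) x]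
    exact hdepth x hx
  choose m₀ hm₀ using key
  obtain ⟨B, hB⟩ := ((Finset.range d).image m₀).exists_le
  refine ⟨d * B.toNat + d, fun m hm => ?_⟩
  have hdm := Nat.div_add_mod m d
  have hr : m % d < d := Nat.mod_lt _ hd
  have hq : B.toNat ≤ m / d := by
    by_contra hlt
    rw [not_le] at hlt
    have : d * (m / d) + d ≤ d * B.toNat := by
      calc d * (m / d) + d = d * (m / d + 1) := by ring
        _ ≤ d * B.toNat := Nat.mul_le_mul_left d hlt
    omega
  have hq' : m₀ (m % d) ≤ ((m / d : ℕ) : ℤ) := by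
    have h1 : m₀ (m % d) ≤ B :=
      hB _ (Finset.mem_image_of_mem _ (Finset.mem_range.mpr hr))
    have h2 : B ≤ (B.toNat : ℤ) := Int.self_le_toNat B
    have h3 : (B.toNat : ℤ) ≤ ((m / d : ℕ) : ℤ) := by exact_mod_cast hq
    omega
  have hsub := hm₀ (m % d) _ hq'
  obtain ⟨a5⟩ := nonempty_pull_twist_neg_iso k X κ L M d e1 eM (m / d)
  have a6 : CohB1.tensorMod (CohB1.tensorMod F (CohB1.tensorPow M (m % d)))
      ((Scheme.Modules.pullback κ).obj (Twist.twistProjSpace N k (-((m / d : ℕ) : ℤ)))) ≅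
      CohB1.tensorMod F (CohB1.tensorPow M m) :=
    tensorCongr (Iso.refl _) a5 ≪≫ tensorAssoc _ _ _ ≪≫
      tensorCongr (Iso.refl _) (tensorPowAdd M (m % d) (d * (m / d)) ≪≫
        eqToIso (by rw [show m % d + d * (m / d) = m by omega]))
  exact Groth.Agent.Lib.Lead.Pn.subsingleton_HH_of_iso a6 j hsub

end Main

end Groth.Agent.Lib.Lead.SD.AmpleNeg
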