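import Mathlib

/-!
# Antitone integer sequences are determined by their counting functions
-/

set_option autoImplicit false

namespace Groth.Agent.Lib.Lead.SD

open Finset

/-- The number of indices with `t ≤ d i`. -/
def cnt {r : ℕ} (d : Fin r → ℤ) (t : ℤ) : ℕ := (univ.filter fun i => t ≤ d i).card

lemma sum_toNat_succ {r : ℕ} (d : Fin r → ℤ) (n : ℤ) :
    ∑ i, (d i + n + 1).toNat = ∑ i, (d i + (n - 1) + 1).toNat + cnt d (-n) := by
  unfold cnt
  rw [card_filter, ← sum_add_distrib]
  refine sum_congr rfl fun i _ => ?_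
  split_ifs with h <;> omega

lemma cnt_eq_of_sum_eq {r : ℕ} (d d' : Fin r → ℤ)
    (h : ∀ n : ℤ, ∑ i, (d i + n + 1).toNat = ∑ i, (d' i + n + 1).toNat) (t : ℤ) :
    cnt d t = cnt d' t := by
  have h1 := sum_toNat_succ d (-t)
  have h2 := sum_toNat_succ d' (-t)
  rw [neg_neg] at h1 h2
  have h3 := h (-t)
  have h4 := h (-t - 1)
  omega

lemma le_iff_lt_cnt {r : ℕ} (d : Fin r → ℤ) (hd : Antitone d) (t : ℤ) (i : Fin r) :
    t ≤ d i ↔ (i : ℕ) < cnt d t := by
  unfold cnt
  constructor
  · intro hi
    have hsub : Finset.Iic i ⊆ univ.filter fun j => t ≤ d j := by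
      intro j hj
      rw [mem_filter]
      exact ⟨mem_univ _, hi.trans (hd (mem_Iic.mp hj))⟩
    have := card_le_card hsub
    rw [Fin.card_Iic] at this
    omega
  · intro hi
    by_contra hcon
    have hsub : (univ.filter fun j => t ≤ d j) ⊆ Finset.Iio i := by
      intro j hj
      rw [mem_filter] at hj
      rw [mem_Iio]
      by_contra hji
      exact hcon (hj.2.trans (hd (not_lt.mp hji)))
    have := card_le_card hsub
    rw [Fin.card_Iio] at this
    omega

/-- Two antitone integer sequences with the same "Hilbert functions" are equal. -/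
theorem antitone_eq_of_sum_toNat_eq {r : ℕ} (d d' : Fin r → ℤ) (hd : Antitone d)
    (hd' : Antitone d')
    (h : ∀ n : ℤ, ∑ i, (d i + n + 1).toNat = ∑ i, (d' i + n + 1).toNat) : d = d' := by
  funext i
  have key : ∀ t : ℤ, t ≤ d i ↔ t ≤ d' i := fun t => by
    rw [le_iff_lt_cnt d hd, le_iff_lt_cnt d' hd', cnt_eq_of_sum_eq d d' h]
  exact le_antisymm ((key _).1 le_rfl) ((key _).2 le_rfl)

/-- Every finite integer sequence can be permuted to an antitone one. -/
theorem exists_perm_antitone {r : ℕ} (a : Fin r → ℤ) :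
    ∃ σ : Equiv.Perm (Fin r), Antitone (a ∘ σ) := by
  refine ⟨Tuple.sort (fun i => -a i), ?_⟩
  have hm := Tuple.monotone_sort (fun i => -a i)
  intro i j hij
  have := hm hij
  simp only [Function.comp_apply, neg_le_neg_iff] at this
  exact this

end Groth.Agent.Lib.Lead.SD
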