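import Groth.Agent.Lib.Lead.SD.Split1
import Groth.Agent.Lib.Lead.SD.Antitone
import Groth.Agent.Lib.Helper29.Dual4
import Groth.Agent.Lib.Helper29.SemiLoc2

/-!
# Grothendieck's splitting theorem on `P^1`
-/

set_option autoImplicit false

universe u

open CategoryTheory CategoryTheory.Limits AlgebraicGeometry Opposite TopologicalSpace MvPolynomial

namespace Groth.Agent.Lib.Lead.SD

open Groth.Agent.Lib.Lead.LinLES Groth.Agent.Lib.Lead.Pn Groth.Agent.Lib.Lead.Koszul
open Groth.Agent.Lib.Helper29.QCoh Groth.Agent.Lib.Lead.TwistExact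
open Groth.Agent.Lib.Helper29.QCoh.Dual

section rank

variable {X : Scheme.{u}}

/-- A coproduct of `k` invertible modules is finite locally free of rank `k`. -/
theorem isFinLocFreeOfRank_sigma_of_isInvertible {k : ℕ} (E : Fin k → X.Modules)
    (hE : ∀ j, PicF.IsInvertible (E j)) : FlatMod.IsFinLocFreeOfRank k (∐ E) := by
  rw [isFinLocFreeOfRank_iff_isFreeAlong]
  intro x
  have h1 : ∀ j, ∃ U : X.Opens, x ∈ U ∧ IsFreeAlong (E j) U.ι 1 := fun j => by
    have := (isInvertible_iff_isFinLocFreeOfRank_one (E j)).mp (hE j)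
    rw [isFinLocFreeOfRank_iff_isFreeAlong] at this
    exact this x
  choose U hxU hfree using h1
  let V : X.Opens := ⟨⋂ j, (U j : Set X), isOpen_iInter_of_finite fun j => (U j).2⟩
  have hV : ∀ j, V ≤ U j := fun j y hy => Set.mem_iInter.mp hy j
  refine ⟨V, Set.mem_iInter.mpr hxU, ?_⟩
  have h2 : ∀ j, IsFreeAlong (E j) V.ι 1 := fun j =>
    (hfree j).of_range_subset V.ι (by
      rw [Scheme.Opens.range_ι, Scheme.Opens.range_ι]
      exact hV j)
  have e : ∀ j, (Scheme.Modules.pullback V.ι).obj (E j) ≅ unitM (V : Scheme.{u}) := fun j =>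
    (h2 j).some ≪≫ freeModOneIso _
  exact ⟨PreservesCoproduct.iso (Scheme.Modules.pullback V.ι) E ≪≫ Sigma.mapIso e⟩

theorem isFinLocFreeOfRank_of_iso {r : ℕ} {M N : X.Modules} (e : M ≅ N)
    (h : FlatMod.IsFinLocFreeOfRank r M) : FlatMod.IsFinLocFreeOfRank r N := by
  rw [isFinLocFreeOfRank_iff_isFreeAlong] at h ⊢
  intro x
  obtain ⟨U, hx, hU⟩ := h x
  exact ⟨U, hx, hU.of_iso e⟩

theorem rank_unique [Nonempty X] {r r' : ℕ} {M : X.Modules}
    (h : FlatMod.IsFinLocFreeOfRank r M) (h' : FlatMod.IsFinLocFreeOfRank r' M) : r = r' := by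
  obtain ⟨x⟩ := ‹Nonempty X›
  have h1 := rankAtStalk_stalk_of_isFinLocFreeOfRank h x
  have h2 := rankAtStalk_stalk_of_isFinLocFreeOfRank h' x
  exact h1.symm.trans h2

end rank

section main

variable (k : Type u) [Field k]

/-- Existence in Grothendieck's theorem, before sorting. -/
theorem exists_splitting_P1 (E : (CohB1.ProjSpace 1 k).Modules)
    (hE : FlatMod.IsFinLocFree E) :
    ∃ (r : ℕ) (a : Fin r → ℤ),
      Nonempty (E ≅ ∐ fun j => Twist.twistProjSpace 1 k (a j)) := by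
  have hcoh := isCoh_of_isFinLocFree hE
  have h := (horrocks 0 k E hcoh).2
    ⟨exists_forall_le_subsingleton_HH_zero 1 k le_rfl E hE,
      fun j i h1 h2 => absurd h2 (by omega)⟩
  exact h

/-- **Grothendieck's theorem**: vector bundles on `P^1_k` split uniquely. -/
theorem exists_unique_splitting_P1 (r : ℕ) (E : (CohB1.ProjSpace 1 k).Modules)
    (hE : FlatMod.IsFinLocFreeOfRank r E) :
    ∃! d : Fin r → ℤ, Antitone d ∧
      Nonempty (E ≅ ∐ fun i : Fin r => Twist.twistProjSpace 1 k (d i)) := by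
  have hlf := isFinLocFree_of_isFinLocFreeOfRank hE
  obtain ⟨r', a, ⟨e⟩⟩ := exists_splitting_P1 k E hlf
  have hr : r' = r := rank_unique
    (isFinLocFreeOfRank_of_iso e.symm (isFinLocFreeOfRank_sigma_of_isInvertible _
      (fun j => twist_isInvertible 1 k (a j)))) hE
  subst hr
  obtain ⟨σ, hσ⟩ := exists_perm_antitone a
  have e2 : E ≅ ∐ fun i : Fin r' => Twist.twistProjSpace 1 k ((a ∘ σ) i) :=
    e ≪≫ (Sigma.reindex σ (fun j => Twist.twistProjSpace 1 k (a j))).symm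
  refine ⟨a ∘ σ, ⟨hσ, ⟨e2⟩⟩, ?_⟩
  rintro d' ⟨hd', ⟨e'⟩⟩
  apply antitone_eq_of_sum_toNat_eq d' (a ∘ σ) hd' hσ
  intro n
  rw [← finrank_HH_zero_tw_coprod_P1 k d' n, ← finrank_HH_zero_tw_coprod_P1 k (a ∘ σ) n]
  exact LinearEquiv.finrank_eq (HHlinEquiv k
    ((tensorRight (Twist.twistProjSpace 1 k n)).mapIso (e'.symm ≪≫ e2)) 0)

end main

end Groth.Agent.Lib.Lead.SD
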