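import Groth.Agent.Lib.Lead.SD.Dualizing
import Groth.Agent.Lib.Lead.Koszul.Resol2
import Groth.Agent.Lib.Helper29.Aut2

/-!
# The dualizing property on `P^0`
-/

set_option autoImplicit false

universe u

open CategoryTheory CategoryTheory.Limits AlgebraicGeometry Opposite TopologicalSpace

namespace Groth.Agent.Lib.Lead.SD

open Groth.Agent.Lib.Lead.LinLES Groth.Agent.Lib.Lead.Pn Groth.Agent.Lib.Lead.Koszul
open Groth.Agent.Lib.Helper29.QCoh Groth.Agent.Lib.Helper29.AutPn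

attribute [local instance] CategoryTheory.Abelian.hasFiniteBiproducts

section general

variable {X : Scheme.{u}}

lemma toSheaf_map_smulHom (M : X.Modules) (a : Γ(X, ⊤)) :
    (SheafOfModules.toSheaf X.ringCatSheaf).map (smulHom M a) = Coh.smulAb M a := by
  ext U m
  rfl

lemma hh0_map {M N : X.Modules} (φ : M ⟶ N) (x : Coh.HH X M 0) :
    hh0 N (Sheaf.H.map ((SheafOfModules.toSheaf X.ringCatSheaf).map φ) 0 x) =
      φ.app ⊤ (hh0 M x) :=
  (Sheaf.H.equiv₀_naturality (hT := (isTerminalTop : IsTerminal (⊤ : Opens X)))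
    ((SheafOfModules.toSheaf X.ringCatSheaf).map φ) x).symm

lemma eq_of_HH0_eq {M N : X.Modules} (hM : Curv2.IsGloballyGenerated M) (φ φ' : M ⟶ N)
    (h : ∀ x : Coh.HH X M 0,
      Sheaf.H.map ((SheafOfModules.toSheaf X.ringCatSheaf).map φ) 0 x =
        Sheaf.H.map ((SheafOfModules.toSheaf X.ringCatSheaf).map φ') 0 x) : φ = φ' := by
  obtain ⟨ι, p, hp⟩ := hM
  have h0 : p ≫ (φ - φ') = 0 := by
    refine free_comp_eq_zero (φ - φ') (fun s => ?_) p
    obtain ⟨x, rfl⟩ := (hh0 M).surjective s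
    change φ.app ⊤ (hh0 M x) - φ'.app ⊤ (hh0 M x) = 0
    rw [← hh0_map, ← hh0_map, h x, sub_self]
  have h1 : φ - φ' = 0 := (cancel_epi p).1 (h0.trans comp_zero.symm)
  exact sub_eq_zero.1 h1

end general

section zero

variable (R : Type u) [CommRing R]

lemma isGloballyGenerated_twist_zero (d : ℤ) :
    Curv2.IsGloballyGenerated (Twist.twistProjSpace 0 R d) := by
  have hcoh := isCoh_twist 0 R d
  haveI := hcoh.1
  haveI := hcoh.2
  have h := isGloballyGenerated_tw_of_regular 0 R (Twist.twistProjSpace 0 R d) 0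
    (fun r _ p hp1 hp0 => by omega)
  obtain ⟨e⟩ := nonempty_tw_zero_iso 0 R (Twist.twistProjSpace 0 R d)
  exact isGloballyGenerated_of_iso e h

variable (d : ℤ)
  (t : Coh.HH (CohB1.ProjSpace 0 R) (Twist.twistProjSpace 0 R d) 0 ≃ₗ[R] R)

theorem perf_twist_zero :
    Perf R 0 (Twist.twistProjSpace 0 R d) t.toLinearMap (Twist.twistProjSpace 0 R d) := by
  intro ψ
  have hex : ∀ x : Coh.HH (CohB1.ProjSpace 0 R) (Twist.twistProjSpace 0 R d) 0,
      ψ x = t.toLinearMap (Canon.HHlin R (smulHom (Twist.twistProjSpace 0 R d)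
        (Coh.toGlobal (CohB1.ProjSpace.toSpec 0 R) (ψ (t.symm 1)))) 0 x) := by
    intro x
    have h1 : Canon.HHlin R (smulHom (Twist.twistProjSpace 0 R d)
        (Coh.toGlobal (CohB1.ProjSpace.toSpec 0 R) (ψ (t.symm 1)))) 0 x = ψ (t.symm 1) • x := by
      change Sheaf.H.map ((SheafOfModules.toSheaf _).map (smulHom (Twist.twistProjSpace 0 R d)
        (Coh.toGlobal (CohB1.ProjSpace.toSpec 0 R) (ψ (t.symm 1))))) 0 x = _
      rw [toSheaf_map_smulHom]
      rfl
    rw [h1]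
    have h2 : x = (t x) • t.symm 1 := by
      apply t.injective
      rw [map_smul, t.apply_symm_apply, smul_eq_mul, mul_one]
    conv_lhs => rw [h2, map_smul]
    change _ = t (ψ (t.symm 1) • x)
    rw [map_smul, smul_eq_mul, smul_eq_mul, mul_comm]
  refine ⟨_, hex, ?_⟩
  intro φ' hφ'
  apply eq_of_HH0_eq (isGloballyGenerated_twist_zero R d)
  intro x
  apply t.injective
  exact (hφ' x).symm.trans (hex x)

end zero

section zeroCoh

variable (R : Type u) [CommRing R] [IsNoetherianRing R] (m : ℤ)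
  (t : Coh.HH (CohB1.ProjSpace 0 R) (Twist.twistProjSpace 0 R (-m)) 0 ≃ₗ[R] R)

/-- **`O(-1)` (indeed any twist) is dualizing on `P^0_R`.** -/
theorem perf_of_isCoh_zero (F : (CohB1.ProjSpace 0 R).Modules) (hF : Coh.IsCoh F) :
    Perf R 0 (Twist.twistProjSpace 0 R (-m)) t.toLinearMap F := by
  obtain ⟨r, φ, hφ, -⟩ := exists_epi_coprod_twist_kernel_regular 0 R F hF m
    (fun r _ p hp1 hp0 => by omega)
  let L : Fin r → (CohB1.ProjSpace 0 R).Modules := fun _ => Twist.twistProjSpace 0 R (-m)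
  let φ₀ : (∐ L : (CohB1.ProjSpace 0 R).Modules) ⟶ F := φ
  haveI : Epi φ₀ := hφ
  let φ' : (⨁ L : (CohB1.ProjSpace 0 R).Modules) ⟶ F := (biproduct.isoCoproduct L).hom ≫ φ₀
  haveI : Epi φ' := epi_comp _ _
  have hE : Coh.IsCoh (⨁ L : (CohB1.ProjSpace 0 R).Modules) :=
    isCoh_biproduct L fun j => isCoh_twist 0 R (-m)
  have hK : Coh.IsCoh (kernel φ') := (Groth.Agent.S9514.result _ hE hF φ').1
  obtain ⟨r', ψ, hψ, -⟩ := exists_epi_coprod_twist_kernel_regular 0 R (kernel φ') hK m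
    (fun r _ p hp1 hp0 => by omega)
  let L' : Fin r' → (CohB1.ProjSpace 0 R).Modules := fun _ => Twist.twistProjSpace 0 R (-m)
  let ψ₀ : (∐ L' : (CohB1.ProjSpace 0 R).Modules) ⟶ kernel φ' := ψ
  haveI : Epi ψ₀ := hψ
  let ψ' : (⨁ L' : (CohB1.ProjSpace 0 R).Modules) ⟶ kernel φ' :=
    (biproduct.isoCoproduct L').hom ≫ ψ₀
  haveI : Epi ψ' := epi_comp _ _
  haveI : Coh.IsQCoh (kernel φ') := hK.1
  have hsub : Subsingleton (Coh.HH (CohB1.ProjSpace 0 R) (kernel φ') (0 + 1)) :=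
    Groth.Agent.S0022.result 0 R (kernel φ') (0 + 1) (by omega)
  exact perf_of_presentation φ' ψ' (perf_biproduct L fun j => perf_twist_zero R (-m) t)
    (perf_biproduct L' fun j => perf_twist_zero R (-m) t) hsub

end zeroCoh

end Groth.Agent.Lib.Lead.SD
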