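import Groth.Agent.Lib.Lead.TwistExact
import Groth.Agent.Lib.Helper29.TensorIso
import Groth.Agent.Lib.Helper17.Tensor
import Groth.Agent.Lib.Lead.LinLES.Basic
import Groth.Agent.Lib.Lead.SD.DualizingZero

/-!
# Tensoring with an invertible module is an equivalence: the natural untwisting isomorphism
-/

set_option autoImplicit false

universe u

open CategoryTheory CategoryTheory.Limits AlgebraicGeometry Opposite MonoidalCategory

namespace Groth.Agent.Lib.Lead.SD

open Groth.Agent.Lib.Lead.TwistExact Groth.Agent.Lib.Helper17.Tensor Groth.Agent.Lib.Helper29.QCoh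
  Groth.Agent.Lib.Helper17.IHom

variable {X : Scheme.{u}}

/-- Naturality of the right unitor `F ⊗ O ≅ F`. -/
lemma unitorR_naturality {F F' : X.Modules} (f : F ⟶ F') :
    (tensorRight (Coh.structureModule X)).map f ≫ (SecTwist.unitorR F').hom =
      (SecTwist.unitorR F).hom ≫ f := by
  unfold SecTwist.unitorR
  simp only [Iso.trans_hom, Functor.mapIso_hom, Iso.app_hom, asIso_hom]
  have h1 : (tensorRight (Coh.structureModule X)).map f =
      (CohB1.sheafifyMod X).map (pv f ▷ toPMod (Coh.structureModule X)) := rfl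
  rw [h1]
  have h2 : (pv f ▷ toPMod (Coh.structureModule X)) ≫ (SecTwist.unitorPre F').hom =
      (SecTwist.unitorPre F).hom ≫ pv f :=
    MonoidalCategory.rightUnitor_naturality (C := CohB1.PMod X) (pv f)
  have h3 : (CohB1.sheafifyMod X).map (pv f) ≫
      (PresheafOfModules.sheafificationAdjunction (𝟙 X.ringCatSheaf.obj)).counit.app F' =
      (PresheafOfModules.sheafificationAdjunction (𝟙 X.ringCatSheaf.obj)).counit.app F ≫ f :=
    (PresheafOfModules.sheafificationAdjunction (𝟙 X.ringCatSheaf.obj)).counit.naturality f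
  have h4 : (CohB1.sheafifyMod X).map (pv f ▷ toPMod (Coh.structureModule X)) ≫
      (CohB1.sheafifyMod X).map (SecTwist.unitorPre F').hom =
      (CohB1.sheafifyMod X).map (SecTwist.unitorPre F).hom ≫ (CohB1.sheafifyMod X).map (pv f) :=
    ((CohB1.sheafifyMod X).map_comp _ _).symm.trans
      ((congrArg (fun φ => (CohB1.sheafifyMod X).map φ) h2).trans
        ((CohB1.sheafifyMod X).map_comp _ _))
  exact (Category.assoc _ _ _).symm.trans ((congrArg (fun φ => φ ≫
    (PresheafOfModules.sheafificationAdjunction (𝟙 X.ringCatSheaf.obj)).counit.app F') h4).trans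
    ((Category.assoc _ _ _).trans ((congrArg (fun φ =>
      (CohB1.sheafifyMod X).map (SecTwist.unitorPre F).hom ≫ φ) h3).trans
      (Category.assoc _ _ _).symm)))

/-- The untwisting natural isomorphism `(- ⊗ L) ⊗ L' ≅ id` for `L ⊗ L' ≅ O`. -/
noncomputable def untwistNatIso (L L' : X.Modules)
    (μ : CohB1.tensorMod L L' ≅ Coh.structureModule X) :
    tensorRight L ⋙ tensorRight L' ≅ 𝟭 X.Modules :=
  assocNatIso (O := X.sheaf) L L' ≪≫ (ModSite.tensorBi X.sheaf).flip.mapIso μ ≪≫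
    NatIso.ofComponents (fun F => SecTwist.unitorR F) (fun f => unitorR_naturality f)

open Groth.Agent.Lib.Lead.LinLES in
/-- If `H^1` of the first term of a short exact sequence vanishes, global sections of the third
term lift to the middle term. -/
theorem exists_lift_section (S : ShortComplex X.Modules) (hS : S.ShortExact)
    (h1 : Subsingleton (Coh.HH X S.X₁ 1)) (t : Γ(S.X₃, ⊤)) :
    ∃ s : Γ(S.X₂, ⊤), S.g.app ⊤ s = t := by
  have hS' := abS_shortExact S hS
  obtain ⟨x₃, hx₃⟩ : ∃ x₃ : Coh.HH X S.X₃ 0, hh0 S.X₃ x₃ = t :=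
    ⟨(hh0 S.X₃).symm t, AddEquiv.apply_symm_apply _ _⟩
  have h0 : (Abelian.Ext.comp x₃ (eC S hS) rfl : Coh.HH X S.X₁ (0 + 1)) = 0 :=
    @Subsingleton.elim _ h1 _ _
  obtain ⟨x₂, hx₂⟩ := Abelian.Ext.covariant_sequence_exact₃ _ hS' x₃ rfl h0
  refine ⟨hh0 S.X₂ x₂, ?_⟩
  rw [← hx₃, ← hx₂]
  exact (hh0_map S.g x₂).symm

/-- A short exact sequence whose third term becomes trivial after tensoring with an invertible
flat `L`, and such that `H^1(X₁ ⊗ L) = 0`, splits. -/
theorem nonempty_splitting_of_untwist (S : ShortComplex X.Modules) (hS : S.ShortExact)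
    (L L' : X.Modules) (hL : FlatMod.IsFlat L)
    (μ : CohB1.tensorMod L L' ≅ Coh.structureModule X)
    (θ : unitM X ≅ CohB1.tensorMod S.X₃ L)
    (h1 : Subsingleton (Coh.HH X (CohB1.tensorMod S.X₁ L) 1)) : Nonempty S.Splitting := by
  have hTS := shortExact_map_tensorRight hL S hS
  obtain ⟨Tg, hTg⟩ : ∃ Tg : CohB1.tensorMod S.X₂ L ⟶ CohB1.tensorMod S.X₃ L,
      Tg = (tensorRight L).map S.g := ⟨_, rfl⟩
  obtain ⟨s, hs⟩ : ∃ s : Γ(CohB1.tensorMod S.X₂ L, ⊤), Tg.app ⊤ s = sval θ.hom ⊤ := by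
    rw [hTg]
    exact exists_lift_section (S.map (tensorRight L)) hTS h1 (sval θ.hom ⊤)
  let v : unitM X ⟶ CohB1.tensorMod S.X₂ L := homOfSection (CohB1.tensorMod S.X₂ L) s
  have hvg : v ≫ Tg = θ.hom := by
    apply hom_ext_of_sval
    rw [sval_comp, sval_homOfSection, res_self]
    exact hs
  have hvg' : (θ.inv ≫ v) ≫ Tg = 𝟙 (CohB1.tensorMod S.X₃ L) := by
    rw [Category.assoc, hvg, Iso.inv_hom_id]
  let η := untwistNatIso L L' μ
  obtain ⟨a, ha⟩ : ∃ a : (tensorRight L').obj (CohB1.tensorMod S.X₃ L) ⟶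
      (tensorRight L').obj (CohB1.tensorMod S.X₂ L),
      a = (tensorRight L').map (θ.inv ≫ v) := ⟨_, rfl⟩
  obtain ⟨b, hb⟩ : ∃ b : (tensorRight L').obj (CohB1.tensorMod S.X₂ L) ⟶
      (tensorRight L').obj (CohB1.tensorMod S.X₃ L),
      b = (tensorRight L').map Tg := ⟨_, rfl⟩
  have hab : a ≫ b = 𝟙 _ := by
    subst ha hb
    exact ((tensorRight L').map_comp _ _).symm.trans
      ((congrArg (fun f => (tensorRight L').map f) hvg').trans ((tensorRight L').map_id _))
  have hnat : b ≫ η.hom.app S.X₃ = η.hom.app S.X₂ ≫ S.g := by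
    subst hb hTg
    exact η.hom.naturality S.g
  obtain ⟨p, hp⟩ : ∃ p : S.X₃ ⟶ (tensorRight L').obj (CohB1.tensorMod S.X₃ L),
      p = η.inv.app S.X₃ := ⟨_, rfl⟩
  obtain ⟨q₂, hq₂⟩ : ∃ q₂ : (tensorRight L').obj (CohB1.tensorMod S.X₂ L) ⟶ S.X₂,
      q₂ = η.hom.app S.X₂ := ⟨_, rfl⟩
  obtain ⟨q₃, hq₃⟩ : ∃ q₃ : (tensorRight L').obj (CohB1.tensorMod S.X₃ L) ⟶ S.X₃,
      q₃ = η.hom.app S.X₃ := ⟨_, rfl⟩
  have hpq : p ≫ q₃ = 𝟙 S.X₃ := by
    subst hp hq₃
    exact η.inv_hom_id_app S.X₃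
  have hnat' : b ≫ q₃ = q₂ ≫ S.g := by
    subst hq₂ hq₃
    exact hnat
  refine ⟨ShortComplex.Splitting.ofExactOfSection S hS.exact (p ≫ a ≫ q₂) ?_ hS.mono_f⟩
  rw [Category.assoc, Category.assoc, ← hnat', reassoc_of% hab, hpq]

end Groth.Agent.Lib.Lead.SD
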