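import Groth.Agent.Lib.Helper29.QCohAss
import Groth.Prelude.Def_CohB1

/-!
# A point of the support with no proper generization in the support is an associated point
-/

set_option autoImplicit false

universe u

open CategoryTheory CategoryTheory.Limits AlgebraicGeometry TopologicalSpace Opposite

namespace Groth.Agent.Lib.Lead.SD.AssMinSupp

open Groth.Agent.Lib.Helper29.QCoh

theorem isAssPoint_of_minimal_support {X : Scheme.{u}} (G : X.Modules) [G.IsQuasicoherent] (x : X)
    (hx : x ∈ CohB1.support G) (hmin : ∀ y ∈ CohB1.support G, y ⤳ x → y = x) :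
    Curv2.IsAssPoint G x := by
  rw [isAssPoint_iff_isWeakAssPoint]
  obtain ⟨U, hU, hxU, -⟩ := exists_isAffineOpen_mem_and_subset (x := x) (U := ⊤) trivial
  have hx' : ¬ Subsingleton (G.presheaf.stalk x) := hx
  rw [stalk_subsingleton_iff_germ G hU x hxU, not_forall] at hx'
  obtain ⟨m, hm⟩ := hx'
  refine isWeakAssPoint_of_mem_minimalPrimes G hU m x hxU ⟨⟨inferInstance, ?_⟩, ?_⟩
  · intro r hr
    by_contra hrp
    apply hm
    rw [germ_eq_zero_iff G hU x hxU]
    exact ⟨r, (mem_basicOpen_iff_notMem_primeIdealOf hU x hxU r).mpr hrp,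
      (mem_annSection G m r).mp hr⟩
  · rintro q ⟨hqprime, hqle⟩ hqp
    obtain ⟨y, hyU, hy⟩ := exists_point_of_prime' hU ⟨q, hqprime⟩
    have hyq : (hU.primeIdealOf ⟨y, hyU⟩).asIdeal = q := congrArg PrimeSpectrum.asIdeal hy
    have hspec : y ⤳ x := specializes_of_primeIdealOf_le hU x y hxU hyU (by rw [hyq]; exact hqp)
    have hyS : y ∈ CohB1.support G := by
      intro hsub
      rw [stalk_subsingleton_iff_germ G hU y hyU] at hsub
      have h1 := hsub m
      rw [germ_eq_zero_iff G hU y hyU] at h1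
      obtain ⟨r, hr, hrm⟩ := h1
      have h2 : r ∈ q := hqle ((mem_annSection G m r).mpr hrm)
      exact (mem_basicOpen_iff_notMem_primeIdealOf hU y hyU r).mp hr (by rw [hyq]; exact h2)
    have hyx := hmin y hyS hspec
    subst hyx
    rw [← hyq]

end Groth.Agent.Lib.Lead.SD.AssMinSupp
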