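import Groth.Agent.Lib.Lead.SD.CMVanish
import Groth.Agent.Lib.Lead.SD.DualProj

/-!
# Serre duality on Cohen–Macaulay closed subschemes of `P^N_k` (Hartshorne III.7.6, (i) ⇒ (iii))
-/

set_option autoImplicit false

universe u

open CategoryTheory CategoryTheory.Limits AlgebraicGeometry TopologicalSpace Opposite Abelian

namespace Groth.Agent.Lib.Lead.SD.CMDual

open Groth.Agent.Lib.Helper29.QCoh Groth.Agent.Lib.Lead.SD.CMVanish

variable (k : Type u) [Field k] (N : ℕ) {X : Scheme.{u}} (ι : X ⟶ CohB1.ProjSpace N k)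
  [IsClosedImmersion ι]

include k ι in
/-- a nonempty closed subscheme of `P^N_k` whose closed points have local rings of dimension `n`
has `n ≤ N` -/
theorem le_of_closed_points [Nonempty ↥X] (n : ℕ)
    (hdim : ∀ x : X, IsClosed ({x} : Set ↥X) → ringKrullDim (X.presheaf.stalk x) = n) : n ≤ N := by
  haveI : JacobsonSpace ↥X := JacobsonSpace.of_isClosedEmbedding ι.isClosedEmbedding
  obtain ⟨y, hy⟩ : (closedPoints ↥X).Nonempty := by
    by_contra h
    rw [Set.not_nonempty_iff_eq_empty] at h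
    have h1 := closure_closedPoints (X := ↥X)
    rw [h, closure_empty] at h1
    exact (Set.univ_nonempty (α := ↥X)).ne_empty h1.symm
  have hcl : IsClosed ({ι y} : Set (CohB1.ProjSpace N k)) := by
    have := ι.isClosedEmbedding.isClosedMap _ hy
    rwa [Set.image_singleton] at this
  have h1 := ringKrullDim_stalk_of_isClosed k N (ι y) hcl
  have h2 := ringKrullDim_le_of_surjective (ι.stalkMap y).hom (ι.stalkMap_surjective y)
  rw [h1, hdim y hy] at h2
  exact_mod_cast h2

/-- **Hartshorne III.7.6 (i) ⇒ (ii)**: vanishing of `H^j(X, O_X(-q))`, `j < n`, `q ≫ 0`, for `X`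
Cohen–Macaulay of dimension `n` at closed points. -/
theorem exists_vanishing_of_CM [Nonempty ↥X] (n : ℕ)
    (hCM : ∀ x : X, IsClosed ({x} : Set ↥X) →
      LocCoh.IsCohenMacaulayLocalRing (X.presheaf.stalk x) ∧
        ringKrullDim (X.presheaf.stalk x) = n)
    (j : ℕ) (hj : j < n) :
    ∃ q₀ : ℤ, ∀ q : ℤ, q₀ ≤ q → Subsingleton (Coh.HH X
      ((Scheme.Modules.pullback ι).obj (Twist.twistProjSpace N k (-q))) j) := by
  haveI : EnoughInjectives (CohB1.ProjSpace N k).Modules :=
    Groth.Agent.S0485.result (Opens.grothendieckTopology (CohB1.ProjSpace N k))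
      (CohB1.ProjSpace N k).ringCatSheaf
  haveI : HasInjectiveResolutions (ModSite.Mod (CohB1.ProjSpace N k).sheaf) :=
    inferInstanceAs (HasInjectiveResolutions (CohB1.ProjSpace N k).Modules)
  haveI : ModSite.HasSheafHom (O := (CohB1.ProjSpace N k).sheaf)
      ((Scheme.Modules.pushforward ι).obj (Coh.structureModule X)) :=
    Groth.Agent.Lib.Helper17.IHom.hasSheafHom _
  have hnN : n ≤ N := le_of_closed_points k N ι n (fun x hx => (hCM x hx).2)
  have h := (Groth.Agent.Lib.Helper17.DualVanish.main k N n n hnN X ι).mpr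
    (fun p _ hp => isZero_extSh_of_CM k N ι n hCM _
      (Groth.Agent.Lib.Lead.Pn.isInvertible_twistProjSpace N k _)
      (Groth.Agent.Lib.Lead.Pn.isCoh_twist N k _) (N - p) (by omega))
  exact h j (by omega) hj

include N ι in
/-- **Hartshorne III.7.6 (i) ⇒ (iii)** -/
theorem duality_of_CM [X.Over (Spec (CommRingCat.of k))] [HasExt.{u} X.Modules] (n : ℕ)
    (hn : topologicalKrullDim ↥X = n)
    (hCM : ∀ x : X, IsClosed ({x} : Set ↥X) →
      LocCoh.IsCohenMacaulayLocalRing (X.presheaf.stalk x) ∧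
        ringKrullDim (X.presheaf.stalk x) = n)
    (ω : X.Modules) (hω : Coh.IsCoh ω) (t : Coh.HH X ω n →ₗ[k] k)
    (hdual : ∀ F : X.Modules, Coh.IsCoh F → ∀ ψ : Coh.HH X F n →ₗ[k] k,
        ∃! φ : F ⟶ ω, ∀ x : Coh.HH X F n,
          ψ x = t (Sheaf.H.map ((SheafOfModules.toSheaf X.ringCatSheaf).map φ) n x))
    (F : X.Modules) (hF : Coh.IsCoh F) :
    (∀ i : ℕ, i ≤ n → Nonempty (Ext F ω i ≃ₗ[k] Module.Dual k (Coh.HH X F (n - i)))) ∧
    ∀ i : ℕ, n < i → Subsingleton (Ext F ω i) := by
  haveI : Nonempty ↥X := by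
    by_contra h
    rw [not_nonempty_iff] at h
    have h0 : topologicalKrullDim ↥X = ⊥ := by
      unfold topologicalKrullDim
      haveI : IsEmpty (IrreducibleCloseds ↥X) := ⟨fun Z => by
        obtain ⟨z, -⟩ := Z.2.nonempty
        exact h.false z⟩
      exact Order.krullDim_eq_bot
    rw [h0] at hn
    exact absurd hn (by simp)
  exact Groth.Agent.Lib.Lead.SD.DualProj.duality_of_vanishing k N ι n ω hω t hdual
    (fun j hj => exists_vanishing_of_CM k N ι n hCM j hj) F hF

end Groth.Agent.Lib.Lead.SD.CMDual
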