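import Groth.Agent.Lib.Lead.SD.CMDual
import Groth.Agent.Lib.Lead.SD.ExtHomLin
import Groth.Agent.Lib.Helper17.RegDim
import Groth.Agent.Lib.Helper29.RegDim1

/-!
# Serre duality for vector bundles on Cohen–Macaulay projective schemes
-/

set_option autoImplicit false

universe u

open CategoryTheory CategoryTheory.Limits AlgebraicGeometry TopologicalSpace Opposite Abelian

namespace Groth.Agent.Lib.Lead.SD.CMDual

open Groth.Agent.Lib.Helper29.QCoh Groth.Agent.Lib.Lead.SD.CMVanish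

variable (k : Type u) [Field k] (N : ℕ) {X : Scheme.{u}} (ι : X ⟶ CohB1.ProjSpace N k)
  [IsClosedImmersion ι]

/-- on an equidimensional closed subscheme of `P^N_k` of dimension `n`, the local rings at closed
points have dimension `n` -/
theorem ringKrullDim_stalk_of_equidim [X.Over (Spec (CommRingCat.of k))]
    (hι : ι ≫ CohB1.ProjSpace.toSpec N k = X ↘ Spec (CommRingCat.of k))
    (n : ℕ) (hn : topologicalKrullDim ↥X = n)
    (heq : ∀ Z : Set ↥X, Z ∈ irreducibleComponents ↥X → topologicalKrullDim ↥Z = (n : WithBot ℕ∞))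
    (x : X) (hx : IsClosed ({x} : Set ↥X)) : ringKrullDim (X.presheaf.stalk x) = n := by
  haveI : LocallyOfFiniteType (X ↘ Spec (CommRingCat.of k)) := by
    rw [← hι]
    infer_instance
  apply le_antisymm
  · have := ringKrullDim_stalk_le_topologicalKrullDim X x
    rwa [hn] at this
  · have h0 : topologicalKrullDim ↥(closure ({x} : Set ↥X)) ≤ ((0 : ℕ) : WithBot ℕ∞) := by
      rw [hx.closure_eq]
      exact_mod_cast (topologicalKrullDim_singleton x).le
    have := Groth.Agent.Lib.Helper17.RegDim.le_ringKrullDim_stalk k X n heq x 0 h0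
    simpa using this

/-- **Serre duality for vector bundles** on a Cohen–Macaulay equidimensional closed subscheme of
`P^N_k` -/
theorem dual_HH_linearEquiv_HH_sheafHom [X.Over (Spec (CommRingCat.of k))] [HasExt.{u} X.Modules]
    (hι : ι ≫ CohB1.ProjSpace.toSpec N k = X ↘ Spec (CommRingCat.of k))
    (n : ℕ) (hn : topologicalKrullDim ↥X = n)
    (hCM : ∀ x : X, LocCoh.IsCohenMacaulayLocalRing (X.presheaf.stalk x))
    (heq : ∀ Z : Set ↥X, Z ∈ irreducibleComponents ↥X → topologicalKrullDim ↥Z = (n : WithBot ℕ∞))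
    (ω : X.Modules) (hω : Coh.IsCoh ω) (t : Coh.HH X ω n →ₗ[k] k)
    (hdual : ∀ F : X.Modules, Coh.IsCoh F → ∀ ψ : Coh.HH X F n →ₗ[k] k,
        ∃! φ : F ⟶ ω, ∀ x : Coh.HH X F n,
          ψ x = t (Sheaf.H.map ((SheafOfModules.toSheaf X.ringCatSheaf).map φ) n x))
    (F : X.Modules) (hF : FlatMod.IsFinLocFree F) [DCoh.HasSheafHom F] (i : ℕ) (hi : i ≤ n) :
    Nonempty (Module.Dual k (Coh.HH X F i) ≃ₗ[k] Coh.HH X ((DCoh.sheafHom F).obj ω) (n - i)) := by
  have hFc : Coh.IsCoh F := Groth.Agent.Lib.Lead.SD.isCoh_of_isFinLocFree hF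
  have hCM' : ∀ x : X, IsClosed ({x} : Set ↥X) →
      LocCoh.IsCohenMacaulayLocalRing (X.presheaf.stalk x) ∧
        ringKrullDim (X.presheaf.stalk x) = n :=
    fun x hx => ⟨hCM x, ringKrullDim_stalk_of_equidim k N ι hι n hn heq x hx⟩
  obtain ⟨e1⟩ := (duality_of_CM k N ι n hn hCM' ω hω t hdual F hFc).1 (n - i) (by omega)
  have h2 : n - (n - i) = i := by omega
  rw [h2] at e1
  obtain ⟨e2⟩ := Groth.Agent.Lib.Lead.SD.nonempty_ext_linearEquiv_HH_sheafHom (A := k) F ω hF (n - i)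
  exact ⟨e1.symm.trans e2⟩

end Groth.Agent.Lib.Lead.SD.CMDual
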