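import Groth.Agent.Lib.Helper17.DualVanish
import Groth.Agent.Lib.Helper17.ExtDepth
import Groth.Agent.Lib.Helper17.PnCodim
import Groth.Agent.Lib.Helper17.RegExtIso
import Groth.Agent.Lib.Helper10.HartogsOne
import Groth.Agent.Lib.Helper6.FTPoints
import Groth.Agent.Lib.Helper16.DepthQuotient
import Groth.Agent.Lib.Helper18.InvStalk
import Groth.Agent.Lib.Helper16.ExtRegDepth
import Groth.Agent.Lib.Lead.ExtCodim.Main

/-!
# Cohen–Macaulay closed subschemes of `P^N_k`: vanishing of `ℰxt^c(ι_* O_X, ω_P)` for `c > N - n`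

(Hartshorne III.7.6, (i) ⇒ (ii).)
-/

set_option autoImplicit false

universe u

open CategoryTheory CategoryTheory.Limits AlgebraicGeometry TopologicalSpace Opposite

namespace Groth.Agent.Lib.Lead.SD.CMVanish

open Groth.Agent.Lib.Helper29.QCoh

section Closed

/-- in a Jacobson scheme, a point which is a maximal ideal of an affine open is closed -/
theorem isClosed_singleton_of_isMaximal {S : Scheme.{u}} [JacobsonSpace S] {U : S.Opens}
    (hU : IsAffineOpen U) (s : S) (hs : s ∈ U)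
    (hmax : (hU.primeIdealOf ⟨s, hs⟩).asIdeal.IsMaximal) : IsClosed ({s} : Set S) := by
  have h1 : IsClosed ({⟨s, hs⟩} : Set ↥U) :=
    (Groth.Agent.Lib.Helper6.isClosed_singleton_iff_isMaximal hU s hs).mpr hmax
  have hoe : Topology.IsOpenEmbedding (Subtype.val : ↥U → S) := U.2.isOpenEmbedding_subtypeVal
  have h2 : (⟨s, hs⟩ : ↥U) ∈ (Subtype.val : ↥U → S) ⁻¹' closedPoints S := by
    rw [hoe.preimage_closedPoints]
    exact h1
  exact h2

end Closed

section PnClosed

open Groth.Agent.Lib.Helper10.Hartogs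

theorem topologicalKrullDim_singleton {T : Type*} [TopologicalSpace T] (z : T) :
    topologicalKrullDim ↥({z} : Set T) = 0 := by
  apply le_antisymm
  · exact topologicalKrullDim_zero_of_discreteTopology _
  · have huniv : (Set.univ : Set ↥({z} : Set T)) = {⟨z, rfl⟩} := by
      ext ⟨x, hx⟩
      simp only [Set.mem_univ, Set.mem_singleton_iff, true_iff]
      exact Subtype.ext hx
    haveI : Nonempty (IrreducibleCloseds ↥({z} : Set T)) :=
      ⟨⟨Set.univ, by rw [huniv]; exact isIrreducible_singleton, isClosed_univ⟩⟩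
    exact Order.krullDim_nonneg

variable (k : Type u) [Field k] (N : ℕ)

theorem ringKrullDim_stalk_of_isClosed (z : CohB1.ProjSpace N k)
    (hz : IsClosed ({z} : Set (CohB1.ProjSpace N k))) :
    ringKrullDim ((CohB1.ProjSpace N k).presheaf.stalk z) = N := by
  have h0 : topologicalKrullDim ↥(closure ({z} : Set (CohB1.ProjSpace N k))) =
      ((0 : ℕ) : WithBot ℕ∞) := by
    rw [hz.closure_eq]
    exact_mod_cast topologicalKrullDim_singleton z
  have := (Groth.Agent.Lib.Helper17.PnCodim.ringKrullDim_stalk_of_closure k N z 0 h0).2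
  simpa using this

instance jacobsonSpace_projSpace : JacobsonSpace ↥(CohB1.ProjSpace N k) :=
  LocallyOfFiniteType.jacobsonSpace (CohB1.ProjSpace.toSpec N k)

/-- the local rings of `P^N_k` at maximal ideals of affine opens are regular of dimension `N` -/
theorem regular_localization_of_isMaximal {W : (CohB1.ProjSpace N k).Opens} (hW : IsAffineOpen W)
    (p : Ideal Γ(CohB1.ProjSpace N k, W)) [hp : p.IsMaximal] :
    IsRegularLocalRing (Localization.AtPrime p) ∧ ringKrullDim (Localization.AtPrime p) = N := by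
  obtain ⟨z, hzW, hz⟩ := exists_point_primeIdealOf_eq hW p
  subst hz
  have hcl : IsClosed ({z} : Set (CohB1.ProjSpace N k)) :=
    isClosed_singleton_of_isMaximal hW z hzW hp
  letI : Algebra Γ(CohB1.ProjSpace N k, W) ((CohB1.ProjSpace N k).presheaf.stalk z) :=
    TopCat.Presheaf.algebra_section_stalk (CohB1.ProjSpace N k).presheaf ⟨z, hzW⟩
  haveI hloc : IsLocalization.AtPrime ((CohB1.ProjSpace N k).presheaf.stalk z)
      (hW.primeIdealOf ⟨z, hzW⟩).asIdeal := hW.isLocalization_stalk ⟨z, hzW⟩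
  let e : Localization.AtPrime (hW.primeIdealOf ⟨z, hzW⟩).asIdeal ≃ₐ[Γ(CohB1.ProjSpace N k, W)]
      (CohB1.ProjSpace N k).presheaf.stalk z :=
    IsLocalization.algEquiv (hW.primeIdealOf ⟨z, hzW⟩).asIdeal.primeCompl _ _
  haveI := Groth.Agent.Lib.Helper17.PnReg.isRegularLocalRing_stalk k N z
  refine ⟨IsRegularLocalRing.of_ringEquiv e.symm.toRingEquiv, ?_⟩
  rw [ringKrullDim_eq_of_ringEquiv e.toRingEquiv]
  exact ringKrullDim_stalk_of_isClosed k N z hcl

end PnClosed

section Triv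

/-- sections of a trivialised module localise to the local ring -/
theorem nonempty_localized_equiv_of_isTriv {S : Scheme.{u}} (L : S.Modules) {W : S.Opens}
    (e : Γ(L, W)) (hT : IsTriv L W e) (p : Ideal Γ(S, W)) [p.IsPrime] :
    Nonempty (LocalizedModule p.primeCompl Γ(L, W) ≃ₗ[Localization.AtPrime p]
      Localization.AtPrime p) := by
  have hb := hT.bijective
  let f : Γ(S, W) ≃ₗ[Γ(S, W)] Γ(L, W) :=
    LinearEquiv.ofBijective (LinearMap.toSpanSingleton Γ(S, W) Γ(L, W) e) hb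
  exact ⟨IsLocalizedModule.mapEquiv p.primeCompl
    (LocalizedModule.mkLinearMap p.primeCompl Γ(L, W))
    (Algebra.linearMap Γ(S, W) (Localization.AtPrime p)) (Localization.AtPrime p) f.symm⟩

end Triv

section Depth

open Groth.Agent.Lib.Helper10.Hartogs Groth.Agent.Lib.Helper10.HartogsOne

variable {X P : Scheme.{u}} [IsLocallyNoetherian P] (ι : X ⟶ P) [IsClosedImmersion ι]

omit [IsLocallyNoetherian P] [IsClosedImmersion ι] in
/-- the kernel of `Γ(P, W) → Γ(X, ι⁻¹ W)` kills the sections of `ι_* O_X` -/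
theorem ker_le_annihilator (W : P.Opens) :
    RingHom.ker (ι.app W).hom ≤
      Module.annihilator Γ(P, W) Γ((Scheme.Modules.pushforward ι).obj (unitM X), W) := by
  intro a ha
  rw [Module.mem_annihilator]
  intro m
  rw [pushforward_smul]
  rw [RingHom.mem_ker] at ha
  change (ι.app W).hom a • (show Γ(unitM X, ι ⁻¹ᵁ W) from m) = 0
  rw [ha, zero_smul]

omit [IsLocallyNoetherian P] [IsClosedImmersion ι] in
theorem annihilator_le_ker (W : P.Opens) :
    Module.annihilator Γ(P, W) Γ((Scheme.Modules.pushforward ι).obj (unitM X), W) ≤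
      RingHom.ker (ι.app W).hom := by
  intro a ha
  rw [Module.mem_annihilator] at ha
  have h1 := ha (show Γ((Scheme.Modules.pushforward ι).obj (unitM X), W) from
    toUnit (1 : Γ(X, ι ⁻¹ᵁ W)))
  rw [pushforward_smul] at h1
  rw [RingHom.mem_ker]
  have h2 : (ι.app W).hom a • (toUnit (1 : Γ(X, ι ⁻¹ᵁ W))) = 0 := h1
  rw [← toUnit_eq_smul_one] at h2
  exact h2

/-- **depth of `ι_* O_X` at maximal ideals**, for `X` Cohen–Macaulay of dimension `n` at closed
points -/
theorem le_depth_localized_push [IsLocallyNoetherian X] [JacobsonSpace ↥X] (n : ℕ)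
    (hCM : ∀ x : X, IsClosed ({x} : Set ↥X) →
      LocCoh.IsCohenMacaulayLocalRing (X.presheaf.stalk x) ∧
        ringKrullDim (X.presheaf.stalk x) = n)
    {W : P.Opens} (hW : IsAffineOpen W) (p : Ideal Γ(P, W)) [hpmax : p.IsMaximal]
    (hp : Module.annihilator Γ(P, W) Γ((Scheme.Modules.pushforward ι).obj (unitM X), W) ≤ p) :
    (n : ℕ∞) ≤ LocCoh.depth (Localization.AtPrime p)
      (LocalizedModule p.primeCompl Γ((Scheme.Modules.pushforward ι).obj (unitM X), W)) := by
  have hV : IsAffineOpen (ι ⁻¹ᵁ W) := hW.preimage ι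
  haveI : IsNoetherianRing Γ(P, W) := IsLocallyNoetherian.component_noetherian ⟨W, hW⟩
  letI : Algebra Γ(P, W) Γ(X, ι ⁻¹ᵁ W) := (ι.app W).hom.toAlgebra
  have hsurj : Function.Surjective (algebraMap Γ(P, W) Γ(X, ι ⁻¹ᵁ W)) := ι.app_surjective W hW
  letI instA : Module Γ(P, W) Γ(unitM X, ι ⁻¹ᵁ W) :=
    (inferInstance : Module Γ(P, W) Γ((Scheme.Modules.pushforward ι).obj (unitM X), W))
  haveI : IsScalarTower Γ(P, W) Γ(X, ι ⁻¹ᵁ W) Γ(unitM X, ι ⁻¹ᵁ W) := ⟨fun a b m => by
    change ((ι.app W).hom a * b) • m = (ι.app W).hom a • (b • m)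
    rw [mul_smul]⟩
  haveI : Module.Finite Γ(X, ι ⁻¹ᵁ W) Γ(unitM X, ι ⁻¹ᵁ W) :=
    Module.Finite.equiv (unitEquiv (ι ⁻¹ᵁ W))
  haveI : Module.Finite Γ(P, W) Γ(X, ι ⁻¹ᵁ W) :=
    Module.Finite.of_surjective (Algebra.linearMap Γ(P, W) Γ(X, ι ⁻¹ᵁ W)) hsurj
  haveI : Module.Finite Γ(P, W) Γ(unitM X, ι ⁻¹ᵁ W) :=
    Module.Finite.trans Γ(X, ι ⁻¹ᵁ W) Γ(unitM X, ι ⁻¹ᵁ W)
  -- the maximal ideal of `Γ(X, ι⁻¹ W)` over `p`
  have hker : RingHom.ker (algebraMap Γ(P, W) Γ(X, ι ⁻¹ᵁ W)) ≤ p :=
    (ker_le_annihilator ι W).trans hp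
  obtain ⟨Q, hQmax, hQp⟩ : ∃ Q : Ideal Γ(X, ι ⁻¹ᵁ W), Q.IsMaximal ∧
      Q.comap (algebraMap Γ(P, W) Γ(X, ι ⁻¹ᵁ W)) = p := by
    refine ⟨p.map (algebraMap Γ(P, W) Γ(X, ι ⁻¹ᵁ W)),
      Ideal.IsMaximal.map_of_surjective_of_ker_le hsurj hker, ?_⟩
    rw [Ideal.comap_map_of_surjective _ hsurj]
    exact sup_eq_left.mpr hker
  subst hQp
  haveI := hQmax
  have h1 := Groth.Agent.Lib.Helper16.Depth.depth_localization_comap_of_surjective hsurj
    Γ(unitM X, ι ⁻¹ᵁ W) Q
  refine le_of_le_of_eq ?_ h1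
  obtain ⟨y, hyV, hy⟩ := exists_point_primeIdealOf_eq hV Q
  subst hy
  rw [← depth_stalk_eq_depth_localized_unit hV y hyV]
  have hcl : IsClosed ({y} : Set ↥X) := isClosed_singleton_of_isMaximal hV y hyV hQmax
  obtain ⟨hcm, hdim⟩ := hCM y hcl
  have h2 := hcm.supportDim_eq_depth
  rw [Module.supportDim_self_eq_ringKrullDim, hdim] at h2
  have h3 : (n : ℕ∞) = LocCoh.depth (X.presheaf.stalk y) (X.presheaf.stalk y) := by
    exact_mod_cast h2
  exact h3.le

end Depth

section Main

open Groth.Agent.Lib.Helper10.Hartogs Groth.Agent.Lib.Helper17.ExtAff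

variable (k : Type u) [Field k] (N : ℕ) {X : Scheme.{u}} (ι : X ⟶ CohB1.ProjSpace N k)
  [IsClosedImmersion ι]

/-- **(i) ⇒ (ii) local form**: for `X ⊆ P^N_k` closed, Cohen–Macaulay of dimension `n` at its closed
points, and `F` invertible on `P^N_k`, the Ext sheaves `ℰxt^c(ι_* O_X, F)` vanish for
`c > N - n`. -/
theorem isZero_extSh_of_CM (n : ℕ)
    (hCM : ∀ x : X, IsClosed ({x} : Set ↥X) →
      LocCoh.IsCohenMacaulayLocalRing (X.presheaf.stalk x) ∧
        ringKrullDim (X.presheaf.stalk x) = n)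
    (F : (CohB1.ProjSpace N k).Modules) (hF : PicF.IsInvertible F) (hFc : Coh.IsCoh F)
    [ModSite.HasSheafHom (O := (CohB1.ProjSpace N k).sheaf)
      ((Scheme.Modules.pushforward ι).obj (Coh.structureModule X))]
    [HasInjectiveResolutions (ModSite.Mod (CohB1.ProjSpace N k).sheaf)] (c : ℕ)
    (hc : N < c + n) :
    IsZero ((ModSite.extSh (O := (CohB1.ProjSpace N k).sheaf)
      ((Scheme.Modules.pushforward ι).obj (Coh.structureModule X)) c).obj F) := by
  haveI : IsLocallyNoetherian (CohB1.ProjSpace N k) :=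
    Groth.Agent.Lib.Lead.Pn.isLocallyNoetherian_projSpace N k
  haveI : IsLocallyNoetherian X := LocallyOfFiniteType.isLocallyNoetherian ι
  haveI : JacobsonSpace ↥X := JacobsonSpace.of_isClosedEmbedding ι.isClosedEmbedding
  have hG : Coh.IsCoh ((Scheme.Modules.pushforward ι).obj (Coh.structureModule X)) :=
    Groth.Agent.Lib.Lead.Koszul.isCoh_push N k ι _ (Groth.Agent.Lib.Helper9.RefStalk.isCoh_unit X)
  haveI := hG.1
  haveI := hG.2
  haveI := hFc.1
  haveI := hFc.2
  apply Groth.Agent.Lib.Helper28.DCohRes.isZero_of_locally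
  intro x
  obtain ⟨W, e, hW, hxW, -, hT⟩ := exists_affine_isTriv hF (W := ⊤) x trivial
  haveI : IsNoetherianRing Γ(CohB1.ProjSpace N k, W) :=
    IsLocallyNoetherian.component_noetherian ⟨W, hW⟩
  haveI : Module.Finite Γ(CohB1.ProjSpace N k, W)
      Γ((Scheme.Modules.pushforward ι).obj (Coh.structureModule X), W) :=
    module_finite_of_isFiniteType _ hW
  refine ⟨Spec Γ(CohB1.ProjSpace N k, W), hW.fromSpec, inferInstance, ?_, ?_⟩
  · rw [hW.range_fromSpec]
    exact hxW
  · obtain ⟨e'⟩ := extSh_restrict_affine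
      ((Scheme.Modules.pushforward ι).obj (Coh.structureModule X)) F hG hW c
    have hsub : Subsingleton (Abelian.Ext
        (ModuleCat.of Γ(CohB1.ProjSpace N k, W)
          Γ((Scheme.Modules.pushforward ι).obj (Coh.structureModule X), W))
        (ModuleCat.of Γ(CohB1.ProjSpace N k, W) Γ(F, W)) c) := by
      apply Groth.Agent.Lib.Helper16.ExtRegDepth.ext_subsingleton_of_regular_of_depth
        Γ(CohB1.ProjSpace N k, W)
        Γ((Scheme.Modules.pushforward ι).obj (Coh.structureModule X), W) Γ(F, W) N n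
      · intro p _
        exact nonempty_localized_equiv_of_isTriv F e hT p
      · intro p _ _
        exact regular_localization_of_isMaximal k N hW p
      · intro p _ hp
        exact le_depth_localized_push ι n hCM hW p hp
      · exact hc
    have hz : IsZero (ModuleCat.of Γ(CohB1.ProjSpace N k, W) (Abelian.Ext
        (ModuleCat.of Γ(CohB1.ProjSpace N k, W)
          Γ((Scheme.Modules.pushforward ι).obj (Coh.structureModule X), W))
        (ModuleCat.of Γ(CohB1.ProjSpace N k, W) Γ(F, W)) c)) :=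
      ModuleCat.isZero_of_subsingleton _
    have hz' := Functor.map_isZero (tilde.functor Γ(CohB1.ProjSpace N k, W)) hz
    exact hz'.of_iso e'

end Main

end Groth.Agent.Lib.Lead.SD.CMVanish
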