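import Groth.Agent.Lib.Lead.SD.CMVanish
import Groth.Agent.Lib.Helper5.DepthFlat

/-!
# Vanishing of `ℰxt^c(ι_* F, L)` from depth of `F` at closed points, for `ι : X → P^N_k` closed
-/

set_option autoImplicit false

universe u

open CategoryTheory CategoryTheory.Limits AlgebraicGeometry TopologicalSpace Opposite

namespace Groth.Agent.Lib.Lead.SD.CMVanish

open Groth.Agent.Lib.Helper29.QCoh

section Depth

open Groth.Agent.Lib.Helper10.Hartogs Groth.Agent.Lib.Helper10.HartogsOne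

variable {X P : Scheme.{u}} [IsLocallyNoetherian P] (ι : X ⟶ P) [IsClosedImmersion ι]

omit [IsLocallyNoetherian P] [IsClosedImmersion ι] in
theorem ker_le_annihilator' (F : X.Modules) (W : P.Opens) :
    RingHom.ker (ι.app W).hom ≤
      Module.annihilator Γ(P, W) Γ((Scheme.Modules.pushforward ι).obj F, W) := by
  intro a ha
  rw [Module.mem_annihilator]
  intro m
  rw [pushforward_smul]
  rw [RingHom.mem_ker] at ha
  change (ι.app W).hom a • (show Γ(F, ι ⁻¹ᵁ W) from m) = 0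
  rw [ha, zero_smul]

/-- **depth of `ι_* F` at maximal ideals** from the depth of `F` at closed points -/
theorem le_depth_localized_push_of_depth [IsLocallyNoetherian X] [JacobsonSpace ↥X]
    (F : X.Modules) [F.IsQuasicoherent] [F.IsFiniteType] (n : ℕ)
    (hdepth : ∀ x : X, IsClosed ({x} : Set ↥X) →
      (n : ℕ∞) ≤ LocCoh.depth (X.presheaf.stalk x) (F.presheaf.stalk x))
    {W : P.Opens} (hW : IsAffineOpen W) (p : Ideal Γ(P, W)) [hpmax : p.IsMaximal]
    (hp : Module.annihilator Γ(P, W) Γ((Scheme.Modules.pushforward ι).obj F, W) ≤ p) :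
    (n : ℕ∞) ≤ LocCoh.depth (Localization.AtPrime p)
      (LocalizedModule p.primeCompl Γ((Scheme.Modules.pushforward ι).obj F, W)) := by
  have hV : IsAffineOpen (ι ⁻¹ᵁ W) := hW.preimage ι
  haveI : IsNoetherianRing Γ(P, W) := IsLocallyNoetherian.component_noetherian ⟨W, hW⟩
  letI : Algebra Γ(P, W) Γ(X, ι ⁻¹ᵁ W) := (ι.app W).hom.toAlgebra
  have hsurj : Function.Surjective (algebraMap Γ(P, W) Γ(X, ι ⁻¹ᵁ W)) := ι.app_surjective W hW
  letI instA : Module Γ(P, W) Γ(F, ι ⁻¹ᵁ W) :=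
    (inferInstance : Module Γ(P, W) Γ((Scheme.Modules.pushforward ι).obj F, W))
  haveI : IsScalarTower Γ(P, W) Γ(X, ι ⁻¹ᵁ W) Γ(F, ι ⁻¹ᵁ W) := ⟨fun a b m => by
    change ((ι.app W).hom a * b) • m = (ι.app W).hom a • (b • m)
    rw [mul_smul]⟩
  haveI : Module.Finite Γ(X, ι ⁻¹ᵁ W) Γ(F, ι ⁻¹ᵁ W) := module_finite_of_isFiniteType F hV
  haveI : Module.Finite Γ(P, W) Γ(X, ι ⁻¹ᵁ W) :=
    Module.Finite.of_surjective (Algebra.linearMap Γ(P, W) Γ(X, ι ⁻¹ᵁ W)) hsurj
  haveI : Module.Finite Γ(P, W) Γ(F, ι ⁻¹ᵁ W) :=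
    Module.Finite.trans Γ(X, ι ⁻¹ᵁ W) Γ(F, ι ⁻¹ᵁ W)
  have hker : RingHom.ker (algebraMap Γ(P, W) Γ(X, ι ⁻¹ᵁ W)) ≤ p :=
    (ker_le_annihilator' ι F W).trans hp
  obtain ⟨Q, hQmax, hQp⟩ : ∃ Q : Ideal Γ(X, ι ⁻¹ᵁ W), Q.IsMaximal ∧
      Q.comap (algebraMap Γ(P, W) Γ(X, ι ⁻¹ᵁ W)) = p := by
    refine ⟨p.map (algebraMap Γ(P, W) Γ(X, ι ⁻¹ᵁ W)),
      Ideal.IsMaximal.map_of_surjective_of_ker_le hsurj hker, ?_⟩
    rw [Ideal.comap_map_of_surjective _ hsurj]
    exact sup_eq_left.mpr hker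
  subst hQp
  haveI := hQmax
  have h1 := Groth.Agent.Lib.Helper16.Depth.depth_localization_comap_of_surjective hsurj
    Γ(F, ι ⁻¹ᵁ W) Q
  refine le_of_le_of_eq ?_ h1
  obtain ⟨y, hyV, hy⟩ := exists_point_primeIdealOf_eq hV Q
  subst hy
  rw [← depth_stalk_eq_depth_localized F hV y hyV]
  exact hdepth y (isClosed_singleton_of_isMaximal hV y hyV hQmax)

end Depth

section Main

open Groth.Agent.Lib.Helper10.Hartogs Groth.Agent.Lib.Helper17.ExtAff

variable (k : Type u) [Field k] (N : ℕ) {X : Scheme.{u}} (ι : X ⟶ CohB1.ProjSpace N k)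
  [IsClosedImmersion ι]

/-- for `F` coherent on `X ⊆ P^N_k` closed, of depth `≥ n` at the closed points of `X`, and `L`
invertible on `P^N_k`, the Ext sheaves `ℰxt^c(ι_* F, L)` vanish for `c > N - n`. -/
theorem isZero_extSh_push_of_depth (F : X.Modules) (hFc : Coh.IsCoh F) (n : ℕ)
    (hdepth : ∀ x : X, IsClosed ({x} : Set ↥X) →
      (n : ℕ∞) ≤ LocCoh.depth (X.presheaf.stalk x) (F.presheaf.stalk x))
    (L : (CohB1.ProjSpace N k).Modules) (hL : PicF.IsInvertible L) (hLc : Coh.IsCoh L)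
    [ModSite.HasSheafHom (O := (CohB1.ProjSpace N k).sheaf)
      ((Scheme.Modules.pushforward ι).obj F)]
    [HasInjectiveResolutions (ModSite.Mod (CohB1.ProjSpace N k).sheaf)] (c : ℕ)
    (hc : N < c + n) :
    IsZero ((ModSite.extSh (O := (CohB1.ProjSpace N k).sheaf)
      ((Scheme.Modules.pushforward ι).obj F) c).obj L) := by
  haveI : IsLocallyNoetherian (CohB1.ProjSpace N k) :=
    Groth.Agent.Lib.Lead.Pn.isLocallyNoetherian_projSpace N k
  haveI : IsLocallyNoetherian X := LocallyOfFiniteType.isLocallyNoetherian ι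
  haveI : JacobsonSpace ↥X := JacobsonSpace.of_isClosedEmbedding ι.isClosedEmbedding
  have hG : Coh.IsCoh ((Scheme.Modules.pushforward ι).obj F) :=
    Groth.Agent.Lib.Lead.Koszul.isCoh_push N k ι _ hFc
  haveI := hG.1
  haveI := hG.2
  haveI := hLc.1
  haveI := hLc.2
  haveI := hFc.1
  haveI := hFc.2
  apply Groth.Agent.Lib.Helper28.DCohRes.isZero_of_locally
  intro x
  obtain ⟨W, e, hW, hxW, -, hT⟩ := exists_affine_isTriv hL (W := ⊤) x trivial
  haveI : IsNoetherianRing Γ(CohB1.ProjSpace N k, W) :=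
    IsLocallyNoetherian.component_noetherian ⟨W, hW⟩
  haveI : Module.Finite Γ(CohB1.ProjSpace N k, W)
      Γ((Scheme.Modules.pushforward ι).obj F, W) :=
    module_finite_of_isFiniteType _ hW
  refine ⟨Spec Γ(CohB1.ProjSpace N k, W), hW.fromSpec, inferInstance, ?_, ?_⟩
  · rw [hW.range_fromSpec]
    exact hxW
  · obtain ⟨e'⟩ := extSh_restrict_affine
      ((Scheme.Modules.pushforward ι).obj F) L hG hW c
    have hsub : Subsingleton (Abelian.Ext
        (ModuleCat.of Γ(CohB1.ProjSpace N k, W)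
          Γ((Scheme.Modules.pushforward ι).obj F, W))
        (ModuleCat.of Γ(CohB1.ProjSpace N k, W) Γ(L, W)) c) := by
      apply Groth.Agent.Lib.Helper16.ExtRegDepth.ext_subsingleton_of_regular_of_depth
        Γ(CohB1.ProjSpace N k, W)
        Γ((Scheme.Modules.pushforward ι).obj F, W) Γ(L, W) N n
      · intro p _
        exact nonempty_localized_equiv_of_isTriv L e hT p
      · intro p _ _
        exact regular_localization_of_isMaximal k N hW p
      · intro p _ hp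
        exact le_depth_localized_push_of_depth ι F n hdepth hW p hp
      · exact hc
    have hz : IsZero (ModuleCat.of Γ(CohB1.ProjSpace N k, W) (Abelian.Ext
        (ModuleCat.of Γ(CohB1.ProjSpace N k, W)
          Γ((Scheme.Modules.pushforward ι).obj F, W))
        (ModuleCat.of Γ(CohB1.ProjSpace N k, W) Γ(L, W)) c)) :=
      ModuleCat.isZero_of_subsingleton _
    have hz' := Functor.map_isZero (tilde.functor Γ(CohB1.ProjSpace N k, W)) hz
    exact hz'.of_iso e'

end Main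

end Groth.Agent.Lib.Lead.SD.CMVanish
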