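import Groth.Agent.Lib.Lead.SD.SerreDual2

/-!
# Duality from a dualizing pair and a supply of test epimorphisms (abstract form of Hartshorne III.7.6, (ii) ⇒ (iii))

`X` is a locally Noetherian scheme over a field `k`, `ω` an `O_X`-module with a trace
`t : H^n(X, ω) → k` having the representing property in degree zero on coherent modules (`Perf`).
`HasTest n ω lo` says that every coherent `F` is, for every `m ≥ 1`, a quotient of a coherent `E`
with `Ext^m(E, ω) = 0` and `H^j(X, E) = 0` for `lo ≤ j < n`.  Then the Yoneda maps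
`θ^i : Ext^i(F, ω) → H^{n-i}(X, F)^*` are bijective for `i ≤ n - lo`, and if `lo = 0` the groups
`Ext^i(F, ω)` vanish for `i > n`.
-/

set_option autoImplicit false

universe u

open CategoryTheory CategoryTheory.Limits AlgebraicGeometry Opposite Abelian TopologicalSpace

namespace Groth.Agent.Lib.Lead.SD.DualGen

open Groth.Agent.Lib.Lead.LinLES Groth.Agent.Lib.Lead.SD

variable (k : Type u) [Field k] {X : Scheme.{u}} [X.Over (Spec (CommRingCat.of k))]
  [HasExt.{u} X.Modules] (n : ℕ) (ω : X.Modules)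

/-- A supply of test epimorphisms. -/
def HasTest (lo : ℕ) : Prop :=
  ∀ F : X.Modules, Coh.IsCoh F → ∀ m : ℕ, 1 ≤ m → ∃ (E : X.Modules) (φ : E ⟶ F), Epi φ ∧
    Coh.IsCoh E ∧ Subsingleton (Ext E ω m) ∧ ∀ j : ℕ, lo ≤ j → j < n → Subsingleton (Coh.HH X E j)

variable {n ω} (t : Coh.HH X ω n →ₗ[k] k)

/-- The duality statement in `Ext`-degree `i`. -/
def DualAtG (i : ℕ) : Prop :=
  ∀ F : X.Modules, Coh.IsCoh F → ∀ (j : ℕ) (h : j + i = n),
    Function.Bijective (theta k t h (F := F))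

variable {k}

/-- Degree zero: the dualizing property. -/
theorem dualAtG_zero (hP : ∀ F : X.Modules, Coh.IsCoh F → Perf k n ω t F) :
    DualAtG k t 0 := by
  intro F hF j h
  obtain rfl : n = j := by omega
  constructor
  · intro α β hαβ
    obtain ⟨φ, rfl⟩ := (Ext.mk₀_bijective F ω).2 α
    obtain ⟨φ', rfl⟩ := (Ext.mk₀_bijective F ω).2 β
    obtain ⟨φ₀, -, hu⟩ := hP F hF (theta k t h (Ext.mk₀ φ))
    have h1 : φ = φ₀ := hu φ fun x => theta_mk₀ t φ x
    have h2 : φ' = φ₀ := hu φ' fun x => by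
      rw [hαβ]
      exact theta_mk₀ t φ' x
    rw [h1, h2]
  · intro ψ
    obtain ⟨φ, hφ, -⟩ := hP F hF ψ
    refine ⟨Ext.mk₀ φ, LinearMap.ext fun x => ?_⟩
    rw [hφ x]
    exact theta_mk₀ t φ x

/-- The short exact sequence attached to an epimorphism. -/
noncomputable def kerSC {E F : X.Modules} (φ : E ⟶ F) : ShortComplex X.Modules :=
  ShortComplex.mk (kernel.ι φ) φ (kernel.condition φ)

omit [HasExt.{u} X.Modules] in
lemma kerSC_shortExact {E F : X.Modules} (φ : E ⟶ F) [Epi φ] : (kerSC φ).ShortExact :=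
  { exact := ShortComplex.exact_kernel φ
    mono_f := inferInstanceAs (Mono (kernel.ι φ))
    epi_g := inferInstanceAs (Epi φ) }

variable [IsLocallyNoetherian X]

/-- The inductive step. -/
theorem dualAtG_succ (lo : ℕ) (hT : HasTest n ω lo) (i : ℕ) (hlo : lo + (1 + i) ≤ n)
    (hi : DualAtG k t i) : DualAtG k t (1 + i) := by
  intro F hF j h
  obtain ⟨E, φ, hφ, hEcoh, hExtE, hHE'⟩ := hT F hF (1 + i) (by omega)
  have hKcoh : Coh.IsCoh (kernel φ) := (Groth.Agent.S9514.result _ hEcoh hF φ).1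
  let S := kerSC φ
  have hS : S.ShortExact := kerSC_shortExact φ
  have hHE : Subsingleton (Coh.HH X S.X₂ j) := hHE' j (by omega) (by omega)
  have h1 : j + 1 + i = n := by omega
  have bijE := hi S.X₂ hEcoh (j + 1) h1
  have bijK := hi S.X₁ hKcoh (j + 1) h1
  have hδinj : Function.Injective (δlin k S hS j) := by
    rw [injective_iff_map_eq_zero]
    intro x hx
    obtain ⟨y, rfl⟩ := (exact₃ k S hS j x).1 hx
    rw [Subsingleton.elim y 0, map_zero]
  constructor
  · rw [injective_iff_map_eq_zero]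
    intro α hα
    haveI : Subsingleton (Ext S.X₂ ω (1 + i)) := hExtE
    obtain ⟨β, rfl⟩ := Ext.contravariant_sequence_exact₃ hS ω α (Subsingleton.elim _ _)
      (rfl : 1 + i = 1 + i)
    have h2 : ∀ x, Canon.HHlin k S.f (j + 1) x = 0 → theta k t h1 β x = 0 := by
      intro x hx
      obtain ⟨y, rfl⟩ := (exact₁ k S hS j x).1 hx
      exact (theta_extClass_comp t S hS h1 h β y).symm.trans (LinearMap.congr_fun hα y)
    obtain ⟨χ, hχ⟩ := exists_factor_of_ker_le (Canon.HHlin k S.f (j + 1)) (theta k t h1 β) h2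
    obtain ⟨γ, rfl⟩ := bijE.2 χ
    have h3 : (Ext.mk₀ S.f).comp γ (zero_add i) = β := by
      apply bijK.1
      apply LinearMap.ext
      intro x
      rw [theta_mk₀_comp, ← hχ]
      rfl
    rw [← h3, ← Ext.comp_assoc_of_second_deg_zero, hS.extClass_comp, Ext.zero_comp]
    try rfl
  · intro ψ
    obtain ⟨ψ', hψ'⟩ := exists_extend_of_injective (δlin k S hS j) hδinj ψ
    obtain ⟨β, hβ⟩ := bijK.2 ψ'
    refine ⟨hS.extClass.comp β rfl, LinearMap.ext fun x => ?_⟩
    exact (theta_extClass_comp t S hS h1 h β x).trans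
      ((LinearMap.congr_fun hβ _).trans (LinearMap.congr_fun hψ' x))

theorem dualAtG_le (lo : ℕ) (hT : HasTest n ω lo)
    (hP : ∀ F : X.Modules, Coh.IsCoh F → Perf k n ω t F) (i : ℕ) (hi : lo + i ≤ n) :
    DualAtG k t i := by
  induction i with
  | zero => exact dualAtG_zero t hP
  | succ i ih =>
    rw [Nat.add_comm i 1]
    exact dualAtG_succ t lo hT i (by omega) (ih (by omega))

omit [HasExt.{u} X.Modules] [IsLocallyNoetherian X] in
lemma injective_HHlin_zero_f (S : ShortComplex X.Modules)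
    (hS : S.ShortExact) : Function.Injective (Canon.HHlin k S.f 0) := by
  haveI : Mono (abMap S.f) := (abS_shortExact S hS).mono_f
  intro x y hxy
  exact Abelian.Ext.postcomp_mk₀_injective_of_mono _ (abMap S.f) hxy

/-- `Ext^{n+1}(F, ω) = 0`. -/
theorem subsingleton_ext_succ_n (hT : HasTest n ω 0) (hn : DualAtG k t n)
    (F : X.Modules) (hF : Coh.IsCoh F) : Subsingleton (Ext F ω (1 + n)) := by
  obtain ⟨E, φ, hφ, hEcoh, hExtE, -⟩ := hT F hF (1 + n) (by omega)
  have hKcoh : Coh.IsCoh (kernel φ) := (Groth.Agent.S9514.result _ hEcoh hF φ).1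
  let S := kerSC φ
  have hS : S.ShortExact := kerSC_shortExact φ
  have h0 : 0 + n = n := zero_add n
  have bijE := hn S.X₂ hEcoh 0 h0
  have bijK := hn S.X₁ hKcoh 0 h0
  refine subsingleton_of_forall_eq 0 fun α => ?_
  haveI : Subsingleton (Ext S.X₂ ω (1 + n)) := hExtE
  obtain ⟨β, rfl⟩ := Ext.contravariant_sequence_exact₃ hS ω α (Subsingleton.elim _ _)
    (rfl : 1 + n = 1 + n)
  obtain ⟨χ, hχ⟩ := exists_extend_of_injective (Canon.HHlin k S.f 0)
    (injective_HHlin_zero_f S hS) (theta k t h0 β)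
  obtain ⟨γ, rfl⟩ := bijE.2 χ
  have h3 : (Ext.mk₀ S.f).comp γ (zero_add n) = β := by
    apply bijK.1
    apply LinearMap.ext
    intro x
    rw [theta_mk₀_comp, ← hχ]
    rfl
  rw [← h3, ← Ext.comp_assoc_of_second_deg_zero, hS.extClass_comp, Ext.zero_comp]
  try rfl

omit t in
/-- Vanishing of `Ext^m(-, ω)` on coherent modules propagates upwards. -/
theorem subsingleton_ext_step (hT : HasTest n ω 0) (m : ℕ)
    (hm : ∀ F : X.Modules, Coh.IsCoh F → Subsingleton (Ext F ω m))
    (F : X.Modules) (hF : Coh.IsCoh F) : Subsingleton (Ext F ω (1 + m)) := by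
  obtain ⟨E, φ, hφ, hEcoh, hExtE, -⟩ := hT F hF (1 + m) (by omega)
  have hKcoh : Coh.IsCoh (kernel φ) := (Groth.Agent.S9514.result _ hEcoh hF φ).1
  let S := kerSC φ
  have hS : S.ShortExact := kerSC_shortExact φ
  refine subsingleton_of_forall_eq 0 fun α => ?_
  haveI : Subsingleton (Ext S.X₂ ω (1 + m)) := hExtE
  obtain ⟨β, rfl⟩ := Ext.contravariant_sequence_exact₃ hS ω α (Subsingleton.elim _ _)
    (rfl : 1 + m = 1 + m)
  haveI := hm S.X₁ hKcoh
  rw [Subsingleton.elim β 0, Ext.comp_zero]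
  try rfl

theorem subsingleton_ext_gt (hT : HasTest n ω 0) (hn : DualAtG k t n) (i : ℕ) (hi : n < i)
    (F : X.Modules) (hF : Coh.IsCoh F) : Subsingleton (Ext F ω i) := by
  obtain ⟨d, rfl⟩ : ∃ d, i = d + (1 + n) := ⟨i - (1 + n), by omega⟩
  clear hi
  induction d generalizing F with
  | zero =>
    rw [Nat.zero_add]
    exact subsingleton_ext_succ_n t hT hn F hF
  | succ d ih =>
    rw [show d + 1 + (1 + n) = 1 + (d + (1 + n)) by omega]
    exact subsingleton_ext_step hT _ (fun G hG => ih G hG) F hF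

/-- **Duality in a range** from a dualizing pair and test epimorphisms. -/
theorem duality_range (lo : ℕ) (hT : HasTest n ω lo)
    (hP : ∀ F : X.Modules, Coh.IsCoh F → Perf k n ω t F)
    (F : X.Modules) (hF : Coh.IsCoh F) (i : ℕ) (hi : lo + i ≤ n) :
    Nonempty (Ext F ω i ≃ₗ[k] Module.Dual k (Coh.HH X F (n - i))) :=
  ⟨LinearEquiv.ofBijective (theta k t (Nat.sub_add_cancel (by omega : i ≤ n)))
    (dualAtG_le t lo hT hP i hi F hF (n - i) (Nat.sub_add_cancel (by omega : i ≤ n)))⟩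

/-- **Full duality** from a dualizing pair and test epimorphisms. -/
theorem duality_full (hT : HasTest n ω 0)
    (hP : ∀ F : X.Modules, Coh.IsCoh F → Perf k n ω t F)
    (F : X.Modules) (hF : Coh.IsCoh F) :
    (∀ i : ℕ, i ≤ n → Nonempty (Ext F ω i ≃ₗ[k] Module.Dual k (Coh.HH X F (n - i)))) ∧
    ∀ i : ℕ, n < i → Subsingleton (Ext F ω i) :=
  ⟨fun i hi => duality_range t 0 hT hP F hF i (by omega),
    fun i hi => subsingleton_ext_gt t hT (dualAtG_le t 0 hT hP n (by omega)) i hi F hF⟩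

end Groth.Agent.Lib.Lead.SD.DualGen
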