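import Groth.Agent.Lib.Lead.SD.Perfect
import Groth.Agent.Lib.Lead.Pn.Finite

/-!
# Dualizing property: from twisting sheaves to all coherent modules

`Perf A n ω t F` says that every linear form on `H^n(F)` is `t ∘ H^n(φ)` for a unique `φ : F ⟶ ω`.
It passes to finite biproducts (`perf_biproduct`) and to cokernels of suitable presentations
(`perf_of_presentation`).
-/

set_option autoImplicit false

universe u

open CategoryTheory CategoryTheory.Limits AlgebraicGeometry Opposite TopologicalSpace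

namespace Groth.Agent.Lib.Lead.SD

open Groth.Agent.Lib.Lead.LinLES

attribute [local instance] CategoryTheory.Abelian.hasFiniteBiproducts

section abstract

variable (A : Type u) [CommRing A] {X : Scheme.{u}} [X.Over (Spec (CommRingCat.of A))]

/-- The representing property of `(ω, t)` at the module `F`. -/
def Perf (n : ℕ) (ω : X.Modules) (t : Coh.HH X ω n →ₗ[A] A) (F : X.Modules) : Prop :=
  ∀ ψ : Coh.HH X F n →ₗ[A] A, ∃! φ : F ⟶ ω, ∀ x : Coh.HH X F n, ψ x = t (Canon.HHlin A φ n x)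

variable {A} {n : ℕ} {ω : X.Modules} {t : Coh.HH X ω n →ₗ[A] A}

lemma HHlin_zero_apply {M N : X.Modules} (q : ℕ) (x : Coh.HH X M q) :
    Canon.HHlin A (0 : M ⟶ N) q x = 0 := by
  have h := HHlin_sum A (∅ : Finset (Fin 0)) (fun _ => (0 : M ⟶ N)) q x
  rw [Finset.sum_empty, Finset.sum_empty] at h
  exact h

theorem perf_biproduct {ι : Type} [Fintype ι] (L : ι → X.Modules)
    (h : ∀ j, Perf A n ω t (L j)) : Perf A n ω t (⨁ L : X.Modules) := by
  classical
  intro ψ
  choose φ hφ hφu using fun j => h j (ψ ∘ₗ Canon.HHlin A (biproduct.ι L j) n)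
  refine ⟨biproduct.desc φ, ?_, ?_⟩
  · intro x
    conv_lhs => rw [HH_total A L n x]
    rw [map_sum]
    have h2 : Canon.HHlin A (biproduct.desc φ) n x =
        ∑ j, Canon.HHlin A (φ j) n (Canon.HHlin A (biproduct.π L j) n x) := by
      conv_lhs => rw [HH_total A L n x]
      rw [map_sum]
      refine Finset.sum_congr rfl fun j _ => ?_
      rw [← HHlin_comp, biproduct.ι_desc]
    rw [h2, map_sum]
    refine Finset.sum_congr rfl fun j _ => ?_
    exact hφ j _
  · intro φ' hφ'
    refine biproduct.hom_ext' _ _ fun j => ?_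
    rw [biproduct.ι_desc]
    refine hφu j _ fun y => ?_
    rw [HHlin_comp]
    exact hφ' _

theorem perf_of_presentation {E E' F : X.Modules} (p : E ⟶ F) [Epi p] (p' : E' ⟶ kernel p)
    [Epi p'] (hE : Perf A n ω t E) (hE' : Perf A n ω t E')
    (hK : Subsingleton (Coh.HH X (kernel p) (n + 1))) : Perf A n ω t F := by
  intro ψ
  obtain ⟨φ₀, hφ₀, hφ₀u⟩ := hE (ψ ∘ₗ Canon.HHlin A p n)
  have hker : kernel.ι p ≫ φ₀ = 0 := by
    rw [← cancel_epi p']
    rw [comp_zero]
    obtain ⟨φ₁, _, hφ₁u⟩ := hE' 0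
    have h1 : p' ≫ kernel.ι p ≫ φ₀ = φ₁ := by
      refine hφ₁u _ fun y => ?_
      rw [HHlin_comp, HHlin_comp, ← hφ₀, LinearMap.comp_apply, ← HHlin_comp,
        kernel.condition, HHlin_zero_apply, map_zero]
      rfl
    have h2 : (0 : E' ⟶ ω) = φ₁ := by
      refine hφ₁u _ fun y => ?_
      rw [HHlin_zero_apply, map_zero]
      rfl
    rw [h1, h2]
  let S : ShortComplex X.Modules := ShortComplex.mk (kernel.ι p) p (kernel.condition p)
  have hS : S.ShortExact :=
    { exact := ShortComplex.exact_kernel p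
      mono_f := inferInstanceAs (Mono (kernel.ι p))
      epi_g := inferInstanceAs (Epi p) }
  have hsurj : Function.Surjective (Canon.HHlin A p n) := by
    intro x
    have hex := exact₃ A S hS n
    have h0 : δlin A S hS n x = 0 := Subsingleton.elim _ _
    exact (hex x).mp h0
  refine ⟨Abelian.epiDesc p φ₀ hker, ?_, ?_⟩
  · intro x
    obtain ⟨y, rfl⟩ := hsurj x
    rw [← HHlin_comp, Abelian.comp_epiDesc]
    exact hφ₀ y
  · intro φ' hφ'
    rw [← cancel_epi p, Abelian.comp_epiDesc]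
    refine hφ₀u _ fun y => ?_
    rw [HHlin_comp]
    exact hφ' _

end abstract

section projSpace

open Groth.Agent.Lib.Lead.Pn

variable (R : Type u) [CommRing R] (m : ℕ)
  (t : Coh.HH (CohB1.ProjSpace (m + 1) R) (Twist.twistProjSpace (m + 1) R (-((m : ℤ) + 2)))
    (m + 1) ≃ₗ[R] R)

theorem perf_twist (d : ℤ) :
    Perf R (m + 1) (Twist.twistProjSpace (m + 1) R (-((m : ℤ) + 2))) t.toLinearMap
      (Twist.twistProjSpace (m + 1) R d) :=
  fun ψ => perfect_twist m d (-((m : ℤ) + 2)) rfl t ψ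

variable [IsNoetherianRing R]

/-- **`O(-r-1)` is dualizing on `P^r_R`, `r = m + 1`**: for every coherent `F`, every linear form on
`H^r(F)` is `t ∘ H^r(φ)` for a unique `φ : F ⟶ O(-r-1)`. -/
theorem perf_of_isCoh (F : (CohB1.ProjSpace (m + 1) R).Modules) (hF : Coh.IsCoh F) :
    Perf R (m + 1) (Twist.twistProjSpace (m + 1) R (-((m : ℤ) + 2))) t.toLinearMap F := by
  obtain ⟨r, d, φ, hφ⟩ := Groth.Agent.S0846.result (CohB1.polyGrading (m + 1) R) F hF
  let L : Fin r → (CohB1.ProjSpace (m + 1) R).Modules :=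
    fun j => Twist.twistProjSpace (m + 1) R (d j)
  let φ₀ : (∐ L : (CohB1.ProjSpace (m + 1) R).Modules) ⟶ F := φ
  haveI : Epi φ₀ := hφ
  let φ' : (⨁ L : (CohB1.ProjSpace (m + 1) R).Modules) ⟶ F := (biproduct.isoCoproduct L).hom ≫ φ₀
  haveI : Epi φ' := epi_comp _ _
  have hE : Coh.IsCoh (⨁ L : (CohB1.ProjSpace (m + 1) R).Modules) :=
    isCoh_biproduct L fun j => isCoh_twist (m + 1) R (d j)
  have hK : Coh.IsCoh (kernel φ') := (Groth.Agent.S9514.result _ hE hF φ').1
  obtain ⟨r', d', ψ, hψ⟩ := Groth.Agent.S0846.result (CohB1.polyGrading (m + 1) R) (kernel φ') hK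
  let L' : Fin r' → (CohB1.ProjSpace (m + 1) R).Modules :=
    fun j => Twist.twistProjSpace (m + 1) R (d' j)
  let ψ₀ : (∐ L' : (CohB1.ProjSpace (m + 1) R).Modules) ⟶ kernel φ' := ψ
  haveI : Epi ψ₀ := hψ
  let ψ' : (⨁ L' : (CohB1.ProjSpace (m + 1) R).Modules) ⟶ kernel φ' :=
    (biproduct.isoCoproduct L').hom ≫ ψ₀
  haveI : Epi ψ' := epi_comp _ _
  haveI : Coh.IsQCoh (kernel φ') := hK.1
  have hsub : Subsingleton (Coh.HH (CohB1.ProjSpace (m + 1) R) (kernel φ') (m + 1 + 1)) :=
    Groth.Agent.S0022.result (m + 1) R (kernel φ') (m + 1 + 1) (by omega)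
  exact perf_of_presentation φ' ψ' (perf_biproduct L fun j => perf_twist R m t (d j))
    (perf_biproduct L' fun j => perf_twist R m t (d' j)) hsub

end projSpace

end Groth.Agent.Lib.Lead.SD
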