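import Groth.Agent.Lib.Helper22.ExtCompare
import Mathlib.Algebra.Homology.DerivedCategory.Ext.Map

/-!
# A natural comparison of `Ext` groups across an exact functor is bijective

Let `Φ : 𝒜 ⥤ ℬ` be an exact functor of abelian categories, `P : 𝒜`, `P' : ℬ` and `ι : P' ⟶ Φ P`.
The natural map `cmp : Ext^p(P, M) → Ext^p(P', Φ M)`, `x ↦ ι^* Φ(x)`, is bijective for all `p` as soon
as it is in degree `0` and `Ext^{>0}(P', Φ I) = 0` for `I` injective (dimension shifting).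
-/

set_option autoImplicit false

universe w w' v v' u u'

open CategoryTheory CategoryTheory.Limits Opposite Abelian

namespace Groth.Agent.Lib.Lead.SD.ExtH

open Groth.Agent.Lib.Helper22.ExtCompare

variable {𝒜 : Type u} [Category.{v} 𝒜] [Abelian 𝒜] [HasExt.{w} 𝒜]
  {ℬ : Type u'} [Category.{v'} ℬ] [Abelian ℬ] [HasExt.{w'} ℬ]
  (Φ : 𝒜 ⥤ ℬ) [Φ.Additive] [PreservesFiniteLimits Φ] [PreservesFiniteColimits Φ]
  (P : 𝒜) {P' : ℬ} (ι : P' ⟶ Φ.obj P)

/-- The comparison map. -/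
noncomputable def cmp (M : 𝒜) (p : ℕ) (x : Ext P M p) : Ext P' (Φ.obj M) p :=
  (Ext.mk₀ ι).comp (x.mapExactFunctor Φ) (zero_add p)

lemma cmp_add (M : 𝒜) (p : ℕ) (x y : Ext P M p) :
    cmp Φ P ι M p (x + y) = cmp Φ P ι M p x + cmp Φ P ι M p y := by
  unfold cmp
  rw [Ext.mapExactFunctor_add, Ext.comp_add]

lemma cmp_comp_mk₀ {M N : 𝒜} (f : M ⟶ N) (p : ℕ) (x : Ext P M p) :
    cmp Φ P ι N p (x.comp (Ext.mk₀ f) (add_zero p)) =
      (cmp Φ P ι M p x).comp (Ext.mk₀ (Φ.map f)) (add_zero p) := by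
  unfold cmp
  rw [Ext.mapExactFunctor_comp, Ext.mapExactFunctor_mk₀, Ext.comp_assoc_of_third_deg_zero]

lemma cmp_comp_extClass {S : ShortComplex 𝒜} (hS : S.ShortExact) (p : ℕ) (x : Ext P S.X₃ p) :
    cmp Φ P ι S.X₁ (p + 1) (x.comp hS.extClass rfl) =
      (cmp Φ P ι S.X₃ p x).comp (hS.map_of_exact Φ).extClass rfl := by
  unfold cmp
  rw [Ext.mapExactFunctor_comp, Ext.mapExactFunctor_extClass]
  exact (Ext.comp_assoc _ _ _ (zero_add p) rfl (by omega)).symm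

lemma cmp_mk₀ (M : 𝒜) (f : P ⟶ M) :
    cmp Φ P ι M 0 (Ext.mk₀ f) = Ext.mk₀ (ι ≫ Φ.map f) := by
  unfold cmp
  rw [Ext.mapExactFunctor_mk₀, Ext.mk₀_comp_mk₀]

lemma cmp_zero_bijective (M : 𝒜)
    (h0 : Function.Bijective (fun f : P ⟶ M => ι ≫ Φ.map f)) :
    Function.Bijective (cmp Φ P ι M 0) := by
  constructor
  · intro x y hxy
    obtain ⟨f, rfl⟩ := (Ext.mk₀_bijective _ _).2 x
    obtain ⟨g, rfl⟩ := (Ext.mk₀_bijective _ _).2 y
    rw [cmp_mk₀, cmp_mk₀] at hxy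
    rw [h0.1 ((Ext.mk₀_bijective _ _).1 hxy)]
  · intro y
    obtain ⟨g, rfl⟩ := (Ext.mk₀_bijective _ _).2 y
    obtain ⟨f, hf⟩ := h0.2 g
    exact ⟨Ext.mk₀ f, by rw [cmp_mk₀]; exact congrArg Ext.mk₀ hf⟩

theorem cmp_bijective [EnoughInjectives 𝒜]
    (h0 : ∀ M : 𝒜, Function.Bijective (fun f : P ⟶ M => ι ≫ Φ.map f))
    (hv : ∀ (I : 𝒜) [Injective I] (n : ℕ) (x : Ext P' (Φ.obj I) (n + 1)), x = 0) (p : ℕ) :
    ∀ M : 𝒜, Function.Bijective (cmp Φ P ι M p) := by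
  induction p with
  | zero => exact fun M => cmp_zero_bijective Φ P ι M (h0 M)
  | succ p ih =>
    intro M
    let S := injSC M
    have hS : S.ShortExact := injSC_shortExact M
    have hS' := hS.map_of_exact Φ
    have v1 : ∀ x : Ext P S.X₂ (p + 1), x = 0 := fun x => Ext.eq_zero_of_injective x
    have v2 : ∀ x : Ext P' (Φ.obj S.X₂) (p + 1), x = 0 := fun x => hv S.X₂ p x
    constructor
    · intro x x' hxx'
      rw [← sub_eq_zero]
      have hadd : ∀ a b, cmp Φ P ι M (p + 1) (a - b) =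
          cmp Φ P ι M (p + 1) a - cmp Φ P ι M (p + 1) b := by
        intro a b
        have := cmp_add Φ P ι M (p + 1) (a - b) b
        rw [sub_add_cancel] at this
        rw [this, add_sub_cancel_right]
      have hz : cmp Φ P ι M (p + 1) (x - x') = 0 := by rw [hadd, hxx', sub_self]
      generalize x - x' = z at hz
      obtain ⟨y, rfl⟩ := Ext.covariant_sequence_exact₁ _ hS z (v1 _) rfl
      have hz2 : (cmp Φ P ι S.X₃ p y).comp hS'.extClass rfl = 0 :=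
        (cmp_comp_extClass Φ P ι hS p y).symm.trans hz
      obtain ⟨w', hw'⟩ := Ext.covariant_sequence_exact₃ _ hS' (cmp Φ P ι S.X₃ p y) rfl hz2
      obtain ⟨w, rfl⟩ := (ih S.X₂).2 w'
      have hy : w.comp (Ext.mk₀ S.g) (add_zero p) = y := by
        apply (ih S.X₃).1
        rw [cmp_comp_mk₀]
        exact hw'
      rw [← hy, Ext.comp_assoc_of_second_deg_zero, hS.comp_extClass, Ext.comp_zero]
    · intro x'
      obtain ⟨y', rfl⟩ := Ext.covariant_sequence_exact₁ _ hS' x' (v2 _) rfl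
      obtain ⟨y, rfl⟩ := (ih S.X₃).2 y'
      exact ⟨y.comp hS.extClass rfl, cmp_comp_extClass Φ P ι hS p y⟩

section natTrans

variable {𝒞 : Type u} [Category.{v} 𝒞] [Abelian 𝒞] [HasExt.{w} 𝒞]

lemma extFunctorObj_map_hom_apply {P : 𝒞} (p : ℕ) {B B' : 𝒞} (f : B ⟶ B') (α : Ext P B p) :
    ((Abelian.extFunctorObj P p).map f).hom α = α.comp (Ext.mk₀ f) (add_zero p) := rfl

/-- Naturality of a transformation `Ext^p(P, -) ⟶ Ext^p(Q, G -)`, elementwise. -/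
lemma natTrans_app_comp_mk₀ {P Q : 𝒞} (G : 𝒞 ⥤ 𝒞) (p : ℕ)
    (T : Abelian.extFunctorObj P p ⟶ G ⋙ Abelian.extFunctorObj Q p) {B B' : 𝒞} (f : B ⟶ B')
    (α : Ext P B p) :
    (T.app B').hom (α.comp (Ext.mk₀ f) (add_zero p)) =
      ((T.app B).hom α).comp (Ext.mk₀ (G.map f)) (add_zero p) := by
  have h2 : (T.app B').hom (((Abelian.extFunctorObj P p).map f).hom α) =
      ((Abelian.extFunctorObj Q p).map (G.map f)).hom ((T.app B).hom α) :=
    congrArg (fun φ => φ.hom α) (T.naturality f)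
  rw [extFunctorObj_map_hom_apply] at h2
  exact h2.trans (extFunctorObj_map_hom_apply (P := Q) p (G.map f)
    ((T.app B).hom α : Ext Q (G.obj B) p))

/-- The components of a natural transformation `Ext^p(P, -) ⟶ Ext^p(Q, G -)`, as additive maps
between `Ext` groups. -/
noncomputable def natApp {P Q : 𝒞} (G : 𝒞 ⥤ 𝒞) (p : ℕ)
    (T : Abelian.extFunctorObj P p ⟶ G ⋙ Abelian.extFunctorObj Q p) (B : 𝒞) :
    Ext P B p →+ Ext Q (G.obj B) p :=
  (T.app B).hom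

lemma natApp_comp_mk₀ {P Q : 𝒞} (G : 𝒞 ⥤ 𝒞) (p : ℕ)
    (T : Abelian.extFunctorObj P p ⟶ G ⋙ Abelian.extFunctorObj Q p) {B B' : 𝒞} (f : B ⟶ B')
    (α : Ext P B p) :
    natApp G p T B' (α.comp (Ext.mk₀ f) (add_zero p)) =
      (natApp G p T B α).comp (Ext.mk₀ (G.map f)) (add_zero p) :=
  natTrans_app_comp_mk₀ G p T f α

/-- A natural transformation `Ext^p(P, -) ⟶ Ext^p(Q, G -)` is linear as soon as `G` is linear on
scalar endomorphisms. -/
lemma natApp_smul {R : Type*} [CommRing R] [Linear R 𝒞] {P Q : 𝒞} (G : 𝒞 ⥤ 𝒞) (p : ℕ)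
    (T : Abelian.extFunctorObj P p ⟶ G ⋙ Abelian.extFunctorObj Q p) (B : 𝒞) (a : R)
    (hG : G.map (a • 𝟙 B) = a • 𝟙 (G.obj B)) (α : Ext P B p) :
    natApp G p T B (a • α) = a • natApp G p T B α := by
  rw [Ext.smul_eq_comp_mk₀, Ext.smul_eq_comp_mk₀, natApp_comp_mk₀, hG]

lemma natApp_bijective {P Q : 𝒞} (G : 𝒞 ⥤ 𝒞) (p : ℕ)
    (T : Abelian.extFunctorObj P p ≅ G ⋙ Abelian.extFunctorObj Q p) (B : 𝒞) :
    Function.Bijective (natApp G p T.hom B) :=
  ConcreteCategory.bijective_of_isIso (T.hom.app B)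

end natTrans

end Groth.Agent.Lib.Lead.SD.ExtH
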