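import Groth.Agent.Lib.Lead.LinLES.Biprod
import Groth.Agent.Lib.Helper17.ModSiteExact
import Groth.Prelude.Def_KLin
import Mathlib.Algebra.Homology.DerivedCategory.Ext.Map

/-!
# The Yoneda pairing `Ext^i(F, ω) × H^j(X, F) → H^{i+j}(X, ω)`

`Ext` groups are taken in `X.Modules`, cohomology is `Coh.HH` (Ext in abelian sheaves from the
constant sheaf `ℤ`); the pairing goes through the exact forgetful functor `toSheaf`.
-/

set_option autoImplicit false

universe u

open CategoryTheory CategoryTheory.Limits AlgebraicGeometry Opposite Abelian TopologicalSpace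

namespace Groth.Agent.Lib.Lead.SD

open Groth.Agent.Lib.Lead.LinLES Groth.Agent.Lib.Helper29.QCoh

variable {X : Scheme.{u}} [HasExt.{u} X.Modules]

noncomputable instance : PreservesFiniteLimits (toSheafAb X) :=
  Groth.Agent.Lib.Helper17.ModSiteExact.toSheaf_preservesFiniteLimits X.ringCatSheaf

noncomputable instance : PreservesFiniteColimits (toSheafAb X) :=
  Groth.Agent.Lib.Helper17.ModSiteExact.toSheaf_preservesFiniteColimits X.ringCatSheaf

/-- The image of an `Ext` class of `O_X`-modules in `Ext` of abelian sheaves. -/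
noncomputable def abExt {F G : X.Modules} {i : ℕ} (α : Ext F G i) :
    Ext (Coh.toAb F) (Coh.toAb G) i :=
  α.mapExactFunctor (toSheafAb X)

lemma abExt_mk₀ {F G : X.Modules} (φ : F ⟶ G) : abExt (Ext.mk₀ φ) = Ext.mk₀ (abMap φ) :=
  Ext.mapExactFunctor_mk₀ (toSheafAb X) φ

lemma abExt_comp {F G H : X.Modules} {a b c : ℕ} (α : Ext F G a) (β : Ext G H b)
    (h : a + b = c) : abExt (α.comp β h) = (abExt α).comp (abExt β) h :=
  Ext.mapExactFunctor_comp (toSheafAb X) α β h

lemma abExt_add {F G : X.Modules} {i : ℕ} (α β : Ext F G i) :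
    abExt (α + β) = abExt α + abExt β :=
  Ext.mapExactFunctor_add (toSheafAb X) _ _ _ α β

lemma abExt_extClass (S : ShortComplex X.Modules) (hS : S.ShortExact) :
    abExt hS.extClass = eC S hS :=
  Ext.mapExactFunctor_extClass (toSheafAb X) hS

/-- The Yoneda pairing. -/
noncomputable def pair {F G : X.Modules} {i j n : ℕ} (h : j + i = n) (α : Ext F G i)
    (x : Coh.HH X F j) : Coh.HH X G n :=
  Ext.comp x (abExt α) h

lemma pair_add_left {F G : X.Modules} {i j n : ℕ} (h : j + i = n) (α β : Ext F G i)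
    (x : Coh.HH X F j) : pair h (α + β) x = pair h α x + pair h β x := by
  unfold pair
  rw [abExt_add, Ext.comp_add]

lemma pair_add_right {F G : X.Modules} {i j n : ℕ} (h : j + i = n) (α : Ext F G i)
    (x y : Coh.HH X F j) : pair h α (x + y) = pair h α x + pair h α y := by
  unfold pair
  rw [Ext.add_comp]

/-- Naturality of the pairing in the first variable of `Ext`. -/
lemma pair_mk₀_comp {F' F G : X.Modules} {i j n : ℕ} (h : j + i = n) (φ : F' ⟶ F)
    (α : Ext F G i) (x : Coh.HH X F' j) :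
    pair h ((Ext.mk₀ φ).comp α (zero_add i)) x =
      pair h α (Ext.comp x (Ext.mk₀ (abMap φ)) (add_zero j)) := by
  unfold pair
  rw [abExt_comp, abExt_mk₀, Ext.comp_assoc_of_second_deg_zero]

/-- Naturality of the pairing in the second variable of `Ext`. -/
lemma pair_comp_mk₀ {F G G' : X.Modules} {i j n : ℕ} (h : j + i = n) (ψ : G ⟶ G')
    (α : Ext F G i) (x : Coh.HH X F j) :
    pair h (α.comp (Ext.mk₀ ψ) (add_zero i)) x =
      Ext.comp (pair h α x) (Ext.mk₀ (abMap ψ)) (add_zero n) := by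
  unfold pair
  rw [abExt_comp, abExt_mk₀, Ext.comp_assoc_of_third_deg_zero]

/-- Compatibility of the pairing with connecting homomorphisms. -/
lemma pair_extClass_comp (S : ShortComplex X.Modules) (hS : S.ShortExact) {G : X.Modules}
    {i j n : ℕ} (h : j + 1 + i = n) (h' : j + (1 + i) = n) (α : Ext S.X₁ G i)
    (x : Coh.HH X S.X₃ j) :
    pair h' (hS.extClass.comp α rfl) x = pair h α (Ext.comp x (eC S hS) rfl) := by
  unfold pair
  rw [abExt_comp, abExt_extClass]
  exact (Ext.comp_assoc x (eC S hS) (abExt α) rfl rfl (by omega)).symm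

section linear

variable (A : Type u) [CommRing A] [X.Over (Spec (CommRingCat.of A))]

lemma abMap_smul_id (M : X.Modules) (a : A) :
    abMap (a • 𝟙 M) = Coh.smulAb M (Coh.toGlobal (X ↘ Spec (CommRingCat.of A)) a) := by
  rw [KLin.smul_id]
  rfl

lemma pair_smul_left {F G : X.Modules} {i j n : ℕ} (h : j + i = n) (α : Ext F G i) (a : A)
    (x : Coh.HH X F j) : pair h (a • α) x = a • pair h α x := by
  rw [Ext.smul_eq_comp_mk₀, pair_comp_mk₀, abMap_smul_id]
  rfl

lemma pair_smul_right {F G : X.Modules} {i j n : ℕ} (h : j + i = n) (α : Ext F G i) (a : A)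
    (x : Coh.HH X F j) : pair h α (a • x) = a • pair h α x := by
  have h1 : a • x = Ext.comp x (Ext.mk₀ (abMap (a • 𝟙 F))) (add_zero j) := by
    rw [abMap_smul_id]
    rfl
  have h2 : (Ext.mk₀ (a • 𝟙 F)).comp α (zero_add i) = a • α := by
    rw [Ext.mk₀_smul, Ext.smul_comp, Ext.mk₀_id_comp]
  rw [h1, ← pair_mk₀_comp, h2, pair_smul_left]

/-- The duality map `Ext^i(F, ω) → Hom_A(H^j(X, F), A)` attached to a trace `t : H^n(X, ω) → A`,
`i + j = n`. -/
noncomputable def theta {ω : X.Modules} {n : ℕ} (t : Coh.HH X ω n →ₗ[A] A) {F : X.Modules}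
    {i j : ℕ} (h : j + i = n) : Ext F ω i →ₗ[A] (Coh.HH X F j →ₗ[A] A) where
  toFun α :=
    { toFun := fun x => t (pair h α x)
      map_add' := fun x y => by rw [pair_add_right, map_add]
      map_smul' := fun a x => by rw [pair_smul_right, map_smul, RingHom.id_apply] }
  map_add' α β := by
    apply LinearMap.ext
    intro x
    change t (pair h (α + β) x) = t (pair h α x) + t (pair h β x)
    rw [pair_add_left, map_add]
  map_smul' a α := by
    apply LinearMap.ext
    intro x
    change t (pair h (a • α) x) = a • t (pair h α x)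
    rw [pair_smul_left, map_smul]

variable {A}

lemma theta_apply {ω : X.Modules} {n : ℕ} (t : Coh.HH X ω n →ₗ[A] A) {F : X.Modules}
    {i j : ℕ} (h : j + i = n) (α : Ext F ω i) (x : Coh.HH X F j) :
    theta A t h α x = t (pair h α x) := rfl

lemma theta_mk₀_comp {ω : X.Modules} {n : ℕ} (t : Coh.HH X ω n →ₗ[A] A) {F' F : X.Modules}
    {i j : ℕ} (h : j + i = n) (φ : F' ⟶ F) (α : Ext F ω i) (x : Coh.HH X F' j) :
    theta A t h ((Ext.mk₀ φ).comp α (zero_add i)) x = theta A t h α (Canon.HHlin A φ j x) := by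
  rw [theta_apply, theta_apply, pair_mk₀_comp]
  rfl

lemma theta_extClass_comp {ω : X.Modules} {n : ℕ} (t : Coh.HH X ω n →ₗ[A] A)
    (S : ShortComplex X.Modules) (hS : S.ShortExact) {i j : ℕ} (h : j + 1 + i = n)
    (h' : j + (1 + i) = n) (α : Ext S.X₁ ω i) (x : Coh.HH X S.X₃ j) :
    theta A t h' (hS.extClass.comp α rfl) x = theta A t h α (δlin A S hS j x) := by
  rw [theta_apply, theta_apply, pair_extClass_comp S hS h h']
  rfl

/-- In degree zero the duality map is `φ ↦ t ∘ H^n(φ)`. -/
lemma theta_mk₀ {ω : X.Modules} {n : ℕ} (t : Coh.HH X ω n →ₗ[A] A) {F : X.Modules}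
    (φ : F ⟶ ω) (x : Coh.HH X F n) :
    theta A t (add_zero n) (Ext.mk₀ φ) x = t (Canon.HHlin A φ n x) := by
  rw [theta_apply]
  unfold pair
  rw [abExt_mk₀]
  rfl

end linear

end Groth.Agent.Lib.Lead.SD
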