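import Groth.Agent.Lib.Helper5.FinLocFreeExt
import Groth.Agent.Lib.Lead.SD.ExtH
import Groth.Agent.Lib.Lead.SD.TensorLin
import Groth.Agent.Lib.Lead.SD.Theta

/-!
# `Ext^p(F, B) ≃ₗ H^p(X, Hom(F, B))` linearly over the base ring, for `F` finite locally free
-/

set_option autoImplicit false
set_option maxSynthPendingDepth 3

universe u

open CategoryTheory CategoryTheory.Limits AlgebraicGeometry Opposite Abelian

namespace Groth.Agent.Lib.Lead.SD

open Groth.Agent.Lib.Helper5.DualBasis Groth.Agent.Lib.Helper5.LocalGlobalExt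
  Groth.Agent.Lib.Helper5 Groth.Agent.Lib.Helper5.FinLocFreeExt

section site

variable {C : Type u} [SmallCategory C] {J : GrothendieckTopology C} (O : Sheaf J CommRingCat.{u})
  (E : ModSite.Mod O) [ModSite.HasSheafHom E]
  [HasExt.{u} (ModSite.Mod O)] [HasInjectiveResolutions (ModSite.Mod O)]

/-- The natural form of `Ext^p(E, N) ≅ R^pΓ(Hom_O(E, N))`. -/
theorem nonempty_extFunctor_iso (hE : HasLocBases E) (p : ℕ) :
    Nonempty (Abelian.extFunctorObj E p ≅ ModSite.sheafHom E ⋙ (Γ O).rightDerived p) := by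
  haveI : EnoughInjectives (ModSite.Mod O) := Groth.Agent.S0485.result J (ModSite.ringSh O)
  haveI := preservesFiniteColimits_sheafHom O E hE
  have e1 : (ModSite.sheafHom E ⋙ Γ O).rightDerived p ≅ Abelian.extFunctorObj E p :=
    ExtDer.extIsoOfIso E (ModSite.sheafHom E ⋙ Γ O) (compIso O E) p
  have e2 : (ModSite.sheafHom E ⋙ Γ O).rightDerived p ≅
      ModSite.sheafHom E ⋙ (Γ O).rightDerived p :=
    PrecompDelta.rightDerivedPrecompIso (ModSite.sheafHom E) (Γ O) (fun Q hQ q => by
      obtain ⟨e⟩ := nonempty_rightDerived_Γ_iso O ((ModSite.sheafHom E).obj Q) (q + 1)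
      refine IsZero.of_iso ?_ e
      haveI : Subsingleton (ModSite.HC O ((ModSite.sheafHom E).obj Q) (q + 1)) :=
        subsingleton_H_succ _ (IHomAcyclic.isTotallyAcyclic_sheafHom O E Q) q
      exact AddCommGrpCat.isZero_of_subsingleton _) p
  exact ⟨e1.symm ≪≫ e2⟩

end site

section scheme

variable (X : Scheme.{u}) [HasExt.{u} X.Modules]

/-- `Ext^p(A, -) ≅ Ext^p(O_X, Hom(A, -))` naturally, for `A` finite locally free. -/
theorem nonempty_extFunctor_iso_unit (A : X.Modules) (hA : FlatMod.IsFinLocFree A)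
    [DCoh.HasSheafHom A] (p : ℕ) :
    Nonempty (Abelian.extFunctorObj A p ≅
      DCoh.sheafHom A ⋙ Abelian.extFunctorObj (SheafOfModules.unit X.ringCatSheaf) p) := by
  haveI hExt : HasExt.{u} (ModSite.Mod X.sheaf) := inferInstanceAs (HasExt.{u} X.Modules)
  haveI : EnoughInjectives (ModSite.Mod X.sheaf) :=
    Groth.Agent.S0485.result (Opens.grothendieckTopology X) X.ringCatSheaf
  haveI : ModSite.HasSheafHom (O := X.sheaf) A := Groth.Agent.Lib.Helper17.IHom.hasSheafHom A
  obtain ⟨e1⟩ := nonempty_extFunctor_iso X.sheaf A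
    (LocBasisScheme.hasLocBases_of_isFinLocFree A hA) p
  exact ⟨e1 ≪≫ Functor.isoWhiskerRight (sheafHomIsoDCoh X A) ((Γ X.sheaf).rightDerived p) ≪≫
    Functor.isoWhiskerLeft (DCoh.sheafHom A) (ExtDer.extIso (ModSite.unit X.sheaf) p)⟩

end scheme

end Groth.Agent.Lib.Lead.SD
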