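import Groth.Agent.Lib.Lead.SD.Untwist
import Groth.Agent.Lib.Lead.Pn.TwistSeq
import Groth.Agent.Lib.Lead.Pn.TwistZero
import Groth.Agent.Lib.Helper29.Pic3
import Groth.Agent.S0844

/-!
# Extensions of line bundles on `P^n`, `n ≥ 2`, split
-/

set_option autoImplicit false

universe u

open CategoryTheory CategoryTheory.Limits AlgebraicGeometry Opposite

namespace Groth.Agent.Lib.Lead.SD

open Groth.Agent.Lib.Lead.TwistExact Groth.Agent.Lib.Helper29.QCoh Groth.Agent.Lib.Lead.Pn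

variable (k : Type u) [Field k] (n : ℕ)

/-- Extensions of `O(b)` by `O(a)` on `P^n_k`, `n ≥ 2`, split. -/
theorem nonempty_splitting_of_twists (hn : 2 ≤ n) (a b : ℤ)
    (S : ShortComplex (CohB1.ProjSpace n k).Modules) (hS : S.ShortExact)
    (ha : Nonempty (S.X₁ ≅ Twist.twistProjSpace n k a))
    (hb : Nonempty (S.X₃ ≅ Twist.twistProjSpace n k b)) : Nonempty S.Splitting := by
  obtain ⟨α⟩ := ha
  obtain ⟨β⟩ := hb
  obtain ⟨e1⟩ := nonempty_twist_tensor_iso n k (-b) b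
  obtain ⟨e0⟩ := nonempty_unit_iso_twist_zero (CohB1.polyGrading n k)
  obtain ⟨e2⟩ := nonempty_twist_tensor_iso n k b (-b)
  obtain ⟨e3⟩ := nonempty_twist_tensor_iso n k a (-b)
  let μ : CohB1.tensorMod (Twist.twistProjSpace n k (-b)) (Twist.twistProjSpace n k b) ≅
      Coh.structureModule (CohB1.ProjSpace n k) :=
    e1 ≪≫ eqToIso (congrArg (Twist.twistProjSpace n k) (neg_add_cancel b)) ≪≫ e0.symm
  let θ : unitM (CohB1.ProjSpace n k) ≅ CohB1.tensorMod S.X₃ (Twist.twistProjSpace n k (-b)) :=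
    e0 ≪≫ eqToIso (congrArg (Twist.twistProjSpace n k) (add_neg_cancel b).symm) ≪≫ e2.symm ≪≫
      tensorCongr β.symm (Iso.refl _)
  have h1 : Subsingleton (Coh.HH (CohB1.ProjSpace n k)
      (CohB1.tensorMod S.X₁ (Twist.twistProjSpace n k (-b))) 1) := by
    refine subsingleton_HH_of_iso (tensorCongr α (Iso.refl _) ≪≫ e3).symm 1 ?_
    exact Groth.Agent.S0844.result k n (a + -b) 1 (by omega) (by omega)
  exact nonempty_splitting_of_untwist S hS _ _ (isFlat_twistProjSpace n k (-b)) μ θ h1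

/-- A rank-2 extension of line bundles on `P^n_k`, `n ≥ 2`, is a sum of two twisting sheaves. -/
theorem exists_iso_biprod_twists (hn : 2 ≤ n)
    (S : ShortComplex (CohB1.ProjSpace n k).Modules) (hS : S.ShortExact)
    (h₁ : FlatMod.IsFinLocFreeOfRank 1 S.X₁) (h₃ : FlatMod.IsFinLocFreeOfRank 1 S.X₃) :
    ∃ a b : ℤ, Nonempty (S.X₂ ≅ Twist.twistProjSpace n k a ⊞ Twist.twistProjSpace n k b) := by
  obtain ⟨a, ⟨α⟩⟩ := Groth.Agent.Lib.Helper29.Pic.exists_iso_twist (n := n) (R := k)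
    ((isInvertible_iff_isFinLocFreeOfRank_one S.X₁).mpr h₁)
  obtain ⟨b, ⟨β⟩⟩ := Groth.Agent.Lib.Helper29.Pic.exists_iso_twist (n := n) (R := k)
    ((isInvertible_iff_isFinLocFreeOfRank_one S.X₃).mpr h₃)
  obtain ⟨σ⟩ := nonempty_splitting_of_twists k n hn a b S hS ⟨α⟩ ⟨β⟩
  exact ⟨a, b, ⟨σ.isoBinaryBiproduct ≪≫ biprod.mapIso α β⟩⟩

end Groth.Agent.Lib.Lead.SD
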