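import Groth.Agent.Lib.Lead.SD.LaurentMul
import Groth.Agent.Lib.Helper29.IsoCover

/-!
# Morphisms between the twisting sheaves of `P^n`, `n ≥ 1`, are multiplications by polynomials
-/

set_option autoImplicit false

universe u v

open CategoryTheory CategoryTheory.Limits AlgebraicGeometry Opposite TopologicalSpace MvPolynomial

namespace Groth.Agent.Lib.Lead.SD

open Groth.Agent.Lib.Lead.Pn Groth.Agent.Lib.Lead.Koszul
open Groth.Agent.Lib.Helper29.QCoh Groth.Agent.Lib.Helper22.Cech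

section poly

variable {ι : Type v} [Fintype ι] {R : Type u} [CommRing R]

lemma lcD_add_den_apply (B : MvPolynomial ι R) (D β : ι →₀ ℕ) (e : ι → ℤ) :
    lcD B (D + β) e = lcD B D (e + zexp β) := by
  classical
  have hiff : (∀ i, 0 ≤ e i + ((D + β) i : ℤ)) ↔ ∀ i, 0 ≤ (e + zexp β) i + (D i : ℤ) := by
    refine forall_congr' fun i => ?_
    rw [Finsupp.add_apply, Pi.add_apply, zexp_apply]
    push_cast
    constructor <;> intro h <;> omega
  by_cases h : ∀ i, 0 ≤ e i + ((D + β) i : ℤ)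
  · rw [lcD_pos _ _ _ h, lcD_pos _ _ _ (hiff.1 h)]
    congr 1
    ext i
    rw [natExp_apply, natExp_apply, Finsupp.add_apply, Pi.add_apply, zexp_apply]
    push_cast
    congr 1
    ring
  · rw [lcD_neg _ _ _ h, lcD_neg _ _ _ (fun h' => h (hiff.2 h'))]

lemma zexp_add (a b : ι →₀ ℕ) : zexp (a + b) = zexp a + zexp b := by
  funext j
  simp [zexp]

lemma zexp_single [DecidableEq ι] (i : ι) (c : ℕ) :
    zexp (Finsupp.single i c) = Pi.single i (c : ℤ) := by
  funext j
  by_cases h : j = i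
  · subst h
    simp [zexp]
  · simp [zexp, Finsupp.single_apply, Pi.single_apply, h, Ne.symm h]

end poly

section sections

variable {n : ℕ} {R : Type u} [CommRing R] {d d' : ℤ}

/-- The single-index tuple. -/
def sgl (i : Fin (n + 1)) : Fin (0 + 1) → ULift.{u} (Fin (n + 1)) := fun _ => ULift.up i

lemma Us_sgl_le (i : Fin (n + 1)) :
    Us (R := R) (sgl i) ≤ Proj.basicOpen (𝒜 n R) (Xi n R i).1 :=
  Uσ_le (stdCov n R) (sgl i) 0

lemma le_Us_sgl (i : Fin (n + 1)) :
    Proj.basicOpen (𝒜 n R) (Xi n R i).1 ≤ Us (R := R) (sgl i) :=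
  le_Uσ (stdCov n R) (sgl i) fun _ => le_rfl

lemma isRep_eSec (i : Fin (n + 1)) (p q : ℕ) (hd : d = ((p : ℤ) - q) * (1 : ℕ))
    (U : (Proj (𝒜 n R)).Opens) (hU : U ≤ Proj.basicOpen (𝒜 n R) (Xi n R i).1) :
    IsRep d (eSec d (Xi n R i) p q hd U hU) (X i ^ p) (Finsupp.single i q) := by
  intro x
  rw [tfun_eSec, Localization.mk_eq_mk']
  have h1 : (mon (Finsupp.single i q) : MvPolynomial (Fin (n + 1)) R) = (Xi n R i).1 ^ q := by
    change monomial (Finsupp.single i q) 1 = (X i) ^ q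
    rw [X_pow_eq_monomial]
  rw [h1]
  exact IsLocalization.mk'_spec _ _ _

/-- The standard representation of the trivialising section. -/
noncomputable def repESec (i : Fin (n + 1)) (p q : ℕ) (hd : d = ((p : ℤ) - q) * (1 : ℕ))
    (U : (Proj (𝒜 n R)).Opens) (hU : U ≤ Proj.basicOpen (𝒜 n R) (Xi n R i).1) :
    Rep d (eSec d (Xi n R i) p q hd U hU) where
  B := X i ^ p
  D := Finsupp.single i q
  k := p
  hB := by simpa using (isHomogeneous_X R i).pow p
  hk := by
    rw [Finsupp.degree_single]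
    rw [hd]
    push_cast
    ring
  h := isRep_eSec i p q hd U hU

/-- Two morphisms out of `O(d)` which agree on the standard trivialising sections are equal. -/
theorem hom_ext_of_eSec (p q : ℕ) (hd : d = ((p : ℤ) - q) * (1 : ℕ))
    (φ ψ : Twist.twist (𝒜 n R) d ⟶ Twist.twist (𝒜 n R) d')
    (h : ∀ i : Fin (n + 1), φ.app (Us (R := R) (sgl i))
        (eSec d (Xi n R i) p q hd (Us (R := R) (sgl i)) (Us_sgl_le i)) =
      ψ.app (Us (R := R) (sgl i))
        (eSec d (Xi n R i) p q hd (Us (R := R) (sgl i)) (Us_sgl_le i))) : φ = ψ := by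
  apply Scheme.Modules.hom_ext
  intro W
  apply AddCommGrpCat.hom_ext
  ext σ
  apply tfun_ext
  intro x
  obtain ⟨i, hi⟩ := exists_mem_basicOpen_X n R x.1
  have hxV' : x.1 ∈ W ⊓ Us (R := R) (sgl i) := ⟨x.2, le_Us_sgl i hi⟩
  have hT := (isTriv_eSec d (Xi n R i) p q hd (Us (R := R) (sgl i)) (Us_sgl_le i)).restrict
    (inf_le_right : W ⊓ Us (R := R) (sgl i) ≤ Us (R := R) (sgl i))
  obtain ⟨r, hr⟩ := hT.exists_eq_smul
    (res (Twist.twist (𝒜 n R) d) (inf_le_left : W ⊓ Us (R := R) (sgl i) ≤ W) σ)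
  have key : ∀ χ : Twist.twist (𝒜 n R) d ⟶ Twist.twist (𝒜 n R) d',
      tfun (𝒜 n R) (χ.app W σ) x =
        tfun (𝒜 n R) (r • res (Twist.twist (𝒜 n R) d')
          (inf_le_right : W ⊓ Us (R := R) (sgl i) ≤ Us (R := R) (sgl i))
          (χ.app (Us (R := R) (sgl i))
            (eSec d (Xi n R i) p q hd (Us (R := R) (sgl i)) (Us_sgl_le i)))) ⟨x.1, hxV'⟩ := by
    intro χ
    have h1 : tfun (𝒜 n R) (res (Twist.twist (𝒜 n R) d')
        (inf_le_left : W ⊓ Us (R := R) (sgl i) ≤ W) (χ.app W σ)) ⟨x.1, hxV'⟩ =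
        tfun (𝒜 n R) (χ.app W σ) x :=
      tfun_res (𝒜 n R) (inf_le_left : W ⊓ Us (R := R) (sgl i) ≤ W) (χ.app W σ) ⟨x.1, hxV'⟩
    rw [← h1, ← app_res, hr, app_smul', app_res]
  rw [key φ, key ψ, h i]

end sections

section core

variable {m : ℕ} {R : Type u} [CommRing R] {d d' : ℤ}

lemma Wopen_le_Us_sgl (i : Fin (m + 2)) : Wopen (m + 1) R ≤ Us (R := R) (sgl i) :=
  W_le_Uσ (stdCov (m + 1) R) (Wopen (m + 1) R) Wopen_le_stdCov (sgl i)

lemma Φs_eq_coeffW (i : Fin (m + 2)) (s : Γ(Twist.twist (𝒜 (m + 1) R) d', Us (R := R) (sgl i))) :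
    Φs (m + 1) R d' (sgl i) s =
      coeffW (res (Twist.twist (𝒜 (m + 1) R) d') (Wopen_le_Us_sgl i) s) := by
  obtain ⟨N, ρ, -⟩ := nonempty_rep_Uσ (sgl i) s
  rw [Φs_eq (sgl i) ρ]
  exact (coeffW_eq (ρ.res (Wopen_le_Us_sgl i))).symm

/-- The comparison of the coefficients of the images of two trivialising sections. -/
lemma Φs_app_eSec_eq (p q : ℕ) (hd : d = ((p : ℤ) - q) * (1 : ℕ))
    (φ : Twist.twist (𝒜 (m + 1) R) d ⟶ Twist.twist (𝒜 (m + 1) R) d') (i : Fin (m + 2))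
    (e : Fin (m + 2) → ℤ) :
    Φs (m + 1) R d' (sgl i) (φ.app (Us (R := R) (sgl i))
        (eSec d (Xi (m + 1) R i) p q hd (Us (R := R) (sgl i)) (Us_sgl_le i))) e =
      Φs (m + 1) R d' (sgl 0) (φ.app (Us (R := R) (sgl 0))
        (eSec d (Xi (m + 1) R 0) p q hd (Us (R := R) (sgl 0)) (Us_sgl_le 0)))
        (e - Pi.single i d + Pi.single 0 d) := by
  classical
  set ti := φ.app (Us (R := R) (sgl i))
    (eSec d (Xi (m + 1) R i) p q hd (Us (R := R) (sgl i)) (Us_sgl_le i)) with hti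
  set t0 := φ.app (Us (R := R) (sgl 0))
    (eSec d (Xi (m + 1) R 0) p q hd (Us (R := R) (sgl 0)) (Us_sgl_le 0)) with ht0
  have hWi : Wopen (m + 1) R ≤ Proj.basicOpen (𝒜 (m + 1) R) (Xi (m + 1) R i).1 :=
    (Wopen_le_Us_sgl i).trans (Us_sgl_le i)
  have hW0 : Wopen (m + 1) R ≤ Proj.basicOpen (𝒜 (m + 1) R) (Xi (m + 1) R 0).1 :=
    (Wopen_le_Us_sgl 0).trans (Us_sgl_le 0)
  have hT0 := isTriv_eSec d (Xi (m + 1) R 0) p q hd (Wopen (m + 1) R) hW0
  obtain ⟨r, hr⟩ := hT0.exists_eq_smul (eSec d (Xi (m + 1) R i) p q hd (Wopen (m + 1) R) hWi)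
  -- the restrictions to `W`
  have h1 : res (Twist.twist (𝒜 (m + 1) R) d') (Wopen_le_Us_sgl i) ti =
      r • res (Twist.twist (𝒜 (m + 1) R) d') (Wopen_le_Us_sgl 0) t0 := by
    rw [hti, ht0, ← app_res, ← app_res, ← app_smul']
    congr 1
  obtain ⟨N, ρ0, -⟩ := nonempty_rep_Uσ (sgl 0) t0
  have hρ0 := (ρ0.res (Wopen_le_Us_sgl 0)).h
  -- the representation of the restriction of `ti`
  have hrep : IsRep d' (res (Twist.twist (𝒜 (m + 1) R) d') (Wopen_le_Us_sgl i) ti)
      (monomial (Finsupp.single i p + Finsupp.single 0 q) 1 * ρ0.B)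
      (ρ0.D + (Finsupp.single i q + Finsupp.single 0 p)) := by
    intro x
    rw [h1, tfun_smul]
    have e1 := congrArg (fun s => tfun (𝒜 (m + 1) R) s x) hr
    simp only [tfun_smul] at e1
    have m4 : (mon (Finsupp.single 0 q) : MvPolynomial (Fin (m + 2)) R) = X 0 ^ q := by
      change monomial (Finsupp.single 0 q) 1 = _
      rw [X_pow_eq_monomial]
    have e2 := isRep_eSec (R := R) i p q hd (Wopen (m + 1) R) hWi x
    have e3 := isRep_eSec (R := R) (0 : Fin (m + 2)) p q hd (Wopen (m + 1) R) hW0 x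
    rw [m4] at e3
    have e4 : tfun (𝒜 (m + 1) R)
        (res (Twist.twist (𝒜 (m + 1) R) d') (Wopen_le_Us_sgl 0) t0) x *
        algebraMap (MvPolynomial (Fin (m + 2)) R) (Twist.Loc (𝒜 (m + 1) R) x.1) (mon ρ0.D) =
        algebraMap (MvPolynomial (Fin (m + 2)) R) (Twist.Loc (𝒜 (m + 1) R) x.1) ρ0.B := hρ0 x
    have m1 : (mon (ρ0.D + (Finsupp.single i q + Finsupp.single 0 p)) :
        MvPolynomial (Fin (m + 2)) R) =
        mon ρ0.D * (mon (Finsupp.single i q) * mon (Finsupp.single 0 p)) := by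
      rw [mon_add, mon_add]
    have m2 : (monomial (Finsupp.single i p + Finsupp.single 0 q) 1 :
        MvPolynomial (Fin (m + 2)) R) = X i ^ p * X 0 ^ q := by
      rw [X_pow_eq_monomial, X_pow_eq_monomial, monomial_mul, one_mul]
    have m3 : (mon (Finsupp.single 0 p) : MvPolynomial (Fin (m + 2)) R) = X 0 ^ p := by
      change monomial (Finsupp.single 0 p) 1 = _
      rw [X_pow_eq_monomial]
    rw [m1, m2, m3]
    simp only [map_mul]
    rw [← e4, ← e2, ← e3, e1]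
    ring
  let ρ' : Rep d' (res (Twist.twist (𝒜 (m + 1) R) d') (Wopen_le_Us_sgl i) ti) :=
    { B := monomial (Finsupp.single i p + Finsupp.single 0 q) 1 * ρ0.B
      D := ρ0.D + (Finsupp.single i q + Finsupp.single 0 p)
      k := (p + q) + ρ0.k
      hB := by
        refine SetLike.mul_mem_graded ?_ ρ0.hB
        have := mon_mem (R := R) (n := m + 1) (Finsupp.single i p + Finsupp.single 0 q)
        rwa [map_add, Finsupp.degree_single, Finsupp.degree_single] at this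
      hk := by
        have := ρ0.hk
        rw [map_add, map_add, Finsupp.degree_single, Finsupp.degree_single]
        push_cast
        omega
      h := hrep }
  rw [Φs_eq_coeffW, coeffW_eq ρ', Φs_eq (sgl 0) ρ0]
  change lcD (monomial (Finsupp.single i p + Finsupp.single 0 q) 1 * ρ0.B)
    (ρ0.D + (Finsupp.single i q + Finsupp.single 0 p)) e = _
  rw [lcD_add_den_apply, lcD_monomial_one_mul_apply]
  congr 1
  have hd' : d = (p : ℤ) - q := by rw [hd]; push_cast; ring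
  rw [zexp_add, zexp_add, zexp_single, zexp_single, zexp_single, zexp_single, hd',
    Pi.single_sub, Pi.single_sub]
  abel

/-- The "symbol" of a morphism `O(d) ⟶ O(d')`: a polynomial coefficient function describing it on
all standard trivialising sections. -/
theorem exists_symbol (p q : ℕ) (hd : d = ((p : ℤ) - q) * (1 : ℕ))
    (φ : Twist.twist (𝒜 (m + 1) R) d ⟶ Twist.twist (𝒜 (m + 1) R) d') :
    ∃ A : (Fin (m + 2) → ℤ) → R, (Function.support A).Finite ∧
      (∀ e, A e ≠ 0 → ∑ j, e j = d' - d ∧ ∀ j, 0 ≤ e j) ∧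
      ∀ (i : Fin (m + 2)) (e : Fin (m + 2) → ℤ),
        Φs (m + 1) R d' (sgl i) (φ.app (Us (R := R) (sgl i))
          (eSec d (Xi (m + 1) R i) p q hd (Us (R := R) (sgl i)) (Us_sgl_le i))) e =
        A (e - Pi.single i d) := by
  classical
  set A0 := Φs (m + 1) R d' (sgl 0) (φ.app (Us (R := R) (sgl 0))
    (eSec d (Xi (m + 1) R 0) p q hd (Us (R := R) (sgl 0)) (Us_sgl_le 0))) with hA0
  have hmain : ∀ (i : Fin (m + 2)) (e : Fin (m + 2) → ℤ),
      Φs (m + 1) R d' (sgl i) (φ.app (Us (R := R) (sgl i))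
        (eSec d (Xi (m + 1) R i) p q hd (Us (R := R) (sgl i)) (Us_sgl_le i))) e =
      A0 (e - Pi.single i d + Pi.single 0 d) := fun i e => Φs_app_eSec_eq p q hd φ i e
  refine ⟨fun e' => A0 (e' + Pi.single 0 d), ?_, ?_, hmain⟩
  · have h0 := (Φs_support (sgl 0) (φ.app (Us (R := R) (sgl 0))
      (eSec d (Xi (m + 1) R 0) p q hd (Us (R := R) (sgl 0)) (Us_sgl_le 0)))).1
    have hinj : Function.Injective fun e' : Fin (m + 2) → ℤ => e' + Pi.single 0 d :=
      fun a b h => add_right_cancel h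
    exact (h0.preimage hinj.injOn).subset fun e he => he
  · intro e' he'
    have hsupp : ∀ i : Fin (m + 2), e' + Pi.single i d ∈
        Tset (m + 1) d' (Set.range (sgl (n := m + 1) i)) := by
      intro i
      apply (Φs_support (sgl i) (φ.app (Us (R := R) (sgl i))
        (eSec d (Xi (m + 1) R i) p q hd (Us (R := R) (sgl i)) (Us_sgl_le i)))).2
      change _ ≠ 0
      rw [hmain i, add_sub_cancel_right]
      exact he'
    have hnot : ∀ i j : Fin (m + 2), j ≠ i →
        ULift.up.{u} j ∉ Set.range (sgl (n := m + 1) i) := by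
      rintro i j hji ⟨l, hl⟩
      exact hji (congrArg ULift.down hl).symm
    refine ⟨?_, fun j => ?_⟩
    · have h1 : ∑ j, (e' + Pi.single (0 : Fin (m + 2)) d : Fin (m + 2) → ℤ) j = d' := (hsupp 0).1
      have hs : ∑ j, (e' + Pi.single (0 : Fin (m + 2)) d : Fin (m + 2) → ℤ) j = ∑ j, e' j + d := by
        simp only [Pi.add_apply]
        rw [Finset.sum_add_distrib, Finset.sum_pi_single', if_pos (Finset.mem_univ _)]
      rw [hs] at h1
      omega
    · by_cases hj : j = 0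
      · subst hj
        have h1 := (hsupp 1).2 0 (hnot 1 0 (by simp))
        simpa using h1
      · have h1 := (hsupp 0).2 j (hnot 0 j hj)
        simpa [Pi.single_apply, hj] using h1

/-- **Morphisms `O(d) ⟶ O(d + e₀)` on `P^{m+1}` are multiplications by homogeneous polynomials of
degree `e₀`.** -/
theorem exists_eq_mulHom (φ : Twist.twist (𝒜 (m + 1) R) d ⟶ Twist.twist (𝒜 (m + 1) R) d')
    (e₀ : ℕ) (h : d' = d + e₀) :
    ∃ a : 𝒜 (m + 1) R e₀, φ = mulHom (𝒜 (m + 1) R) a d d' h := by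
  classical
  have hd : d = (((d.toNat : ℕ) : ℤ) - ((-d).toNat : ℕ)) * (1 : ℕ) := by
    rw [Int.toNat_sub_toNat_neg]; simp
  obtain ⟨A, hfin, hA, hΦ⟩ := exists_symbol d.toNat (-d).toNat hd φ
  have hD : ∀ e, A e ≠ 0 → ∀ i, 0 ≤ e i + (((0 : Fin (m + 2) →₀ ℕ) i : ℕ) : ℤ) := by
    intro e he i
    have := (hA e he).2 i
    simpa using this
  have hk : ∀ e, A e ≠ 0 →
      ∑ i, e i + ∑ i, ((((0 : Fin (m + 2) →₀ ℕ) i : ℕ)) : ℤ) = (e₀ : ℕ) := by
    intro e he
    have := (hA e he).1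
    simp only [Finsupp.coe_zero, Pi.zero_apply, Nat.cast_zero, Finset.sum_const_zero, add_zero]
    omega
  let a : 𝒜 (m + 1) R e₀ := ⟨numOf A hfin 0, numOf_isHomogeneous A hfin 0 hD e₀ hk⟩
  have ha : lcD a.1 0 = A := lcD_numOf A hfin 0 hD
  refine ⟨a, ?_⟩
  apply hom_ext_of_eSec d.toNat (-d).toNat hd
  intro i
  apply sub_eq_zero.mp
  apply Φs_injective (sgl i)
  rw [map_sub]
  funext e
  rw [Pi.sub_apply, Pi.zero_apply, sub_eq_zero, hΦ i e,
    Φs_eq (sgl i) (repMulHom (repESec i d.toNat (-d).toNat hd _ (Us_sgl_le i)) a h)]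
  change A (e - Pi.single i d) =
    lcD (a.1 * X i ^ d.toNat) (Finsupp.single i (-d).toNat) e
  have h1 : a.1 * X i ^ d.toNat = monomial (Finsupp.single i d.toNat) 1 * a.1 := by
    rw [mul_comm, X_pow_eq_monomial]
  have h2 : (Finsupp.single i (-d).toNat : Fin (m + 2) →₀ ℕ) =
      0 + Finsupp.single i (-d).toNat := (zero_add _).symm
  rw [h1, h2, lcD_add_den_apply, lcD_monomial_one_mul_apply, ha, zexp_single, zexp_single]
  congr 1
  have hd' : d = ((d.toNat : ℕ) : ℤ) - ((-d).toNat : ℕ) := by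
    rw [Int.toNat_sub_toNat_neg]
  conv_lhs => rw [hd', Pi.single_sub]
  abel

/-- There are no nonzero morphisms `O(d) ⟶ O(d')` on `P^{m+1}` when `d' < d`. -/
theorem eq_zero_of_lt (φ : Twist.twist (𝒜 (m + 1) R) d ⟶ Twist.twist (𝒜 (m + 1) R) d')
    (h : d' < d) : φ = 0 := by
  classical
  have hd : d = (((d.toNat : ℕ) : ℤ) - ((-d).toNat : ℕ)) * (1 : ℕ) := by
    rw [Int.toNat_sub_toNat_neg]; simp
  obtain ⟨A, hfin, hA, hΦ⟩ := exists_symbol d.toNat (-d).toNat hd φ
  have hA0 : ∀ e, A e = 0 := by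
    intro e
    by_contra he
    obtain ⟨h1, h2⟩ := hA e he
    have h3 : 0 ≤ ∑ j, e j := Finset.sum_nonneg fun j _ => h2 j
    omega
  apply hom_ext_of_eSec d.toNat (-d).toNat hd
  intro i
  have h0 : (0 : Twist.twist (𝒜 (m + 1) R) d ⟶ Twist.twist (𝒜 (m + 1) R) d').app
      (Us (R := R) (sgl i))
      (eSec d (Xi (m + 1) R i) d.toNat (-d).toNat hd (Us (R := R) (sgl i)) (Us_sgl_le i)) = 0 :=
    rfl
  rw [h0]
  apply Φs_injective (sgl i)
  funext e
  rw [hΦ i e, hA0]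
  rfl

end core

end Groth.Agent.Lib.Lead.SD
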