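import Groth.Agent.Lib.Lead.SD.Dualizing
import Groth.Agent.Lib.Lead.Koszul.Resol2
import Groth.Agent.Lib.Lead.Koszul.SerreVanish

/-!
# Horrocks' splitting criterion on `P^d`, `d ≥ 1`
-/

set_option autoImplicit false

universe u

open CategoryTheory CategoryTheory.Limits AlgebraicGeometry Opposite TopologicalSpace MvPolynomial

namespace Groth.Agent.Lib.Lead.SD

open Groth.Agent.Lib.Lead.LinLES Groth.Agent.Lib.Lead.Pn Groth.Agent.Lib.Lead.Koszul
open Groth.Agent.Lib.Helper29.QCoh Groth.Agent.Lib.Lead.TwistExact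

attribute [local instance] CategoryTheory.Abelian.hasFiniteBiproducts

section basics

variable (n : ℕ) (R : Type u) [CommRing R]

/-- Cohomology vanishing of twists passes to retracts. -/
lemma subsingleton_HH_tw_of_retract {F' F : (CohB1.ProjSpace n R).Modules} (i : F' ⟶ F)
    (r : F ⟶ F') (h : i ≫ r = 𝟙 F') (j : ℤ) (q : ℕ)
    (hF : Subsingleton (Coh.HH (CohB1.ProjSpace n R) (tw n R F j) q)) :
    Subsingleton (Coh.HH (CohB1.ProjSpace n R) (tw n R F' j) q) := by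
  have h1 : ∀ x : Coh.HH (CohB1.ProjSpace n R) (tw n R F' j) q,
      Canon.HHlin R ((tensorRight (Twist.twistProjSpace n R j)).map r) q
        (Canon.HHlin R ((tensorRight (Twist.twistProjSpace n R j)).map i) q x) = x := by
    intro x
    rw [← HHlin_comp, ← CategoryTheory.Functor.map_comp, h, CategoryTheory.Functor.map_id]
    exact HHlin_id R _ q x
  refine ⟨fun x y => ?_⟩
  rw [← h1 x, ← h1 y]
  congr 1
  exact @Subsingleton.elim _ hF _ _

/-- A decomposable module satisfies the vanishing conditions of Horrocks' criterion. -/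
theorem horrocks_forward (hn : 1 ≤ n) (F : (CohB1.ProjSpace n R).Modules) (r : ℕ) (a : Fin r → ℤ)
    (e : F ≅ ∐ fun j => Twist.twistProjSpace n R (a j)) :
    (∃ n₀ : ℤ, ∀ j : ℤ, j ≤ n₀ → Subsingleton (Coh.HH (CohB1.ProjSpace n R) (tw n R F j) 0)) ∧
      ∀ (j : ℤ) (i : ℕ), 1 ≤ i → i < n →
        Subsingleton (Coh.HH (CohB1.ProjSpace n R) (tw n R F j) i) := by
  obtain ⟨B, hB⟩ := (Set.finite_range a).bddAbove
  have hB' : ∀ l, a l ≤ B := fun l => hB ⟨l, rfl⟩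
  constructor
  · refine ⟨-B - 1, fun j hj => ?_⟩
    refine subsingleton_HH_of_iso ((tensorRight (Twist.twistProjSpace n R j)).mapIso e).symm 0 ?_
    refine subsingleton_HH_tw_coprod n R _ j 0 (fun l => ?_)
    have := hB' l
    exact subsingleton_HH_tw_twist n R (a l) j 0 (by omega) (by omega)
  · intro j i hi1 hin
    refine subsingleton_HH_of_iso ((tensorRight (Twist.twistProjSpace n R j)).mapIso e).symm i ?_
    refine subsingleton_HH_tw_coprod n R _ j i (fun l => ?_)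
    exact subsingleton_HH_tw_twist n R (a l) j i (by omega) (by omega)

/-- A coherent module all of whose twists are regular and which has a twist without global
sections is zero. -/
theorem isZero_of_regular_all (F : (CohB1.ProjSpace n R).Modules) (hF : Coh.IsCoh F) (j₀ : ℤ)
    (h0 : Subsingleton (Coh.HH (CohB1.ProjSpace n R) (tw n R F j₀) 0))
    (hreg : ∀ r : ℤ, j₀ ≤ r → ∀ p : ℕ, 1 ≤ p → p ≤ n →
      Subsingleton (Coh.HH (CohB1.ProjSpace n R) (tw n R F (r - p)) p)) : IsZero F := by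
  haveI := hF.1
  haveI := hF.2
  obtain ⟨ι, p, hp⟩ := isGloballyGenerated_tw_of_regular n R F j₀ hreg
  have hsec : ∀ s : Γ(tw n R F j₀, ⊤),
      (𝟙 (tw n R F j₀) : tw n R F j₀ ⟶ tw n R F j₀).app ⊤ s = 0 := by
    intro s
    obtain ⟨x, rfl⟩ := (hh0 (tw n R F j₀)).surjective s
    rw [Subsingleton.elim x 0, map_zero, map_zero]
  have hp0 : p ≫ 𝟙 (tw n R F j₀) = 0 := free_comp_eq_zero _ hsec p
  have hp0' : p = 0 := (Category.comp_id p).symm.trans hp0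
  have hz : IsZero (tw n R F j₀) := @IsZero.of_epi_eq_zero _ _ _ _ _ p hp hp0'
  obtain ⟨e⟩ := nonempty_tw_tw_iso n R F j₀ (-j₀)
  obtain ⟨e0⟩ := nonempty_tw_zero_iso n R F
  have h1 : IsZero (tw n R (tw n R F j₀) (-j₀)) :=
    (tensorRight (Twist.twistProjSpace n R (-j₀))).map_isZero hz
  have h2 : IsZero (tw n R F (j₀ + -j₀)) := h1.of_iso e.symm
  rw [add_neg_cancel] at h2
  exact h2.of_iso e0.symm

end basics

section mul

variable {R A : Type u} [CommRing R] [CommRing A] [Algebra R A] (𝒜 : ℕ → Submodule R A)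
  [GradedAlgebra 𝒜]

lemma mulHom_comp_eq_id {e e' : ℕ} (a : 𝒜 e) (b : 𝒜 e') (hab : a.1 * b.1 = 1) (n m : ℤ)
    (h : m = n + e) (h' : n = m + e') :
    mulHom 𝒜 a n m h ≫ mulHom 𝒜 b m n h' = 𝟙 _ := by
  apply Scheme.Modules.hom_ext
  intro W
  apply AddCommGrpCat.hom_ext
  ext σ
  apply tfun_ext
  intro x
  change (Localization.mk b.1 1 : Twist.Loc 𝒜 x.1) *
      ((Localization.mk a.1 1 : Twist.Loc 𝒜 x.1) * tfun 𝒜 σ x) = tfun 𝒜 σ x
  rw [← mul_assoc, Localization.mk_mul, mul_comm b.1, hab, one_mul, Localization.mk_one, one_mul]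

lemma mulHom_eq_zero {e : ℕ} (a : 𝒜 e) (ha : a.1 = 0) (n m : ℤ) (h : m = n + e) :
    mulHom 𝒜 a n m h = 0 := by
  apply Scheme.Modules.hom_ext
  intro W
  apply AddCommGrpCat.hom_ext
  ext σ
  apply tfun_ext
  intro x
  change (Localization.mk a.1 1 : Twist.Loc 𝒜 x.1) * tfun 𝒜 σ x = 0
  rw [ha, Localization.mk_zero, zero_mul]

end mul

section split

variable (m : ℕ) (K : Type u) [Field K]

/-- `F` is `r`-regular for all `r ≥ r₀`. -/
def Reg (F : (CohB1.ProjSpace (m + 1) K).Modules) (r₀ : ℤ) : Prop :=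
  ∀ r : ℤ, r₀ ≤ r → ∀ p : ℕ, 1 ≤ p → p ≤ m + 1 →
    Subsingleton (Coh.HH (CohB1.ProjSpace (m + 1) K) (tw (m + 1) K F (r - p)) p)

variable {m K} in
lemma Reg.mono {F : (CohB1.ProjSpace (m + 1) K).Modules} {a b : ℤ} (h : Reg m K F a)
    (hab : a ≤ b) : Reg m K F b := fun r hr => h r (hab.trans hr)

lemma isCoh_tw (n : ℕ) (R : Type u) [CommRing R] (F : (CohB1.ProjSpace n R).Modules)
    (hF : Coh.IsCoh F) (j : ℤ) : Coh.IsCoh (tw n R F j) := by
  haveI : F.IsQuasicoherent := hF.1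
  haveI : F.IsFiniteType := hF.2
  have hcohO := isCoh_twist n R j
  haveI := hcohO.1
  haveI := hcohO.2
  exact ⟨inferInstance, inferInstance⟩

/-- The least regularity of a nonzero coherent module satisfying the conditions of Horrocks'
criterion, and the nonvanishing top cohomology group it produces. -/
theorem exists_nonvanishing_top (F : (CohB1.ProjSpace (m + 1) K).Modules) (hF : Coh.IsCoh F)
    (hF0 : ¬ IsZero F)
    (hi : ∃ n₀ : ℤ, ∀ j : ℤ, j ≤ n₀ →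
      Subsingleton (Coh.HH (CohB1.ProjSpace (m + 1) K) (tw (m + 1) K F j) 0))
    (hii : ∀ (j : ℤ) (i : ℕ), 1 ≤ i → i < m + 1 →
      Subsingleton (Coh.HH (CohB1.ProjSpace (m + 1) K) (tw (m + 1) K F j) i))
    (m₁ : ℤ) (hm₁ : Reg m K F m₁) :
    ∃ m₀ : ℤ, m₀ ≤ m₁ ∧ Reg m K F m₀ ∧
      ¬ Subsingleton (Coh.HH (CohB1.ProjSpace (m + 1) K)
        (tw (m + 1) K F (m₀ - 1 - ((m + 1 : ℕ) : ℤ))) (m + 1)) := by
  classical
  obtain ⟨n₀, hn₀⟩ := hi
  have hbad : ∃ mb, ¬ Reg m K F mb := by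
    by_contra hall
    push_neg at hall
    exact hF0 (isZero_of_regular_all (m + 1) K F hF n₀ (hn₀ n₀ le_rfl) (hall n₀))
  obtain ⟨mb, hmb⟩ := hbad
  obtain ⟨m₀, hm₀, hleast⟩ := Int.exists_least_of_bdd (P := Reg m K F)
    ⟨mb, fun z hz => by
      by_contra hlt
      push_neg at hlt
      exact hmb (hz.mono hlt.le)⟩ ⟨m₁, hm₁⟩
  refine ⟨m₀, hleast m₁ hm₁, hm₀, ?_⟩
  have hnot : ¬ Reg m K F (m₀ - 1) := fun h => by
    have := hleast _ h
    omega
  intro hsub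
  apply hnot
  intro r hr p hp1 hpm
  by_cases hr' : m₀ ≤ r
  · exact hm₀ r hr' p hp1 hpm
  · have hr'' : r = m₀ - 1 := by omega
    subst hr''
    by_cases hp' : p < m + 1
    · exact hii _ p hp1 hp'
    · have hp'' : p = m + 1 := by omega
      subst hp''
      exact hsub

lemma exists_dual_ne_zero {k V : Type*} [Field k] [AddCommGroup V] [Module k V] (x : V)
    (hx : x ≠ 0) : ∃ ψ : V →ₗ[k] k, ψ x ≠ 0 := by
  obtain ⟨g, hg⟩ := LinearMap.exists_leftInverse_of_injective (LinearMap.toSpanSingleton k V x)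
    (LinearMap.ker_toSpanSingleton k hx)
  refine ⟨g, ?_⟩
  have h1 := congrArg (fun f : k →ₗ[k] k => f 1) hg
  simp only [LinearMap.comp_apply, LinearMap.toSpanSingleton_apply, one_smul,
    LinearMap.id_apply] at h1
  rw [h1]
  exact one_ne_zero

/-- A `(d+1)`-regular coherent module on `P^d` with nonvanishing `H^d` has `O(-d-1)` as a direct
summand. -/
theorem exists_section_of_top_ne
    (t : Coh.HH (CohB1.ProjSpace (m + 1) K)
      (Twist.twistProjSpace (m + 1) K (-((m : ℤ) + 2))) (m + 1) ≃ₗ[K] K)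
    (G : (CohB1.ProjSpace (m + 1) K).Modules) (hG : Coh.IsCoh G)
    (hregG : ∀ r : ℤ, (m : ℤ) + 2 ≤ r → ∀ p : ℕ, 1 ≤ p → p ≤ m + 1 →
      Subsingleton (Coh.HH (CohB1.ProjSpace (m + 1) K) (tw (m + 1) K G (r - p)) p))
    (hne : ¬ Subsingleton (Coh.HH (CohB1.ProjSpace (m + 1) K) G (m + 1))) :
    ∃ (s : Twist.twistProjSpace (m + 1) K (-((m : ℤ) + 2)) ⟶ G)
      (φ : G ⟶ Twist.twistProjSpace (m + 1) K (-((m : ℤ) + 2))), s ≫ φ = 𝟙 _ := by
  classical
  rw [not_subsingleton_iff_nontrivial] at hne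
  obtain ⟨x, hx⟩ := exists_ne (0 : Coh.HH (CohB1.ProjSpace (m + 1) K) G (m + 1))
  obtain ⟨ψ, hψ⟩ : ∃ ψ : Coh.HH (CohB1.ProjSpace (m + 1) K) G (m + 1) →ₗ[K] K, ψ x ≠ 0 :=
    exists_dual_ne_zero x hx
  obtain ⟨φ, hφ, -⟩ := perf_of_isCoh K m t G hG ψ
  have hφ0 : φ ≠ 0 := by
    rintro rfl
    apply hψ
    rw [hφ x, HHlin_zero_apply, map_zero]
  obtain ⟨b, π, hπ, -⟩ := exists_epi_coprod_twist_kernel_regular (m + 1) K G hG ((m : ℤ) + 2) hregG
  have hj : ∃ j, Sigma.ι (fun _ : Fin b => Twist.twistProjSpace (m + 1) K (-((m : ℤ) + 2))) j ≫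
      π ≫ φ ≠ 0 := by
    by_contra h
    push Not at h
    apply hφ0
    rw [← cancel_epi π, comp_zero]
    apply Sigma.hom_ext
    intro j
    rw [comp_zero]
    exact h j
  obtain ⟨j, hj⟩ := hj
  obtain ⟨e, he⟩ : ∃ e : Twist.twist (𝒜 (m + 1) K) (-((m : ℤ) + 2)) ⟶
      Twist.twist (𝒜 (m + 1) K) (-((m : ℤ) + 2)),
      e = Sigma.ι (fun _ : Fin b => Twist.twistProjSpace (m + 1) K (-((m : ℤ) + 2))) j ≫ π ≫ φ :=
    ⟨_, rfl⟩
  obtain ⟨a, ha⟩ := exists_eq_mulHom e 0 (by simp)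
  have hdeg : a.1.totalDegree = 0 := (totalDegree_zero_iff_isHomogeneous (p := a.1)).2 a.2
  obtain ⟨c₀, hc₀⟩ : ∃ c₀ : K, a.1 = C c₀ := ⟨_, totalDegree_eq_zero_iff_eq_C.mp hdeg⟩
  have hc0 : c₀ ≠ 0 := by
    intro h0
    apply hj
    rw [← he, ha]
    exact mulHom_eq_zero _ a (by rw [hc₀, h0, map_zero]) _ _ _
  let b' : 𝒜 (m + 1) K 0 := ⟨C c₀⁻¹, isHomogeneous_C _ _⟩
  have hab : b'.1 * a.1 = 1 := by
    change C c₀⁻¹ * a.1 = 1
    rw [hc₀, ← C_mul, inv_mul_cancel₀ hc0, C_1]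
  refine ⟨mulHom (𝒜 (m + 1) K) b' (-((m : ℤ) + 2)) (-((m : ℤ) + 2)) (by simp) ≫
    Sigma.ι (fun _ : Fin b => Twist.twistProjSpace (m + 1) K (-((m : ℤ) + 2))) j ≫ π, φ, ?_⟩
  have hcomp : mulHom (𝒜 (m + 1) K) b' (-((m : ℤ) + 2)) (-((m : ℤ) + 2)) (by simp) ≫ e = 𝟙 _ := by
    rw [ha]
    exact mulHom_comp_eq_id _ b' a hab _ _ _ _
  rw [he] at hcomp
  simp only [Category.assoc]
  exact hcomp

end split

section split2


lemma nonempty_tw_neg_iso (n : ℕ) (R : Type u) [CommRing R] (F : (CohB1.ProjSpace n R).Modules)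
    (c : ℤ) : Nonempty (tw n R (tw n R F c) (-c) ≅ F) := by
  obtain ⟨e1⟩ := nonempty_tw_tw_iso n R F c (-c)
  obtain ⟨e0⟩ := nonempty_tw_zero_iso n R F
  exact ⟨e1 ≪≫ eqToIso (congrArg (tw n R F) (add_neg_cancel c)) ≪≫ e0⟩

lemma nonempty_tw_twist_iso (n : ℕ) (R : Type u) [CommRing R] (a j b : ℤ) (h : a + j = b) :
    Nonempty (tw n R (Twist.twistProjSpace n R a) j ≅ Twist.twistProjSpace n R b) := by
  subst h
  exact nonempty_twist_tensor_iso n R a j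

lemma exists_split_of_tw (n : ℕ) (R : Type u) [CommRing R]
    {W G W' G' : (CohB1.ProjSpace n R).Modules} (c : ℤ) (s : W ⟶ G) (φ : G ⟶ W)
    (h : s ≫ φ = 𝟙 W) (eW : tw n R W c ≅ W') (eG : tw n R G c ≅ G') :
    ∃ (s' : W' ⟶ G') (φ' : G' ⟶ W'), s' ≫ φ' = 𝟙 W' := by
  obtain ⟨a, ha⟩ : ∃ a : tw n R W c ⟶ tw n R G c,
      a = (tensorRight (Twist.twistProjSpace n R c)).map s := ⟨_, rfl⟩
  obtain ⟨b, hb⟩ : ∃ b : tw n R G c ⟶ tw n R W c,
      b = (tensorRight (Twist.twistProjSpace n R c)).map φ := ⟨_, rfl⟩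
  have hab : a ≫ b = 𝟙 _ := by
    subst ha hb
    exact ((tensorRight (Twist.twistProjSpace n R c)).map_comp s φ).symm.trans
      ((congrArg (fun f => (tensorRight (Twist.twistProjSpace n R c)).map f) h).trans
        ((tensorRight (Twist.twistProjSpace n R c)).map_id W))
  refine ⟨eW.inv ≫ a ≫ eG.hom, eG.inv ≫ b ≫ eW.hom, ?_⟩
  rw [Category.assoc, Category.assoc, Iso.hom_inv_id_assoc, reassoc_of% hab, Iso.inv_hom_id]

variable (m : ℕ) (K : Type u) [Field K]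

/-- The splitting step of Horrocks' criterion. -/
theorem exists_split
    (t : Coh.HH (CohB1.ProjSpace (m + 1) K)
      (Twist.twistProjSpace (m + 1) K (-((m : ℤ) + 2))) (m + 1) ≃ₗ[K] K)
    (F : (CohB1.ProjSpace (m + 1) K).Modules) (hF : Coh.IsCoh F) (m₀ : ℤ)
    (hreg : Reg m K F m₀)
    (hne : ¬ Subsingleton (Coh.HH (CohB1.ProjSpace (m + 1) K)
      (tw (m + 1) K F (m₀ - 1 - ((m + 1 : ℕ) : ℤ))) (m + 1))) :
    ∃ (s : Twist.twistProjSpace (m + 1) K (-m₀) ⟶ F)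
      (φ : F ⟶ Twist.twistProjSpace (m + 1) K (-m₀)), s ≫ φ = 𝟙 _ := by
  obtain ⟨c, hc⟩ : ∃ c : ℤ, c = m₀ - 1 - ((m + 1 : ℕ) : ℤ) := ⟨_, rfl⟩
  rw [← hc] at hne
  have hG : Coh.IsCoh (tw (m + 1) K F c) := isCoh_tw (m + 1) K F hF c
  have hregG : ∀ r : ℤ, (m : ℤ) + 2 ≤ r → ∀ p : ℕ, 1 ≤ p → p ≤ m + 1 →
      Subsingleton (Coh.HH (CohB1.ProjSpace (m + 1) K)
        (tw (m + 1) K (tw (m + 1) K F c) (r - p)) p) := by
    intro r hr p hp1 hpm
    obtain ⟨e'⟩ := nonempty_tw_tw_iso (m + 1) K F c (r - p)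
    refine subsingleton_HH_of_iso e'.symm p ?_
    have hcr : c + (r - (p : ℤ)) = (c + r) - p := by ring
    rw [hcr]
    exact hreg (c + r) (by rw [hc]; push_cast; omega) p hp1 hpm
  obtain ⟨s, φ, hsφ⟩ := exists_section_of_top_ne m K t (tw (m + 1) K F c) hG hregG hne
  obtain ⟨e1⟩ := nonempty_tw_neg_iso (m + 1) K F c
  obtain ⟨eω⟩ := nonempty_tw_twist_iso (m + 1) K (-((m : ℤ) + 2)) (-c) (-m₀)
    (by rw [hc]; push_cast; ring)
  exact exists_split_of_tw (m + 1) K (-c) s φ hsφ eω e1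

end split2

end Groth.Agent.Lib.Lead.SD
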