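import Groth.Agent.Lib.Lead.SD.PZero

/-!
# Horrocks' criterion for locally free modules of rank `r` on `P^n_k` (all `n`)
-/

set_option autoImplicit false

universe u

open CategoryTheory CategoryTheory.Limits AlgebraicGeometry Opposite TopologicalSpace MvPolynomial

namespace Groth.Agent.Lib.Lead.SD

open Groth.Agent.Lib.Lead.LinLES Groth.Agent.Lib.Lead.Pn Groth.Agent.Lib.Lead.Koszul
open Groth.Agent.Lib.Helper29.QCoh Groth.Agent.Lib.Lead.TwistExact

variable (k : Type u) [Field k]

theorem exists_splitting_projSpace_zero (r : ℕ) (E : (CohB1.ProjSpace 0 k).Modules)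
    (hE : FlatMod.IsFinLocFreeOfRank r E) :
    ∃ a : Fin r → ℤ, Nonempty (E ≅ ∐ fun j : Fin r => Twist.twistProjSpace 0 k (a j)) := by
  haveI : Nonempty (CohB1.ProjSpace 0 k) := (isIntegral_projSpace' 0 k).nonempty
  obtain ⟨e⟩ := nonempty_iso_freeMod_of_subsingleton hE
  obtain ⟨e0⟩ := nonempty_unit_iso_twist_zero (CohB1.polyGrading 0 k)
  exact ⟨fun _ => 0, ⟨e ≪≫ Sigma.mapIso (fun _ : Fin r => e0)⟩⟩

theorem horrocks_criterion (n r : ℕ) (E : (CohB1.ProjSpace n k).Modules)
    (hE : FlatMod.IsFinLocFreeOfRank r E) :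
    (∃ a : Fin r → ℤ, Nonempty (E ≅ ∐ fun j : Fin r => Twist.twistProjSpace n k (a j))) ↔
      ∀ (i : ℕ) (d : ℤ), 0 < i → i < n →
        Subsingleton (Coh.HH (CohB1.ProjSpace n k)
          (CohB1.tensorMod E (Twist.twistProjSpace n k d)) i) := by
  rcases Nat.eq_zero_or_pos n with hn | hn
  · subst hn
    constructor
    · intro _ i d _ hi
      exact absurd hi (Nat.not_lt_zero i)
    · intro _
      exact exists_splitting_projSpace_zero k r E hE
  · obtain ⟨m, rfl⟩ : ∃ m, n = m + 1 := ⟨n - 1, by omega⟩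
    have hlf := isFinLocFree_of_isFinLocFreeOfRank hE
    constructor
    · rintro ⟨a, ⟨e⟩⟩ i d hi1 hin
      exact (horrocks_forward (m + 1) k (by omega) E r a e).2 d i hi1 hin
    · intro h
      obtain ⟨r', a, ⟨e⟩⟩ := (horrocks m k E (isCoh_of_isFinLocFree hlf)).2
        ⟨exists_forall_le_subsingleton_HH_zero (m + 1) k (by omega) E hlf,
          fun j i h1 h2 => h i j h1 h2⟩
      haveI : Nonempty (CohB1.ProjSpace (m + 1) k) := (isIntegral_projSpace' (m + 1) k).nonempty
      have hr : r' = r := rank_unique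
        (isFinLocFreeOfRank_of_iso e.symm (isFinLocFreeOfRank_sigma_of_isInvertible _
          (fun j => twist_isInvertible (m + 1) k (a j)))) hE
      subst hr
      exact ⟨a, ⟨e⟩⟩

end Groth.Agent.Lib.Lead.SD
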