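import Groth.Agent.Lib.Lead.SD.RegComplex
import Groth.Agent.Lib.Lead.SD.CMEquiv
import Groth.Agent.Lib.Helper25.PnEuler
import Groth.Agent.Lib.Helper25.HypCoh1
import Groth.Agent.Lib.Helper18.ZeroDim
import Groth.Agent.Lib.Helper18.InvStalk
import Groth.Agent.Helper19.ClImmSupp
import Groth.Agent.Lib.Helper12.Dev7
import Groth.Agent.Lib.Helper29.PullTensor

/-!
# Cohomology of `O_X(n)` for a hypersurface `X ⊆ P^N_F`

`I` is a quasi-coherent ideal of `P = P^N_F` whose module `I` is isomorphic to `O(-k)`.  We twist the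
ideal sheaf sequence `0 → I → O → O/I → 0` by `O(n)` and read off the cohomology of `(O/I)(n)` from
that of `O(n-k)` and `O(n)`; the only non-formal input is `H^N(P, (O/I)(n)) = 0`, which holds because
the support of `O/I` misses the generic point (the stalk of `I ≅ O(-k)` there is a non-zero ideal of
the function field), hence has dimension `< N`.
-/

set_option autoImplicit false

universe u

open CategoryTheory CategoryTheory.Limits AlgebraicGeometry Opposite TopologicalSpace

namespace Groth.Agent.Lib.Lead.SD.HypCohom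

open Groth.Agent.Lib.Lead.Pn Groth.Agent.Lib.Lead.TwistExact Groth.Agent.Lib.Helper29.QCoh
open Groth.Agent.Lib.Lead.LinLES Groth.Agent.Lib.Helper12.H12Dev

section Generic

variable {X : Scheme.{u}} [IsIntegral X] (I : X.IdealSheafData)

/-- If the ideal module of `I` is invertible, the closed subscheme defined by `I` misses the generic
point. -/
theorem genericPoint_notMem_range (hJ : PicF.IsInvertible (ClSub.idealMod I)) :
    genericPoint X ∉ Set.range I.subschemeι := by
  obtain ⟨tA, htA⟩ := Groth.Agent.Lib.Helper18.InvStalk.exists_generator hJ (genericPoint X)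
  have hfreeA := Groth.Agent.Lib.Helper18.InvStalk.free_of_generator hJ (genericPoint X) tA htA
  obtain ⟨tB, htB⟩ := Groth.Agent.Lib.Helper18.InvStalk.exists_generator (isInvertible_unit X)
    (genericPoint X)
  have hfinj : Function.Injective (RefHull.stalkMapₗ (ClSub.idealModι I) (genericPoint X)) :=
    (mono_iff_stalkMap_injective (ClSub.idealModι I)).mp inferInstance (genericPoint X)
  have hmem : RefHull.stalkMapₗ (ClSub.idealModι I) (genericPoint X) tA ∈
      Submodule.span (X.presheaf.stalk (genericPoint X)) {tB} := by rw [htB]; trivial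
  obtain ⟨r, hr⟩ := Submodule.mem_span_singleton.mp hmem
  have hr0 : r ≠ 0 := by
    rintro rfl
    rw [zero_smul] at hr
    have h0 : tA = 0 := hfinj (by rw [← hr, map_zero])
    have h1 : (1 : X.presheaf.stalk (genericPoint X)) = 0 :=
      hfreeA 1 (by rw [h0, smul_zero])
    exact one_ne_zero h1
  have hunit : IsUnit r := by
    letI : Field (X.presheaf.stalk (genericPoint X)) := inferInstanceAs (Field X.functionField)
    exact IsUnit.mk0 r hr0
  obtain ⟨v, rfl⟩ := hunit
  have hsurj : Function.Surjective (RefHull.stalkMapₗ (ClSub.idealModι I) (genericPoint X)) := by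
    intro b
    have hb : b ∈ Submodule.span (X.presheaf.stalk (genericPoint X)) {tB} := by rw [htB]; trivial
    obtain ⟨s, rfl⟩ := Submodule.mem_span_singleton.mp hb
    refine ⟨(s * ((v⁻¹ : (X.presheaf.stalk (genericPoint X))ˣ) :
      X.presheaf.stalk (genericPoint X))) • tA, ?_⟩
    rw [map_smul, ← hr, smul_smul, mul_assoc, Units.inv_mul, mul_one]
  have hQ : Subsingleton ((ClSub.quotMod I).presheaf.stalk (genericPoint X)) := by
    have hg := (epi_iff_stalkMap_surjective (ClSub.toSubscheme I)).mp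
      (Groth.Agent.Lib.Helper25.HypTwist.epi_toSubscheme I) (genericPoint X)
    have key : ∀ t : (ClSub.quotMod I).presheaf.stalk (genericPoint X), t = 0 := by
      intro t
      obtain ⟨b, rfl⟩ := hg t
      obtain ⟨a, rfl⟩ := hsurj b
      rw [Groth.Agent.Lib.Helper12.H12Dev.stalkMapₗ_apply, ← stalkMap_comp_apply]
      have hc : ClSub.idealModι I ≫ ClSub.toSubscheme I = 0 := kernel.condition _
      rw [hc, stalkMap_zero_apply]
    exact ⟨fun a b => by rw [key a, key b]⟩
  rintro ⟨z, hz⟩
  rw [← hz] at hQ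
  have h1 := (Groth.Agent.Helper19.ClImmSupp.subsingleton_stalk_pushforward_iff I.subschemeι
    (unitM I.subscheme) z).mp hQ
  haveI := nontrivial_stalk_unitM I.subscheme z
  exact not_subsingleton _ h1

end Generic

section Arith

theorem le_pred_of_add_one_le {x : WithBot ℕ∞} {N : ℕ} (hN : 1 ≤ N)
    (h : x + 1 ≤ (N : WithBot ℕ∞)) : x ≤ ((N - 1 : ℕ) : WithBot ℕ∞) := by
  induction x using WithBot.recBotCoe with
  | bot => exact bot_le
  | coe a =>
    induction a using ENat.recTopCoe with
    | top =>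
      exfalso
      have h' : ((⊤ : ℕ∞) : WithBot ℕ∞) + 1 = ((⊤ : ℕ∞) : WithBot ℕ∞) := by
        rw [← WithBot.coe_one, ← WithBot.coe_add, top_add]
      rw [h'] at h
      have : ((⊤ : ℕ∞) : WithBot ℕ∞) ≤ (((N : ℕ∞)) : WithBot ℕ∞) := h
      rw [WithBot.coe_le_coe] at this
      exact absurd this (by simp)
    | coe m =>
      have h' : ((m + 1 : ℕ) : WithBot ℕ∞) ≤ (N : WithBot ℕ∞) := by
        push_cast
        exact h
      have h'' : m + 1 ≤ N := by exact_mod_cast h'
      have h3 : (m : ℕ∞) ≤ ((N - 1 : ℕ) : ℕ∞) := by exact_mod_cast (show m ≤ N - 1 by omega)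
      exact WithBot.coe_le_coe.mpr h3

variable {k : Type u} [Field k] {A B C A' B' : Type u}
  [AddCommGroup A] [Module k A] [AddCommGroup B] [Module k B] [AddCommGroup C] [Module k C]
  [AddCommGroup A'] [Module k A'] [AddCommGroup B'] [Module k B']
  [Module.Finite k A] [Module.Finite k B] [Module.Finite k C] [Module.Finite k A']
  [Module.Finite k B']

theorem finrank_six (f : A →ₗ[k] B) (g : B →ₗ[k] C) (δ : C →ₗ[k] A') (f' : A' →ₗ[k] B')
    (hf : Function.Injective f) (h1 : Function.Exact f g) (h2 : Function.Exact g δ)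
    (h3 : Function.Exact δ f') (hf' : Function.Surjective f') :
    Module.finrank k C + Module.finrank k B' + Module.finrank k A =
        Module.finrank k A' + Module.finrank k B ∧
      Module.finrank k A ≤ Module.finrank k B ∧ Module.finrank k B' ≤ Module.finrank k A' := by
  have r1 := LinearMap.finrank_range_add_finrank_ker g
  have r2 := LinearMap.finrank_range_add_finrank_ker δ
  have r3 := LinearMap.finrank_range_add_finrank_ker f'
  have k1 : LinearMap.ker g = LinearMap.range f := LinearMap.exact_iff.mp h1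
  have k2 : LinearMap.ker δ = LinearMap.range g := LinearMap.exact_iff.mp h2
  have k3 : LinearMap.ker f' = LinearMap.range δ := LinearMap.exact_iff.mp h3
  have e1 : Module.finrank k (LinearMap.range f) = Module.finrank k A :=
    LinearMap.finrank_range_of_inj hf
  have e3 : Module.finrank k (LinearMap.range f') = Module.finrank k B' := by
    rw [LinearMap.range_eq_top.mpr hf', finrank_top]
  rw [k1, e1] at r1
  rw [k2] at r2
  rw [k3, e3] at r3
  refine ⟨by omega, by omega, by omega⟩

end Arith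

section Pn

variable (F : Type u) [Field F] (N : ℕ)

/-- `h^0(P^N, O(m)) = C(m + N, N)` for every integer `m`, `N ≥ 1`. -/
theorem h0_eq (hN : 1 ≤ N) (m : ℤ) :
    Module.finrank F (Coh.HH (CohB1.ProjSpace N F) (Twist.twistProjSpace N F m) 0) =
      Nat.choose (m + (N : ℤ)).toNat N := by
  rcases le_or_gt 0 m with hm | hm
  · obtain ⟨a, rfl⟩ := Int.eq_ofNat_of_zero_le hm
    rw [Groth.Agent.Lib.Helper25.PnEuler.finrank_HH_zero_nonneg]
    congr 1
  · rw [Groth.Agent.Lib.Helper25.PnEuler.finrank_HH_zero_neg F N hN m hm]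
    symm
    apply Nat.choose_eq_zero_of_lt
    omega

/-- `h^N(P^N, O(m)) = C(-m - 1, N)` for every integer `m`, `N ≥ 1`. -/
theorem hN_eq (hN : 1 ≤ N) (m : ℤ) :
    Module.finrank F (Coh.HH (CohB1.ProjSpace N F) (Twist.twistProjSpace N F m) N) =
      Nat.choose (-m - 1).toNat N := by
  rcases le_or_gt m (-((N : ℤ) + 1)) with hm | hm
  · obtain ⟨j, hj⟩ : ∃ j : ℕ, m = -((N : ℤ) + 1 + j) := ⟨(-m - (N : ℤ) - 1).toNat, by omega⟩
    subst hj
    rw [Groth.Agent.Lib.Helper25.PnEuler.finrank_HH_top]
    congr 1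
    omega
  · obtain ⟨q, rfl⟩ : ∃ q, N = q + 1 := ⟨N - 1, by omega⟩
    rw [Groth.Agent.Lib.Helper25.PnEuler.finrank_HH_succ_eq_zero F (q + 1) m q (Or.inr hm)]
    symm
    apply Nat.choose_eq_zero_of_lt
    omega

variable (I : (CohB1.ProjSpace N F).IdealSheafData)

theorem isCoh_quotMod : Coh.IsCoh (ClSub.quotMod I) := by
  haveI : (unitM (CohB1.ProjSpace N F)).IsFiniteType := (isCoh_unitM _).2
  haveI := Groth.Agent.Lib.Helper25.HypTwist.epi_toSubscheme I
  exact ⟨inferInstance, isFiniteType_of_epi (ClSub.toSubscheme I)⟩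

/-- `H^N(P^N, (O/I)(n)) = 0` when the ideal module `I` is invertible. -/
theorem subsingleton_HH_top_quot (hN : 1 ≤ N) (hJ : PicF.IsInvertible (ClSub.idealMod I))
    (n : ℤ) :
    Subsingleton (Coh.HH (CohB1.ProjSpace N F)
      (CohB1.tensorMod (ClSub.quotMod I) (Twist.twistProjSpace N F n)) N) := by
  haveI : IsIntegral (CohB1.ProjSpace N F) :=
    inferInstanceAs (IsIntegral (Proj (CohB1.polyGrading N F)))
  haveI : IsNoetherian (Proj (CohB1.polyGrading N F)) :=
    Groth.Agent.S2357.result (CohB1.polyGrading N F)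
  haveI : IsNoetherian (CohB1.ProjSpace N F) :=
    inferInstanceAs (IsNoetherian (Proj (CohB1.polyGrading N F)))
  have hη := genericPoint_notMem_range I hJ
  have hint : interior (Set.range I.subschemeι) = ∅ := by
    by_contra hne
    have hne' : (interior (Set.range I.subschemeι)).Nonempty := Set.nonempty_iff_ne_empty.mpr hne
    have hmemη : genericPoint (CohB1.ProjSpace N F) ∈ interior (Set.range I.subschemeι) := by
      rw [(genericPoint_spec (CohB1.ProjSpace N F)).mem_open_set_iff isOpen_interior]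
      simpa using hne'
    exact hη (interior_subset hmemη)
  have hcl : IsClosed (Set.range I.subschemeι) := I.subschemeι.isClosedEmbedding.isClosed_range
  have hd1 := Groth.Agent.Lib.Helper18.ZeroDim.topologicalKrullDim_add_one_le_of_nowhereDense
    (Set.range I.subschemeι) hcl hint
  have hd2 := Groth.Agent.Lib.Lead.SD.CMEquiv.topologicalKrullDim_projSpace_le F N
  have hmem : ∀ z, I.subschemeι z ∈ Set.range I.subschemeι := fun z => ⟨z, rfl⟩
  have hind : Topology.IsInducing (Set.codRestrict I.subschemeι (Set.range I.subschemeι) hmem) :=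
    I.subschemeι.isClosedEmbedding.isInducing.codRestrict hmem
  have hdZ : topologicalKrullDim ↥I.subscheme ≤ ((N - 1 : ℕ) : WithBot ℕ∞) :=
    le_pred_of_add_one_le hN
      ((add_le_add hind.topologicalKrullDim_le le_rfl).trans (hd1.trans hd2))
  have hcoh : Coh.IsCoh (CohB1.tensorMod (ClSub.quotMod I) (Twist.twistProjSpace N F n)) :=
    Groth.Agent.Lib.Lead.SD.RegComplex.isCoh_tw F N _ (isCoh_quotMod F N I) n
  have hsupp : CohB1.support (CohB1.tensorMod (ClSub.quotMod I) (Twist.twistProjSpace N F n)) ⊆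
      Set.range I.subschemeι := by
    refine (Groth.Agent.Lib.Helper25.SuppTensor.support_tensorMod_subset _ _).trans ?_
    change CohB1.support ((Scheme.Modules.pushforward I.subschemeι).obj (unitM I.subscheme)) ⊆ _
    rw [Groth.Agent.Helper19.ClImmSupp.support_pushforward]
    exact Set.image_subset_range _ _
  refine Groth.Agent.Lib.Helper18.CZ1.subsingleton_HH_of_support I.subschemeι N ?_ _ hcoh hsupp
  intro G _
  haveI : NoetherianSpace ↥I.subscheme :=
    I.subschemeι.isClosedEmbedding.isInducing.noetherianSpace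
  haveI : NoetherianSpace ↑I.subscheme.toTopCat :=
    (inferInstance : NoetherianSpace ↥I.subscheme)
  exact Groth.Agent.S0458.result (X := I.subscheme.toTopCat) (N - 1) hdZ (Coh.toAb G) N (by omega)

end Pn

section Main

variable (F : Type u) [Field F] (N : ℕ) (I : (CohB1.ProjSpace N F).IdealSheafData)

/-- The ideal sheaf sequence twisted by `O(n)`. -/
noncomputable abbrev twSeq (n : ℤ) : ShortComplex (CohB1.ProjSpace N F).Modules :=
  (Groth.Agent.Lib.Helper25.HypTwist.idealSeq I).map (tensorRight (Twist.twistProjSpace N F n))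

lemma twSeq_shortExact (n : ℤ) : (twSeq F N I n).ShortExact :=
  shortExact_map_tw N F _ (Groth.Agent.Lib.Helper25.HypTwist.shortExact_idealSeq I) n

variable {k : ℕ} (e : ClSub.idealMod I ≅ Twist.twistProjSpace N F (-(k : ℤ)))

/-- `I(n) ≅ O(n - k)`. -/
noncomputable def iso₁ (n : ℤ) :
    (twSeq F N I n).X₁ ≅ Twist.twistProjSpace N F (-(k : ℤ) + n) :=
  tensorCongr e (Iso.refl _) ≪≫ (nonempty_twist_tensor_iso N F (-(k : ℤ)) n).some

/-- `O ⊗ O(n) ≅ O(n)`. -/
noncomputable def iso₂ (n : ℤ) : (twSeq F N I n).X₂ ≅ Twist.twistProjSpace N F n :=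
  tensorUnitL _

include e in
lemma isCoh_X (n : ℤ) : Coh.IsCoh (twSeq F N I n).X₁ ∧ Coh.IsCoh (twSeq F N I n).X₂ ∧
    Coh.IsCoh (twSeq F N I n).X₃ := by
  refine ⟨?_, ?_, ?_⟩
  · exact Groth.Agent.Lib.Lead.SD.RegComplex.isCoh_tw F N _
      (isCoh_of_iso e.symm (isCoh_twist N F _)) n
  · exact Groth.Agent.Lib.Lead.SD.RegComplex.isCoh_tw F N _ (isCoh_unitM _) n
  · exact Groth.Agent.Lib.Lead.SD.RegComplex.isCoh_tw F N _ (isCoh_quotMod F N I) n

include e in
lemma subsingleton_X₁ (n : ℤ) (q : ℕ)
    (h : Subsingleton (Coh.HH (CohB1.ProjSpace N F) (Twist.twistProjSpace N F (-(k : ℤ) + n)) q)) :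
    Subsingleton (Coh.HH (CohB1.ProjSpace N F) (twSeq F N I n).X₁ q) :=
  subsingleton_HH_of_iso (iso₁ F N I e n).symm q h

lemma subsingleton_X₂ (n : ℤ) (q : ℕ)
    (h : Subsingleton (Coh.HH (CohB1.ProjSpace N F) (Twist.twistProjSpace N F n) q)) :
    Subsingleton (Coh.HH (CohB1.ProjSpace N F) (twSeq F N I n).X₂ q) :=
  subsingleton_HH_of_iso (iso₂ F N I n).symm q h

include e in
lemma finrank_X₁ (n : ℤ) (q : ℕ) :
    Module.finrank F (Coh.HH (CohB1.ProjSpace N F) (twSeq F N I n).X₁ q) =
      Module.finrank F (Coh.HH (CohB1.ProjSpace N F)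
        (Twist.twistProjSpace N F (-(k : ℤ) + n)) q) :=
  (Groth.Agent.Lib.Lead.Koszul.HHlinEquiv F (iso₁ F N I e n) q).finrank_eq

lemma finrank_X₂ (n : ℤ) (q : ℕ) :
    Module.finrank F (Coh.HH (CohB1.ProjSpace N F) (twSeq F N I n).X₂ q) =
      Module.finrank F (Coh.HH (CohB1.ProjSpace N F) (Twist.twistProjSpace N F n) q) :=
  (Groth.Agent.Lib.Lead.Koszul.HHlinEquiv F (iso₂ F N I n) q).finrank_eq

include e in
/-- Vanishing of `H^p((O/I)(n))` for `p ≥ N`. -/
theorem subsingleton_HH_quot_of_ge (hN : 1 ≤ N) (n : ℤ) (p : ℕ) (hp : N ≤ p) :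
    Subsingleton (Coh.HH (CohB1.ProjSpace N F) (twSeq F N I n).X₃ p) := by
  rcases Nat.eq_or_lt_of_le hp with rfl | hlt
  · exact subsingleton_HH_top_quot F N I hN
      (isInvertible_of_iso e.symm (isInvertible_twistProjSpace N F _)) n
  · haveI : Coh.IsQCoh (tw N F (ClSub.quotMod I) n) :=
      (inferInstance : (tw N F (ClSub.quotMod I) n).IsQuasicoherent)
    exact Groth.Agent.S0022.result N F (tw N F (ClSub.quotMod I) n) p hlt

include e in
/-- Vanishing of `H^p((O/I)(n))` for `1 ≤ p ≤ N - 2`. -/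
theorem subsingleton_HH_quot_of_mid (n : ℤ) (p : ℕ) (hp : 1 ≤ p) (hpN : p + 1 < N) :
    Subsingleton (Coh.HH (CohB1.ProjSpace N F) (twSeq F N I n).X₃ p) := by
  obtain ⟨q, rfl⟩ : ∃ q, p = q + 1 := ⟨p - 1, by omega⟩
  refine subsingleton_HH_X₃ (twSeq F N I n) (twSeq_shortExact F N I n) (q + 1) ?_ ?_
  · exact subsingleton_X₂ F N I n _
      (subsingleton_HH_succ (n := N) (R := F) (d := n) q (Or.inl (by omega)))
  · exact subsingleton_X₁ F N I e n _
      (subsingleton_HH_succ (n := N) (R := F) (d := -(k : ℤ) + n) (q + 1) (Or.inl (by omega)))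

include e in
/-- The relation between the dimensions in a six-term piece of the long exact sequence. -/
theorem finrank_rel (n : ℤ) (q : ℕ)
    (hinj : Function.Injective (Canon.HHlin F (twSeq F N I n).f q))
    (hsurj : Function.Surjective (Canon.HHlin F (twSeq F N I n).f (q + 1))) :
    Module.finrank F (Coh.HH (CohB1.ProjSpace N F) (twSeq F N I n).X₃ q) +
        Module.finrank F (Coh.HH (CohB1.ProjSpace N F) (Twist.twistProjSpace N F n) (q + 1)) +
        Module.finrank F (Coh.HH (CohB1.ProjSpace N F)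
          (Twist.twistProjSpace N F (-(k : ℤ) + n)) q) =
      Module.finrank F (Coh.HH (CohB1.ProjSpace N F)
          (Twist.twistProjSpace N F (-(k : ℤ) + n)) (q + 1)) +
        Module.finrank F (Coh.HH (CohB1.ProjSpace N F) (Twist.twistProjSpace N F n) q) ∧
      Module.finrank F (Coh.HH (CohB1.ProjSpace N F)
          (Twist.twistProjSpace N F (-(k : ℤ) + n)) q) ≤
        Module.finrank F (Coh.HH (CohB1.ProjSpace N F) (Twist.twistProjSpace N F n) q) ∧
      Module.finrank F (Coh.HH (CohB1.ProjSpace N F) (Twist.twistProjSpace N F n) (q + 1)) ≤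
        Module.finrank F (Coh.HH (CohB1.ProjSpace N F)
          (Twist.twistProjSpace N F (-(k : ℤ) + n)) (q + 1)) := by
  obtain ⟨c1, c2, c3⟩ := isCoh_X F N I e n
  haveI := module_finite_HH_of_isCoh N F _ c1 q
  haveI := module_finite_HH_of_isCoh N F _ c2 q
  haveI := module_finite_HH_of_isCoh N F _ c3 q
  haveI := module_finite_HH_of_isCoh N F _ c1 (q + 1)
  haveI := module_finite_HH_of_isCoh N F _ c2 (q + 1)
  have hS := twSeq_shortExact F N I n
  have h := finrank_six (Canon.HHlin F (twSeq F N I n).f q) (Canon.HHlin F (twSeq F N I n).g q)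
    (δlin F (twSeq F N I n) hS q) (Canon.HHlin F (twSeq F N I n).f (q + 1)) hinj
    (exact₂ F (twSeq F N I n) hS q) (exact₃ F (twSeq F N I n) hS q)
    (exact₁ F (twSeq F N I n) hS q) hsurj
  rw [finrank_X₁ F N I e n q, finrank_X₁ F N I e n (q + 1), finrank_X₂ F N I n q,
    finrank_X₂ F N I n (q + 1)] at h
  exact h

lemma injective_HHlin_zero (n : ℤ) :
    Function.Injective (Canon.HHlin F (twSeq F N I n).f 0) := by
  have : Mono (abMap (twSeq F N I n).f) :=
    (abS_shortExact (twSeq F N I n) (twSeq_shortExact F N I n)).mono_f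
  exact Abelian.Ext.postcomp_mk₀_injective_of_mono _ (abMap (twSeq F N I n).f)

lemma surjective_HHlin_of_subsingleton (n : ℤ) (q : ℕ)
    (h : Subsingleton (Coh.HH (CohB1.ProjSpace N F) (twSeq F N I n).X₃ q)) :
    Function.Surjective (Canon.HHlin F (twSeq F N I n).f q) := by
  intro b
  exact ((exact₂ F (twSeq F N I n) (twSeq_shortExact F N I n) q) b).mp (Subsingleton.elim _ _)

end Main

end Groth.Agent.Lib.Lead.SD.HypCohom
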