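import Groth.Agent.Lib.Lead.SD.HypCohom

/-!
# Cohomology of `O_X(n)` for a hypersurface `X ⊆ P^N_F`: the numerical statements
-/

set_option autoImplicit false

universe u

open CategoryTheory CategoryTheory.Limits AlgebraicGeometry Opposite TopologicalSpace

namespace Groth.Agent.Lib.Lead.SD.HypCohom

open Groth.Agent.Lib.Lead.Pn Groth.Agent.Lib.Lead.TwistExact Groth.Agent.Lib.Helper29.QCoh
open Groth.Agent.Lib.Lead.LinLES Groth.Agent.Lib.Helper12.H12Dev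

variable (F : Type u) [Field F]

/-- Hypersurfaces of degree `k` in `P^{d+1}`, `d ≥ 1`. -/
theorem hypersurface (d k : ℕ) (hd : 1 ≤ d) (I : (CohB1.ProjSpace (d + 1) F).IdealSheafData)
    (hI : Nonempty (ClSub.idealMod I ≅ Twist.twistProjSpace (d + 1) F (-(k : ℤ)))) (n : ℤ) :
    (∀ p : ℕ, p ≠ 0 → p ≠ d →
      Subsingleton (Coh.HH (CohB1.ProjSpace (d + 1) F)
        (CohB1.tensorMod (ClSub.quotMod I) (Twist.twistProjSpace (d + 1) F n)) p)) ∧
    (Module.Finite F (Coh.HH (CohB1.ProjSpace (d + 1) F)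
        (CohB1.tensorMod (ClSub.quotMod I) (Twist.twistProjSpace (d + 1) F n)) 0) ∧
      Module.finrank F (Coh.HH (CohB1.ProjSpace (d + 1) F)
        (CohB1.tensorMod (ClSub.quotMod I) (Twist.twistProjSpace (d + 1) F n)) 0) =
        (Nat.choose (n + ((d : ℤ) + 1)).toNat (d + 1) -
          Nat.choose (n - (k : ℤ) + ((d : ℤ) + 1)).toNat (d + 1))) ∧
    (Module.Finite F (Coh.HH (CohB1.ProjSpace (d + 1) F)
        (CohB1.tensorMod (ClSub.quotMod I) (Twist.twistProjSpace (d + 1) F n)) d) ∧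
      Module.finrank F (Coh.HH (CohB1.ProjSpace (d + 1) F)
        (CohB1.tensorMod (ClSub.quotMod I) (Twist.twistProjSpace (d + 1) F n)) d) =
        (Nat.choose (((k : ℤ) - 2 - (d : ℤ) - n) + ((d : ℤ) + 1)).toNat (d + 1) -
          Nat.choose (((k : ℤ) - 2 - (d : ℤ) - n) - (k : ℤ) + ((d : ℤ) + 1)).toNat (d + 1))) := by
  obtain ⟨e⟩ := hI
  have hN : 1 ≤ d + 1 := by omega
  obtain ⟨c1, c2, c3⟩ := isCoh_X F (d + 1) I e n
  refine ⟨?_, ⟨module_finite_HH_of_isCoh (d + 1) F _ c3 0, ?_⟩,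
    ⟨module_finite_HH_of_isCoh (d + 1) F _ c3 d, ?_⟩⟩
  · intro p hp0 hpd
    rcases lt_or_gt_of_ne hpd with hlt | hgt
    · exact subsingleton_HH_quot_of_mid F (d + 1) I e n p (by omega) (by omega)
    · exact subsingleton_HH_quot_of_ge F (d + 1) I e hN n p (by omega)
  · -- `H^0`
    have hsurj : Function.Surjective (Canon.HHlin F (twSeq F (d + 1) I n).f (0 + 1)) := by
      intro b
      haveI : Subsingleton (Coh.HH (CohB1.ProjSpace (d + 1) F) (twSeq F (d + 1) I n).X₂ (0 + 1)) :=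
        subsingleton_X₂ F (d + 1) I n _
          (subsingleton_HH_succ (n := d + 1) (R := F) (d := n) 0 (Or.inl (by omega)))
      exact ⟨0, Subsingleton.elim _ _⟩
    obtain ⟨h1, h2, -⟩ := finrank_rel F (d + 1) I e n 0 (injective_HHlin_zero F (d + 1) I n) hsurj
    have z1 : Module.finrank F (Coh.HH (CohB1.ProjSpace (d + 1) F)
        (Twist.twistProjSpace (d + 1) F n) (0 + 1)) = 0 :=
      Groth.Agent.Lib.Helper25.PnEuler.finrank_HH_succ_eq_zero F (d + 1) n 0 (Or.inl (by omega))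
    have z2 : Module.finrank F (Coh.HH (CohB1.ProjSpace (d + 1) F)
        (Twist.twistProjSpace (d + 1) F (-(k : ℤ) + n)) (0 + 1)) = 0 :=
      Groth.Agent.Lib.Helper25.PnEuler.finrank_HH_succ_eq_zero F (d + 1) _ 0 (Or.inl (by omega))
    rw [z1, z2, h0_eq F (d + 1) hN, h0_eq F (d + 1) hN] at h1
    rw [h0_eq F (d + 1) hN, h0_eq F (d + 1) hN] at h2
    have a1 : (-(k : ℤ) + n + ((d + 1 : ℕ) : ℤ)) = n - (k : ℤ) + ((d : ℤ) + 1) := by
      push_cast; ring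
    have a2 : (n + ((d + 1 : ℕ) : ℤ)) = n + ((d : ℤ) + 1) := by push_cast; ring
    rw [a1, a2] at h1 h2
    change Module.finrank F (Coh.HH (CohB1.ProjSpace (d + 1) F) (twSeq F (d + 1) I n).X₃ 0) = _
    omega
  · -- `H^d`
    obtain ⟨q, rfl⟩ : ∃ q, d = q + 1 := ⟨d - 1, by omega⟩
    have hinj : Function.Injective (Canon.HHlin F (twSeq F (q + 1 + 1) I n).f (q + 1)) := by
      haveI : Subsingleton (Coh.HH (CohB1.ProjSpace (q + 1 + 1) F)
          (twSeq F (q + 1 + 1) I n).X₁ (q + 1)) :=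
        subsingleton_X₁ F (q + 1 + 1) I e n _
          (subsingleton_HH_succ (n := q + 1 + 1) (R := F) (d := -(k : ℤ) + n) q
            (Or.inl (by omega)))
      intro a b _
      exact Subsingleton.elim _ _
    have hsurj := surjective_HHlin_of_subsingleton F (q + 1 + 1) I n (q + 1 + 1)
      (subsingleton_HH_quot_of_ge F (q + 1 + 1) I e hN n (q + 1 + 1) le_rfl)
    obtain ⟨h1, -, h3⟩ := finrank_rel F (q + 1 + 1) I e n (q + 1) hinj hsurj
    have z1 : Module.finrank F (Coh.HH (CohB1.ProjSpace (q + 1 + 1) F)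
        (Twist.twistProjSpace (q + 1 + 1) F n) (q + 1)) = 0 :=
      Groth.Agent.Lib.Helper25.PnEuler.finrank_HH_succ_eq_zero F (q + 1 + 1) n q
        (Or.inl (by omega))
    have z2 : Module.finrank F (Coh.HH (CohB1.ProjSpace (q + 1 + 1) F)
        (Twist.twistProjSpace (q + 1 + 1) F (-(k : ℤ) + n)) (q + 1)) = 0 :=
      Groth.Agent.Lib.Helper25.PnEuler.finrank_HH_succ_eq_zero F (q + 1 + 1) _ q
        (Or.inl (by omega))
    rw [z1, z2, hN_eq F (q + 1 + 1) hN, hN_eq F (q + 1 + 1) hN] at h1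
    rw [hN_eq F (q + 1 + 1) hN, hN_eq F (q + 1 + 1) hN] at h3
    have a1 : (-(-(k : ℤ) + n) - 1) =
        ((k : ℤ) - 2 - ((q + 1 : ℕ) : ℤ) - n) + ((((q + 1 : ℕ) : ℤ)) + 1) := by
      push_cast; ring
    have a2 : (-n - 1) =
        ((k : ℤ) - 2 - ((q + 1 : ℕ) : ℤ) - n) - (k : ℤ) + ((((q + 1 : ℕ) : ℤ)) + 1) := by
      push_cast; ring
    rw [a1, a2] at h1 h3
    change Module.finrank F (Coh.HH (CohB1.ProjSpace (q + 1 + 1) F)
      (twSeq F (q + 1 + 1) I n).X₃ (q + 1)) = _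
    omega

/-- Degree `k` subschemes of `P^1`. -/
theorem points_on_line (k : ℕ) (I : (CohB1.ProjSpace 1 F).IdealSheafData)
    (hI : Nonempty (ClSub.idealMod I ≅ Twist.twistProjSpace 1 F (-(k : ℤ)))) (n : ℤ) :
    (Module.Finite F (Coh.HH (CohB1.ProjSpace 1 F)
        (CohB1.tensorMod (ClSub.quotMod I) (Twist.twistProjSpace 1 F n)) 0) ∧
      Module.finrank F (Coh.HH (CohB1.ProjSpace 1 F)
        (CohB1.tensorMod (ClSub.quotMod I) (Twist.twistProjSpace 1 F n)) 0) =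
        (Nat.choose (n + 1).toNat 1 - Nat.choose (n - (k : ℤ) + 1).toNat 1) +
        (Nat.choose ((k : ℤ) - 2 - n + 1).toNat 1 -
          Nat.choose ((k : ℤ) - 2 - n - (k : ℤ) + 1).toNat 1)) ∧
    (∀ p : ℕ, 1 ≤ p →
      Subsingleton (Coh.HH (CohB1.ProjSpace 1 F)
        (CohB1.tensorMod (ClSub.quotMod I) (Twist.twistProjSpace 1 F n)) p)) := by
  obtain ⟨e⟩ := hI
  have hN : 1 ≤ 1 := le_rfl
  obtain ⟨c1, c2, c3⟩ := isCoh_X F 1 I e n
  refine ⟨⟨module_finite_HH_of_isCoh 1 F _ c3 0, ?_⟩, fun p hp =>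
    subsingleton_HH_quot_of_ge F 1 I e hN n p hp⟩
  have hsurj := surjective_HHlin_of_subsingleton F 1 I n (0 + 1)
    (subsingleton_HH_quot_of_ge F 1 I e hN n (0 + 1) le_rfl)
  obtain ⟨h1, h2, h3⟩ := finrank_rel F 1 I e n 0 (injective_HHlin_zero F 1 I n) hsurj
  rw [h0_eq F 1 hN, h0_eq F 1 hN] at h1 h2
  have t1 := hN_eq F 1 hN n
  have t2 := hN_eq F 1 hN (-(k : ℤ) + n)
  rw [show (0 + 1 : ℕ) = 1 from rfl] at h1 h3
  rw [t1, t2] at h1 h3
  have a1 : (-(k : ℤ) + n + ((1 : ℕ) : ℤ)) = n - (k : ℤ) + 1 := by push_cast; ring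
  have a2 : (n + ((1 : ℕ) : ℤ)) = n + 1 := by push_cast; ring
  have a3 : (-(-(k : ℤ) + n) - 1) = (k : ℤ) - 2 - n + 1 := by ring
  have a4 : (-n - 1) = (k : ℤ) - 2 - n - (k : ℤ) + 1 := by ring
  rw [a1, a2] at h1 h2
  rw [a3, a4] at h1 h3
  change Module.finrank F (Coh.HH (CohB1.ProjSpace 1 F) (twSeq F 1 I n).X₃ 0) = _
  omega

end Groth.Agent.Lib.Lead.SD.HypCohom
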