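import Groth.Agent.Lib.Helper17.K0Resol

/-!
# `K_0` classes of finite coproducts (abstract)
-/

set_option autoImplicit false

universe v' u'

open CategoryTheory CategoryTheory.Limits KZero

namespace Groth.Agent.Lib.Lead.SD

open Groth.Agent.Lib.Helper17.K0Der

attribute [local instance] CategoryTheory.Abelian.hasFiniteBiproducts

variable {C : Type u'} [Category.{v'} C] [Abelian C]

/-- `∐_{Fin (m+1)} f ≅ f 0 ⨿ ∐_{Fin m} f ∘ succ`. -/
noncomputable def sigmaFinSuccIso {m : ℕ} (f : Fin (m + 1) → C) :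
    ∐ f ≅ f 0 ⨿ ∐ (fun i : Fin m => f i.succ) :=
  IsColimit.coconePointUniqueUpToIso (coproductIsCoproduct f)
    (extendCofanIsColimit f (coproductIsCoproduct fun i : Fin m => f i.succ)
      (coprodIsCoprod (f 0) (∐ fun i : Fin m => f i.succ)))

variable (P : ObjectProperty C) [P.IsClosedUnderIsomorphisms] [P.ContainsZero]

theorem clSub_sigma_fin (hsig : ∀ (m : ℕ) (g : Fin m → C), (∀ j, P (g j)) → P (∐ g)) :
    ∀ (m : ℕ) (f : Fin m → C), (∀ j, P (f j)) → clSub P (∐ f) = ∑ j, clSub P (f j)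
  | 0, f, _ => by
    have hz : IsZero (∐ f) := by
      rw [IsZero.iff_id_eq_zero]
      exact Sigma.hom_ext _ _ (fun j => j.elim0)
    rw [clSub_of_isZero P hz]
    simp
  | m + 1, f, hf => by
    have hcl := clSub_sigma_fin hsig m (fun i => f i.succ) (fun i => hf i.succ)
    have hP' : P (∐ fun i : Fin m => f i.succ) := hsig m _ (fun i => hf i.succ)
    have hS : P (∐ f) := hsig (m + 1) f hf
    let e : ∐ f ≅ f 0 ⊞ ∐ (fun i : Fin m => f i.succ) :=
      sigmaFinSuccIso f ≪≫ (biprod.isoCoprod _ _).symm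
    have hB : P (f 0 ⊞ ∐ fun i : Fin m => f i.succ) := P.prop_of_iso e hS
    have h1 := clSub_of_shortExact P _
      (Groth.Agent.Lib.Helper17.K0Resol.biprod_shortExact₁ (f 0) (∐ fun i : Fin m => f i.succ))
      (hf 0) hB hP'
    dsimp only at h1
    rw [clSub_of_iso P e hS, h1, hcl, Fin.sum_univ_succ]

theorem clSub_biproduct_const (hsig : ∀ (m : ℕ) (g : Fin m → C), (∀ j, P (g j)) → P (∐ g))
    {ι : Type} [Fintype ι] (L : C) (hL : P L) :
    clSub P (⨁ fun _ : ι => L) = Fintype.card ι • clSub P L := by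
  classical
  let ε : Fin (Fintype.card ι) ≃ ι := (Fintype.equivFin ι).symm
  let e1 : (⨁ fun _ : Fin (Fintype.card ι) => L) ≅ ⨁ fun _ : ι => L :=
    biproduct.reindex ε (fun _ : ι => L)
  let e2 : (⨁ fun _ : Fin (Fintype.card ι) => L) ≅ ∐ fun _ : Fin (Fintype.card ι) => L :=
    biproduct.isoCoproduct _
  have h1 : P (∐ fun _ : Fin (Fintype.card ι) => L) := hsig _ _ (fun _ => hL)
  have h2 := clSub_sigma_fin P hsig (Fintype.card ι) (fun _ => L) (fun _ => hL)
  rw [← clSub_of_iso P (e2.symm ≪≫ e1) h1, h2, Finset.sum_const, Finset.card_univ,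
    Fintype.card_fin]

end Groth.Agent.Lib.Lead.SD
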