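import Groth.Agent.Lib.Lead.SD.Syz2

/-!
# The Euler characteristic on `P^n_k` is additive
-/

set_option autoImplicit false

universe u

open CategoryTheory CategoryTheory.Limits AlgebraicGeometry Opposite TopologicalSpace MvPolynomial
  MonoidalCategory

namespace Groth.Agent.Lib.Lead.SD

open Groth.Agent.Lib.Lead.LinLES Groth.Agent.Lib.Lead.Pn Groth.Agent.Lib.Lead.Koszul
open Groth.Agent.Lib.Helper29.QCoh Groth.Agent.Lib.Lead.TwistExact

section LinAlg

variable {k : Type u} [Field k] (A B C : ℕ → Type u)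
  [∀ q, AddCommGroup (A q)] [∀ q, Module k (A q)] [∀ q, Module.Finite k (A q)]
  [∀ q, AddCommGroup (B q)] [∀ q, Module k (B q)] [∀ q, Module.Finite k (B q)]
  [∀ q, AddCommGroup (C q)] [∀ q, Module k (C q)] [∀ q, Module.Finite k (C q)]
  (f : ∀ q, A q →ₗ[k] B q) (g : ∀ q, B q →ₗ[k] C q) (δ : ∀ q, C q →ₗ[k] A (q + 1))

include f g δ in
/-- The alternating sum of dimensions along a long exact sequence telescopes. -/
lemma les_alternating_sum (hf0 : Function.Injective (f 0))
    (h2 : ∀ q, Function.Exact (f q) (g q)) (h3 : ∀ q, Function.Exact (g q) (δ q))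
    (h1 : ∀ q, Function.Exact (δ q) (f (q + 1))) (N : ℕ) :
    ∑ q ∈ Finset.range (N + 1), (-1 : ℤ) ^ q *
        ((Module.finrank k (B q) : ℤ) - Module.finrank k (A q) - Module.finrank k (C q)) =
      -((-1 : ℤ) ^ N * (Module.finrank k (LinearMap.range (δ N)) : ℤ)) := by
  have key : ∀ q, (Module.finrank k (B q) : ℤ) - Module.finrank k (A q) - Module.finrank k (C q) =
      -((Module.finrank k (LinearMap.ker (f q)) : ℤ) +
        Module.finrank k (LinearMap.range (δ q))) := by
    intro q
    have hA := LinearMap.finrank_range_add_finrank_ker (f q)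
    have hB := LinearMap.finrank_range_add_finrank_ker (g q)
    have hC := LinearMap.finrank_range_add_finrank_ker (δ q)
    rw [(LinearMap.exact_iff.1 (h2 q))] at hB
    rw [(LinearMap.exact_iff.1 (h3 q))] at hC
    omega
  have hk0 : (Module.finrank k (LinearMap.ker (f 0)) : ℤ) = 0 := by
    rw [LinearMap.ker_eq_bot.2 hf0, finrank_bot]
    rfl
  have hk : ∀ q, (Module.finrank k (LinearMap.ker (f (q + 1))) : ℤ) =
      Module.finrank k (LinearMap.range (δ q)) := by
    intro q
    rw [(LinearMap.exact_iff.1 (h1 q))]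
  induction N with
  | zero =>
    rw [Finset.sum_range_one, key 0, hk0]
    ring
  | succ N ih =>
    rw [Finset.sum_range_succ, ih, key (N + 1), hk N]
    ring

end LinAlg

section Pn

variable (n : ℕ) (k : Type u) [Field k]

/-- The Euler characteristic of a module on `P^n_k`. -/
noncomputable def chi (F : (CohB1.ProjSpace n k).Modules) : ℤ :=
  ∑ j ∈ Finset.range (n + 1),
    (-1 : ℤ) ^ j * (Module.finrank k (Coh.HH (CohB1.ProjSpace n k) F j) : ℤ)

/-- The Euler characteristic is additive on short exact sequences of coherent modules. -/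
theorem chi_add (S : ShortComplex (CohB1.ProjSpace n k).Modules) (hS : S.ShortExact)
    (h₁ : Coh.IsCoh S.X₁) (h₂ : Coh.IsCoh S.X₂) (h₃ : Coh.IsCoh S.X₃) :
    chi n k S.X₂ = chi n k S.X₁ + chi n k S.X₃ := by
  haveI : ∀ q, Module.Finite k (Coh.HH (CohB1.ProjSpace n k) S.X₁ q) := fun q =>
    module_finite_HH_of_isCoh n k _ h₁ q
  haveI : ∀ q, Module.Finite k (Coh.HH (CohB1.ProjSpace n k) S.X₂ q) := fun q =>
    module_finite_HH_of_isCoh n k _ h₂ q
  haveI : ∀ q, Module.Finite k (Coh.HH (CohB1.ProjSpace n k) S.X₃ q) := fun q =>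
    module_finite_HH_of_isCoh n k _ h₃ q
  have hsum := les_alternating_sum
    (fun q => Coh.HH (CohB1.ProjSpace n k) S.X₁ q)
    (fun q => Coh.HH (CohB1.ProjSpace n k) S.X₂ q)
    (fun q => Coh.HH (CohB1.ProjSpace n k) S.X₃ q)
    (fun q => Canon.HHlin k S.f q) (fun q => Canon.HHlin k S.g q) (fun q => δlin k S hS q)
    (injective_HHlin_zero_f k S hS) (fun q => exact₂ k S hS q) (fun q => exact₃ k S hS q)
    (fun q => exact₁ k S hS q) n
  have hq : Coh.IsQCoh S.X₁ := h₁.1
  haveI : Subsingleton (Coh.HH (CohB1.ProjSpace n k) S.X₁ (n + 1)) :=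
    @Groth.Agent.S0022.result n k _ S.X₁ hq (n + 1) (by omega)
  have h0 : (Module.finrank k (LinearMap.range (δlin k S hS n)) : ℤ) = 0 := by
    rw [Submodule.eq_bot_of_subsingleton (p := LinearMap.range (δlin k S hS n)), finrank_bot]
    rfl
  rw [h0, mul_zero, neg_zero] at hsum
  simp only [mul_sub, Finset.sum_sub_distrib] at hsum
  unfold chi
  linarith

end Pn

end Groth.Agent.Lib.Lead.SD
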