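import Groth.Agent.Lib.Lead.SD.K0Pn1
import Groth.Agent.Lib.Helper17.CohThick
import Groth.Agent.S4466

/-!
# Twisted Euler characteristics as additive functions on `K_0(Coh P^n_k)`; independence of the
classes of `O, O(-1), …, O(-n)`
-/

set_option autoImplicit false

universe u

open CategoryTheory CategoryTheory.Limits AlgebraicGeometry Opposite TopologicalSpace MvPolynomial
  MonoidalCategory KZero

namespace Groth.Agent.Lib.Lead.SD

open Groth.Agent.Lib.Lead.LinLES Groth.Agent.Lib.Lead.Pn Groth.Agent.Lib.Lead.Koszul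
open Groth.Agent.Lib.Helper29.QCoh Groth.Agent.Lib.Lead.TwistExact
open Groth.Agent.Lib.Helper17.K0Der Groth.Agent.Lib.Helper17.CohThick

variable (n : ℕ) (k : Type u) [Field k]

lemma chi_of_iso {M N : (CohB1.ProjSpace n k).Modules} (e : M ≅ N) : chi n k M = chi n k N := by
  unfold chi
  refine Finset.sum_congr rfl fun j _ => ?_
  rw [LinearEquiv.finrank_eq (HHlinEquiv k e j)]

/-- `χ(O) = 1`. -/
lemma chi_twist_zero : chi n k (Twist.twistProjSpace n k 0) = 1 := by
  rcases Nat.eq_zero_or_pos n with rfl | hn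
  · unfold chi
    rw [Finset.sum_range_one, finrank_HH_zero_twist_zero]
    norm_num
  · have h := Groth.Agent.S4466.result k n hn 0
    rw [zero_add, Ring.choose_natCast, Nat.choose_self] at h
    exact h

/-- `χ(O(d)) = 0` for `-n ≤ d < 0`. -/
lemma chi_twist_neg (d : ℤ) (h1 : -(n : ℤ) ≤ d) (h2 : d < 0) :
    chi n k (Twist.twistProjSpace n k d) = 0 := by
  have hn : 0 < n := by omega
  have h := Groth.Agent.S4466.result k n hn d
  obtain ⟨m, hm⟩ : ∃ m : ℕ, d + n = m := ⟨(d + n).toNat, by omega⟩
  rw [hm, Ring.choose_natCast, Nat.choose_eq_zero_of_lt (by omega)] at h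
  exact h

/-- The additive function `F ↦ χ(F(j))` on `K_0(Coh P^n_k)`. -/
noncomputable def chiTw (j : ℤ) : K0sub (CohP (CohB1.ProjSpace n k)) →+ ℤ :=
  QuotientAddGroup.lift (relSub (CohP (CohB1.ProjSpace n k)))
    (FreeAbelianGroup.lift
      (fun X : Subtype (CohP (CohB1.ProjSpace n k)) => chi n k (tw n k X.1 j)))
    (by
      rw [relSub, AddSubgroup.closure_le]
      rintro x ⟨S, h₁, h₂, h₃, hS, rfl⟩
      rw [SetLike.mem_coe, AddMonoidHom.mem_ker, map_sub, map_sub,
        FreeAbelianGroup.lift_apply_of, FreeAbelianGroup.lift_apply_of,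
        FreeAbelianGroup.lift_apply_of]
      dsimp only
      have := chi_add n k (S.map (tensorRight (Twist.twistProjSpace n k j)))
        (shortExact_map_tw n k S hS j) (isCoh_tw n k _ h₁ j) (isCoh_tw n k _ h₂ j)
        (isCoh_tw n k _ h₃ j)
      have h' : chi n k (tw n k S.X₂ j) = chi n k (tw n k S.X₁ j) + chi n k (tw n k S.X₃ j) :=
        this
      rw [h']
      ring)

lemma chiTw_clSub (j : ℤ) (F : (CohB1.ProjSpace n k).Modules) (hF : Coh.IsCoh F) :
    chiTw n k j (clSub (CohP (CohB1.ProjSpace n k)) F) = chi n k (tw n k F j) := by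
  rw [clSub_eq (CohP (CohB1.ProjSpace n k)) hF]
  exact (QuotientAddGroup.lift_mk _ _ _).trans (FreeAbelianGroup.lift_apply_of _ _)

lemma chiTw_clSub_twist (j d : ℤ) :
    chiTw n k j (clSub (CohP (CohB1.ProjSpace n k)) (Twist.twistProjSpace n k d)) =
      chi n k (Twist.twistProjSpace n k (d + j)) := by
  rw [chiTw_clSub n k j _ (isCoh_twist n k d)]
  obtain ⟨e⟩ := nonempty_twist_tensor_iso n k d j
  exact chi_of_iso n k e

/-- The classes of `O, O(-1), …, O(-n)` are linearly independent in `K_0`. -/
theorem injective_twists_comb :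
    Function.Injective (fun a : Fin (n + 1) → ℤ =>
      ∑ i : Fin (n + 1), a i • clSub (CohP (CohB1.ProjSpace n k))
        (Twist.twistProjSpace n k (-((i : ℕ) : ℤ)))) := by
  intro a b hab
  have hab' : ∀ j : ℤ, ∑ i : Fin (n + 1), a i * chi n k (Twist.twistProjSpace n k (-((i : ℕ) : ℤ) + j)) =
      ∑ i : Fin (n + 1), b i * chi n k (Twist.twistProjSpace n k (-((i : ℕ) : ℤ) + j)) := by
    intro j
    have := congrArg (chiTw n k j) hab
    simp only [map_sum, map_zsmul, chiTw_clSub_twist, smul_eq_mul] at this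
    exact this
  have key : ∀ m : ℕ, ∀ i : Fin (n + 1), (i : ℕ) < m → a i = b i := by
    intro m
    induction m with
    | zero => intro i hi; omega
    | succ m ih =>
      intro i hi
      rcases Nat.lt_succ_iff_lt_or_eq.1 hi with h | h
      · exact ih i h
      · have h1 := hab' (m : ℤ)
        have hsub : ∑ i' : Fin (n + 1), (a i' - b i') *
            chi n k (Twist.twistProjSpace n k (-((i' : ℕ) : ℤ) + m)) = 0 := by
          simp only [sub_mul, Finset.sum_sub_distrib, h1, sub_self]
        rw [Finset.sum_eq_single i] at hsub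
        · rw [h, neg_add_cancel, chi_twist_zero, mul_one] at hsub
          exact sub_eq_zero.1 hsub
        · intro i' _ hne
          rcases lt_or_gt_of_ne (fun h' => hne (Fin.ext h')) with hlt | hgt
          · rw [ih i' (by omega), sub_self, zero_mul]
          · rw [chi_twist_neg n k _ (by have := i'.2; omega) (by omega), mul_zero]
        · intro hi'
          exact absurd (Finset.mem_univ i) hi'
  funext i
  exact key (n + 1) i i.2

end Groth.Agent.Lib.Lead.SD
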