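import Groth.Agent.Lib.Lead.SD.Syz4

/-!
# An induction principle for coherent sheaves on `P^n_k` (dévissage along minimal resolutions)
-/

set_option autoImplicit false

universe u

open CategoryTheory CategoryTheory.Limits AlgebraicGeometry Opposite TopologicalSpace MvPolynomial
  MonoidalCategory

namespace Groth.Agent.Lib.Lead.SD

open Groth.Agent.Lib.Lead.LinLES Groth.Agent.Lib.Lead.Pn Groth.Agent.Lib.Lead.Koszul
open Groth.Agent.Lib.Helper29.QCoh Groth.Agent.Lib.Lead.TwistExact

variable {n : ℕ} {k : Type u} [Field k]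

theorem inv_induction (hn : 1 ≤ n) (Q : (CohB1.ProjSpace n k).Modules → Prop)
    (hsplit : ∀ K, IsSumTw n k K → Q K)
    (hstep : ∀ {E K : (CohB1.ProjSpace n k).Modules} (φ : E ⟶ K), Epi φ → IsSumTw n k E →
      Coh.IsCoh K → Q (kernel φ) → Q K) (t : ℕ) :
    ∀ (s : ℕ), s + t = n → ∀ (K : (CohB1.ProjSpace n k).Modules) (a : ℤ), Inv n k K a s → Q K := by
  induction t with
  | zero =>
    intro s hs K a h
    have hs' : s = n := by omega
    rw [hs'] at h
    obtain ⟨r, d, e⟩ := h.splits hn
    exact hsplit K ⟨r, d, e⟩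
  | succ t ih =>
    intro s hs K a h
    obtain ⟨b, φ, hφ, hinv⟩ := h.step hn
    exact hstep φ hφ (isSumTw_coprod n k b (-a)) h.coh (ih (s + 1) (by omega) _ _ hinv)

variable (n k)

/-- Dévissage: a property of coherent sheaves on `P^n_k` which holds for finite sums of twisting
sheaves and passes from the kernel of an epimorphism `E → K`, `E` a sum of twisting sheaves, to
`K`, holds for all coherent sheaves. -/
theorem coh_induction (Q : (CohB1.ProjSpace n k).Modules → Prop)
    (hsplit : ∀ K, IsSumTw n k K → Q K)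
    (hstep : ∀ {E K : (CohB1.ProjSpace n k).Modules} (φ : E ⟶ K), Epi φ → IsSumTw n k E →
      Coh.IsCoh K → Q (kernel φ) → Q K)
    (F : (CohB1.ProjSpace n k).Modules) (hF : Coh.IsCoh F) : Q F := by
  rcases Nat.eq_zero_or_pos n with rfl | hn
  · obtain ⟨b, φ, hφ, -, h0⟩ := exists_minimal_epi 0 k F hF 0
      (fun r _ p hp1 hp0 => absurd hp0 (by omega))
    haveI := hφ
    have hKcoh : Coh.IsCoh (kernel φ) :=
      (Groth.Agent.S9514.result _ (isCoh_coprod_twist 0 k b (-0)) hF φ).1
    have hz : IsZero (kernel φ) := isZero_of_regular_all 0 k (kernel φ) hKcoh 0 h0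
      (fun r _ p hp1 hp0 => absurd hp0 (by omega))
    haveI : Mono φ := Preadditive.mono_of_kernel_zero (hz.eq_of_src _ _)
    haveI : IsIso φ := isIso_of_mono_of_epi φ
    exact hsplit F ⟨b, fun _ => -0, ⟨(asIso φ).symm⟩⟩
  · obtain ⟨j₀, hj₀⟩ := exists_vanishing_tw n k F hF
    refine inv_induction hn Q hsplit hstep n 0 (by omega) F (j₀ + n) ⟨hF, ?_, ?_, ?_⟩
    · intro r hr p hp1 hpn
      exact hj₀ (r - p) (by omega) p hp1
    · intro h
      omega
    · intro i _ _ h
      omega

end Groth.Agent.Lib.Lead.SD
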