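import Groth.Agent.Lib.Lead.SD.K0Pn2
import Groth.Agent.Lib.Lead.SD.K0Abs
import Groth.Agent.Lib.Lead.SD.Syz5
import Groth.Agent.Lib.Lead.Koszul.Mumford

/-!
# `K_0(Coh P^n_k)` is generated by the classes of `O, O(-1), …, O(-n)`
-/

set_option autoImplicit false

universe u

open CategoryTheory CategoryTheory.Limits AlgebraicGeometry Opposite TopologicalSpace MvPolynomial
  MonoidalCategory KZero

namespace Groth.Agent.Lib.Lead.SD

open Groth.Agent.Lib.Lead.LinLES Groth.Agent.Lib.Lead.Pn Groth.Agent.Lib.Lead.Koszul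
open Groth.Agent.Lib.Helper29.QCoh Groth.Agent.Lib.Lead.TwistExact
open Groth.Agent.Lib.Helper17.K0Der Groth.Agent.Lib.Helper17.CohThick
open Groth.Agent.Lib.Helper17.CyclesSES

attribute [local instance] CategoryTheory.Abelian.hasFiniteBiproducts

variable (n : ℕ) (k : Type u) [Field k]

lemma hsig_coh : ∀ (m : ℕ) (g : Fin m → (CohB1.ProjSpace n k).Modules),
    (∀ j, CohP (CohB1.ProjSpace n k) (g j)) → CohP (CohB1.ProjSpace n k) (∐ g) := by
  intro m g hg
  have h : Coh.IsCoh (⨁ g : (CohB1.ProjSpace n k).Modules) := isCoh_biproduct g hg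
  exact (CohP (CohB1.ProjSpace n k)).prop_of_iso (biproduct.isoCoproduct g) h

/-- The Koszul relation in `K_0(Coh P^n_k)`. -/
theorem koszul_relation (a : ℤ) :
    ∑ i ∈ Finset.range (n + 2), ((-1 : ℤ) ^ i * (Nat.choose (n + 1) i : ℤ)) •
      clSub (CohP (CohB1.ProjSpace n k)) (Twist.twistProjSpace n k (a + i)) = 0 := by
  have hX : ∀ i, CohP (CohB1.ProjSpace n k) ((KPn n k a).X i) := fun i =>
    isCoh_biproduct (fun _ : Sub (Fin (n + 1)) i => Twist.twistProjSpace n k (a + i))
      (fun _ => isCoh_twist n k (a + i))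
  have hZ : ∀ i, CohP (CohB1.ProjSpace n k) ((KPn n k a).cycles i) := fun i =>
    (CohP (CohB1.ProjSpace n k)).prop_of_isLimit_kernelFork
      ((KPn n k a).cyclesIsKernel i (i + 1) (by simp)) (hX i) (hX (i + 1))
  have hx : ∀ i, clSub (CohP (CohB1.ProjSpace n k)) ((KPn n k a).X i) =
      clSub (CohP (CohB1.ProjSpace n k)) ((KPn n k a).cycles i) +
        clSub (CohP (CohB1.ProjSpace n k)) ((KPn n k a).cycles (i + 1)) := fun i =>
    clSub_of_shortExact (CohP (CohB1.ProjSpace n k)) _
      (cyclesSC_shortExact (KPn n k a) (i := i) (j := i + 1) (by simp)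
        (KPn_exactAt n k a (i + 1))) (hZ i) (hX i) (hZ (i + 1))
  have hxc : ∀ i, clSub (CohP (CohB1.ProjSpace n k)) ((KPn n k a).X i) =
      (Nat.choose (n + 1) i) •
        clSub (CohP (CohB1.ProjSpace n k)) (Twist.twistProjSpace n k (a + i)) := fun i => by
    have := clSub_biproduct_const (CohP (CohB1.ProjSpace n k)) (hsig_coh n k)
      (ι := Sub (Fin (n + 1)) i) (Twist.twistProjSpace n k (a + i)) (isCoh_twist n k (a + i))
    rw [Fintype.card_finset_len, Fintype.card_fin] at this
    exact this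
  have tel : ∀ N : ℕ, ∑ i ∈ Finset.range N,
      (-1 : ℤ) ^ i • clSub (CohP (CohB1.ProjSpace n k)) ((KPn n k a).X i) =
      clSub (CohP (CohB1.ProjSpace n k)) ((KPn n k a).cycles 0) -
        (-1 : ℤ) ^ N • clSub (CohP (CohB1.ProjSpace n k)) ((KPn n k a).cycles N) := by
    intro N
    induction N with
    | zero => simp
    | succ N ih =>
      rw [Finset.sum_range_succ, ih, hx N, pow_succ, smul_add, mul_smul]
      simp only [neg_smul, one_smul, smul_neg]
      abel
  have h := tel (n + 2)
  rw [clSub_of_isZero (CohP (CohB1.ProjSpace n k)) (isZero_cycles_zero n k a),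
    clSub_of_isZero (CohP (CohB1.ProjSpace n k)) (isZero_cycles_of_le n k a (n + 2) le_rfl),
    smul_zero, sub_zero] at h
  rw [← h]
  refine Finset.sum_congr rfl fun i _ => ?_
  rw [hxc i, mul_smul, natCast_zsmul]

/-- The combination map `ℤ^{n+1} → K_0`, as a homomorphism. -/
noncomputable def combHom : (Fin (n + 1) → ℤ) →+ K0sub (CohP (CohB1.ProjSpace n k)) where
  toFun a := ∑ i : Fin (n + 1), a i • clSub (CohP (CohB1.ProjSpace n k))
    (Twist.twistProjSpace n k (-((i : ℕ) : ℤ)))
  map_zero' := by simp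
  map_add' a b := by simp [add_smul, Finset.sum_add_distrib]

lemma twist_mem_range_window (d : ℤ) (h1 : -(n : ℤ) ≤ d) (h2 : d ≤ 0) :
    clSub (CohP (CohB1.ProjSpace n k)) (Twist.twistProjSpace n k d) ∈ (combHom n k).range := by
  obtain ⟨i, rfl⟩ : ∃ i : ℕ, d = -(i : ℤ) := ⟨(-d).toNat, by omega⟩
  have hin : i < n + 1 := by omega
  refine ⟨(Pi.single (⟨i, hin⟩ : Fin (n + 1)) (1 : ℤ) : Fin (n + 1) → ℤ), ?_⟩
  change ∑ i' : Fin (n + 1), ((Pi.single (⟨i, hin⟩ : Fin (n + 1)) (1 : ℤ) : Fin (n + 1) → ℤ) i') •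
    clSub (CohP (CohB1.ProjSpace n k)) (Twist.twistProjSpace n k (-((i' : ℕ) : ℤ))) = _
  rw [Finset.sum_eq_single ⟨i, hin⟩]
  · rw [Pi.single_eq_same, one_smul]
  · intro i' _ hne
    rw [Pi.single_eq_of_ne hne, zero_smul]
  · intro h
    exact absurd (Finset.mem_univ _) h

theorem twist_mem_range_aux : ∀ (m : ℕ) (d : ℤ), -(n : ℤ) - m ≤ d → d ≤ m →
    clSub (CohP (CohB1.ProjSpace n k)) (Twist.twistProjSpace n k d) ∈ (combHom n k).range := by
  intro m
  induction m with
  | zero =>
    intro d h1 h2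
    exact twist_mem_range_window n k d (by simpa using h1) (by simpa using h2)
  | succ m ih =>
    intro d h1 h2
    push_cast at h1 h2
    by_cases hd1 : d = m + 1
    · -- top of the window: use the Koszul relation ending at `d`
      have hrel := koszul_relation n k (d - (n + 1))
      rw [Finset.sum_range_succ, Nat.choose_self, Nat.cast_one, mul_one] at hrel
      have hd' : d - ((n : ℤ) + 1) + ((n + 1 : ℕ) : ℤ) = d := by push_cast; ring
      rw [hd'] at hrel
      have hS : ∑ i ∈ Finset.range (n + 1), ((-1 : ℤ) ^ i * (Nat.choose (n + 1) i : ℤ)) •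
          clSub (CohP (CohB1.ProjSpace n k)) (Twist.twistProjSpace n k (d - (n + 1) + i)) ∈
          (combHom n k).range := by
        refine AddSubgroup.sum_mem _ fun i hi => ?_
        have hi' := Finset.mem_range.1 hi
        exact AddSubgroup.zsmul_mem _ (ih _ (by omega) (by omega)) _
      have hc : clSub (CohP (CohB1.ProjSpace n k)) (Twist.twistProjSpace n k d) =
          (-1 : ℤ) ^ (n + 1) • -(∑ i ∈ Finset.range (n + 1),
            ((-1 : ℤ) ^ i * (Nat.choose (n + 1) i : ℤ)) •
            clSub (CohP (CohB1.ProjSpace n k)) (Twist.twistProjSpace n k (d - (n + 1) + i))) := by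
        rw [← eq_neg_of_add_eq_zero_right hrel, ← mul_smul, ← pow_add,
          Even.neg_one_pow ⟨n + 1, rfl⟩, one_smul]
      rw [hc]
      exact AddSubgroup.zsmul_mem _ (AddSubgroup.neg_mem _ hS) _
    · by_cases hd2 : d = -(n : ℤ) - (m + 1)
      · have hrel := koszul_relation n k d
        rw [Finset.sum_range_succ', Nat.choose_zero_right, Nat.cast_one, mul_one, pow_zero,
          one_smul, Nat.cast_zero, add_zero] at hrel
        have hS : ∑ i ∈ Finset.range (n + 1),
            ((-1 : ℤ) ^ (i + 1) * (Nat.choose (n + 1) (i + 1) : ℤ)) •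
            clSub (CohP (CohB1.ProjSpace n k))
              (Twist.twistProjSpace n k (d + ((i + 1 : ℕ) : ℤ))) ∈ (combHom n k).range := by
          refine AddSubgroup.sum_mem _ fun i hi => ?_
          have hi' := Finset.mem_range.1 hi
          exact AddSubgroup.zsmul_mem _ (ih _ (by push_cast; omega) (by push_cast; omega)) _
        rw [eq_neg_of_add_eq_zero_right hrel]
        exact AddSubgroup.neg_mem _ hS
      · exact ih d (by omega) (by omega)

theorem twist_mem_range (d : ℤ) :
    clSub (CohP (CohB1.ProjSpace n k)) (Twist.twistProjSpace n k d) ∈ (combHom n k).range :=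
  twist_mem_range_aux n k d.natAbs d (by omega) (by omega)

theorem clSub_mem_range (F : (CohB1.ProjSpace n k).Modules) (hF : Coh.IsCoh F) :
    clSub (CohP (CohB1.ProjSpace n k)) F ∈ (combHom n k).range := by
  have hsum : ∀ K, IsSumTw n k K → Coh.IsCoh K ∧
      clSub (CohP (CohB1.ProjSpace n k)) K ∈ (combHom n k).range := by
    rintro K ⟨m, d, ⟨e⟩⟩
    have h1 : CohP (CohB1.ProjSpace n k) (∐ fun j : Fin m => Twist.twistProjSpace n k (d j)) :=
      hsig_coh n k m _ (fun j => isCoh_twist n k (d j))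
    have hK : CohP (CohB1.ProjSpace n k) K := (CohP (CohB1.ProjSpace n k)).prop_of_iso e.symm h1
    refine ⟨hK, ?_⟩
    rw [clSub_of_iso (CohP (CohB1.ProjSpace n k)) e hK,
      clSub_sigma_fin (CohP (CohB1.ProjSpace n k)) (hsig_coh n k) m _
        (fun j => isCoh_twist n k (d j))]
    exact AddSubgroup.sum_mem _ fun j _ => twist_mem_range n k (d j)
  refine coh_induction n k
    (fun F => clSub (CohP (CohB1.ProjSpace n k)) F ∈ (combHom n k).range)
    (fun K hK => (hsum K hK).2) ?_ F hF
  intro E K φ hφ hE hK hker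
  haveI := hφ
  have hEc := (hsum E hE).1
  have hkc : Coh.IsCoh (kernel φ) := (Groth.Agent.S9514.result _ hEc hK φ).1
  have h1 := clSub_of_shortExact (CohP (CohB1.ProjSpace n k)) _
    (kerSC_shortExact n k φ) hkc hEc hK
  have h2 : clSub (CohP (CohB1.ProjSpace n k)) K =
      clSub (CohP (CohB1.ProjSpace n k)) E - clSub (CohP (CohB1.ProjSpace n k)) (kernel φ) := by
    rw [eq_sub_iff_add_eq, add_comm]
    exact h1.symm
  rw [h2]
  exact AddSubgroup.sub_mem _ (hsum E hE).2 hker

theorem combHom_surjective : Function.Surjective (combHom n k) := by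
  intro x
  suffices h : x ∈ (combHom n k).range from h
  induction x using QuotientAddGroup.induction_on with
  | H x =>
    induction x using FreeAbelianGroup.induction_on with
    | zero => exact AddSubgroup.zero_mem _
    | of X =>
      have := clSub_mem_range n k X.1 X.2
      rw [clSub_eq (CohP (CohB1.ProjSpace n k)) X.2] at this
      exact this
    | neg X hX => exact AddSubgroup.neg_mem _ hX
    | add x y hx hy => exact AddSubgroup.add_mem _ hx hy

/-- `K_0(Coh P^n_k)` is free on the classes of `O, O(-1), …, O(-n)`. -/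
theorem bijective_twists_comb :
    Function.Bijective (fun a : Fin (n + 1) → ℤ =>
      ∑ i : Fin (n + 1), a i • clSub (CohP (CohB1.ProjSpace n k))
        (Twist.twistProjSpace n k (-((i : ℕ) : ℤ)))) :=
  ⟨injective_twists_comb n k, combHom_surjective n k⟩

end Groth.Agent.Lib.Lead.SD
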