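import Groth.Agent.Lib.Lead.Pn.TopLin
import Groth.Agent.Lib.Lead.Koszul.Mul

/-!
# Multiplication by a homogeneous polynomial on Laurent coefficients and on the top Čech cohomology
-/

set_option autoImplicit false

universe u v

open CategoryTheory CategoryTheory.Limits AlgebraicGeometry Opposite TopologicalSpace MvPolynomial

namespace Groth.Agent.Lib.Lead.SD

open Groth.Agent.Lib.Lead.Pn Groth.Agent.Lib.Lead.Koszul
open Groth.Agent.Lib.Helper29.QCoh Groth.Agent.Lib.Helper22.Cech

section poly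

variable {ι : Type v} [Fintype ι] {R : Type u} [CommRing R]

/-- The integral exponent attached to a natural exponent. -/
def zexp (b : ι →₀ ℕ) : ι → ℤ := fun i => (b i : ℤ)

@[simp] lemma zexp_apply (b : ι →₀ ℕ) (i : ι) : zexp b i = (b i : ℤ) := rfl

lemma lcD_monomial_one_mul_apply (B : MvPolynomial ι R) (D b : ι →₀ ℕ) (e : ι → ℤ) :
    lcD (monomial b 1 * B) D e = lcD B D (e - zexp b) := by
  classical
  by_cases h : ∀ i, 0 ≤ e i + D i
  · rw [lcD_pos _ _ _ h, coeff_monomial_mul']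
    by_cases hle : b ≤ natExp e D
    · rw [if_pos hle, one_mul]
      have h' : ∀ i, 0 ≤ (e - zexp b) i + D i := by
        intro i
        have h1 := hle i
        have h2 := h i
        rw [natExp_apply] at h1
        rw [Pi.sub_apply, zexp_apply]
        omega
      rw [lcD_pos _ _ _ h']
      congr 1
      ext i
      have h1 := hle i
      have h2 := h i
      rw [natExp_apply] at h1
      rw [Finsupp.tsub_apply, natExp_apply, natExp_apply, Pi.sub_apply, zexp_apply]
      omega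
    · rw [if_neg hle]
      rw [lcD_neg]
      intro h'
      apply hle
      intro i
      have h1 := h' i
      have h2 := h i
      rw [Pi.sub_apply, zexp_apply] at h1
      rw [natExp_apply]
      omega
  · rw [lcD_neg _ _ _ h, lcD_neg]
    intro h'
    apply h
    intro i
    have h1 := h' i
    rw [Pi.sub_apply, zexp_apply] at h1
    have : (0 : ℤ) ≤ b i := Int.natCast_nonneg _
    omega

lemma lcD_monomial_mul_apply (B : MvPolynomial ι R) (D b : ι →₀ ℕ) (r : R) (e : ι → ℤ) :
    lcD (monomial b r * B) D e = r * lcD B D (e - zexp b) := by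
  have h : (monomial b r : MvPolynomial ι R) * B = C r * (monomial b 1 * B) := by
    rw [← mul_assoc, C_mul_monomial, mul_one]
  rw [h, lcD_C_mul, Pi.smul_apply, smul_eq_mul, lcD_monomial_one_mul_apply]

lemma lcD_sum_apply {κ : Type*} (t : Finset κ) (f : κ → MvPolynomial ι R) (D : ι →₀ ℕ)
    (e : ι → ℤ) : lcD (∑ j ∈ t, f j) D e = ∑ j ∈ t, lcD (f j) D e := by
  classical
  induction t using Finset.induction_on with
  | empty => rw [Finset.sum_empty, Finset.sum_empty, lcD_zero]; rfl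
  | insert a t ha ih =>
    rw [Finset.sum_insert ha, Finset.sum_insert ha, lcD_add, Pi.add_apply, ih]

/-- The Laurent coefficients of a product. -/
lemma lcD_mul_apply (a B : MvPolynomial ι R) (D : ι →₀ ℕ) (e : ι → ℤ) :
    lcD (a * B) D e = ∑ b ∈ a.support, a.coeff b * lcD B D (e - zexp b) := by
  conv_lhs => rw [← support_sum_monomial_coeff a, Finset.sum_mul]
  rw [lcD_sum_apply]
  exact Finset.sum_congr rfl fun b _ => lcD_monomial_mul_apply B D b _ e

end poly

section sections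

variable {n : ℕ} {R : Type u} [CommRing R] {d d' : ℤ} {e : ℕ}

lemma isRep_mulHom {V : (Proj (𝒜 n R)).Opens} {s : Γ(Twist.twist (𝒜 n R) d, V)}
    {B : MvPolynomial (Fin (n + 1)) R} {D : Fin (n + 1) →₀ ℕ} (h : IsRep d s B D)
    (a : 𝒜 n R e) (hd : d' = d + e) :
    IsRep d' ((mulHom (𝒜 n R) a d d' hd).app V s) (a.1 * B) D := by
  intro x
  rw [tfun_mulHom, Localization.mk_one_eq_algebraMap, map_mul, mul_assoc, h x]

/-- The product of a representation with a homogeneous polynomial. -/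
noncomputable def repMulHom {V : (Proj (𝒜 n R)).Opens} {s : Γ(Twist.twist (𝒜 n R) d, V)}
    (ρ : Rep d s) (a : 𝒜 n R e) (hd : d' = d + e) :
    Rep d' ((mulHom (𝒜 n R) a d d' hd).app V s) where
  B := a.1 * ρ.B
  D := ρ.D
  k := e + ρ.k
  hB := SetLike.mul_mem_graded a.2 ρ.hB
  hk := by
    have := ρ.hk
    push_cast
    omega
  h := isRep_mulHom ρ.h a hd

lemma Φs_mulHom {q : ℕ} (σ : Fin (q + 1) → ULift.{u} (Fin (n + 1))) (a : 𝒜 n R e)
    (hd : d' = d + e) (s : Γ(Twist.twist (𝒜 n R) d, Us (R := R) σ)) (ε : Fin (n + 1) → ℤ) :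
    Φs n R d' σ ((mulHom (𝒜 n R) a d d' hd).app (Us (R := R) σ) s) ε =
      ∑ b ∈ a.1.support, a.1.coeff b * Φs n R d σ s (ε - zexp b) := by
  obtain ⟨N, ρ, -⟩ := nonempty_rep_Uσ σ s
  rw [Φs_eq σ ρ, Φs_eq σ (repMulHom ρ a hd)]
  exact lcD_mul_apply a.1 ρ.B ρ.D ε

end sections

section cech

variable {m : ℕ} {R : Type u} [CommRing R] {d d' : ℤ} {e : ℕ}

/-- Multiplication by a homogeneous polynomial, on the underlying abelian sheaves. -/
noncomputable abbrev mulAb (a : 𝒜 (m + 1) R e) (hd : d' = d + e) :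
    Coh.toAb (Twist.twist (𝒜 (m + 1) R) d) ⟶ Coh.toAb (Twist.twist (𝒜 (m + 1) R) d') :=
  (SheafOfModules.toSheaf (Proj (𝒜 (m + 1) R)).ringCatSheaf).map
    (mulHom (𝒜 (m + 1) R) a d d' hd)

/-- The induced map of Čech complexes. -/
noncomputable abbrev mulCech (a : 𝒜 (m + 1) R e) (hd : d' = d + e) : KK m R d ⟶ KK m R d' :=
  (cechComplexFunctor (stdCov (m + 1) R)).map (mulAb a hd).hom

lemma cf_mulCech (a : 𝒜 (m + 1) R e) (hd : d' = d + e) (x : (KK m R d).X (m + 1))
    (σ : Fin (m + 2) → ULift.{u} (Fin (m + 2))) (ε : Fin (m + 2) → ℤ) :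
    cf ((mulCech a hd).f (m + 1) x) σ ε =
      ∑ b ∈ a.1.support, a.1.coeff b * cf x σ (ε - zexp b) := by
  unfold cf
  have h := proj_map (stdCov (m + 1) R) (Pd (m + 1) R d) (mulAb a hd).hom (m + 1) σ x
  have h' : proj (stdCov (m + 1) R) (Pd (m + 1) R d') (m + 1) σ ((mulCech a hd).f (m + 1) x) =
      (mulHom (𝒜 (m + 1) R) a d d' hd).app (Us (R := R) σ)
        (proj (stdCov (m + 1) R) (Pd (m + 1) R d) (m + 1) σ x) := h
  rw [h']
  exact Φs_mulHom σ a hd _ ε

lemma topHom_mulCech_apply (a : 𝒜 (m + 1) R e) (hd : d' = d + e) (x : (KK m R d).X (m + 1))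
    (ε : Fin (m + 2) → ℤ) (hε : ∀ i, ε i < 0) :
    (topHom m R d' ((mulCech a hd).f (m + 1) x)).1 ε =
      ∑ b ∈ a.1.support, a.1.coeff b * (topHom m R d x).1 (ε - zexp b) := by
  classical
  rw [topHom_apply]
  unfold topFun
  rw [if_pos hε, cf_mulCech]
  refine Finset.sum_congr rfl fun b _ => ?_
  rw [topHom_apply]
  unfold topFun
  rw [if_pos]
  intro i
  have h1 := hε i
  rw [Pi.sub_apply, zexp_apply]
  have : (0 : ℤ) ≤ b i := Int.natCast_nonneg _
  omega

end cech

end Groth.Agent.Lib.Lead.SD
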