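import Groth.Agent.Lib.Lead.SD.TorsionFree
import Groth.Agent.Lib.Lead.SD.LowVanish

/-!
# A vector bundle of rank `> 1` with a section and a cosection is not simple
-/

set_option autoImplicit false

universe u

open CategoryTheory CategoryTheory.Limits AlgebraicGeometry Opposite TopologicalSpace

namespace Groth.Agent.Lib.Lead.SD

open Groth.Agent.Lib.Helper29.QCoh

variable {X : Scheme.{u}}

/-- Sectionwise form of `toSheaf.map φ = smulAb E a`. -/
lemma app_eq_smul_of_toSheaf_map_eq {E : X.Modules} (φ : E ⟶ E) (a : Coh.Γtop X)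
    (h : (SheafOfModules.toSheaf X.ringCatSheaf).map φ = Coh.smulAb E a) (U : X.Opens)
    (e : Γ(E, U)) : φ.app U e = rres X (le_top : U ≤ ⊤) a • e := by
  have h1 := congrArg (fun ψ => ψ.hom.app (op U) e) h
  exact h1

/-- On an integral scheme, the composite `E → O → E` of nonzero maps, `E` finite locally free,
is nonzero. -/
theorem comp_ne_zero_of_isFinLocFree [IsIntegral X] {E : X.Modules} (hE : FlatMod.IsFinLocFree E)
    (s : unitM X ⟶ E) (hs : s ≠ 0) (t : E ⟶ unitM X) (ht : t ≠ 0) : t ≫ s ≠ 0 := by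
  intro hts
  apply hs
  -- a section `e` with `t e ≠ 0`
  obtain ⟨U, e, he⟩ : ∃ (U : X.Opens) (e : Γ(E, U)), t.app U e ≠ 0 := by
    by_contra hcon
    push Not at hcon
    apply ht
    apply Scheme.Modules.hom_ext
    intro U
    ext e
    exact hcon U e
  obtain ⟨a, ha⟩ := toUnit_surjective (t.app U e)
  have ha0 : a ≠ 0 := by
    rintro rfl
    exact he ha.symm
  have h1 : a • sval s U = 0 := by
    rw [← app_eq_smul_sval, ha]
    have := congrArg (fun ψ => ψ.app U e) hts
    exact this
  -- restrict to D(a)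
  have hu : IsUnit (rres X (X.basicOpen_le a) a) := (isUnit_rres_iff _ a).2 le_rfl
  have h3 : Groth.Agent.Lib.Helper29.QCoh.res E (le_top : X.basicOpen a ≤ ⊤) (sval s ⊤) = 0 := by
    have h4 := congrArg (Groth.Agent.Lib.Helper29.QCoh.res E (X.basicOpen_le a)) h1
    rw [res_smul', res_sval, map_zero] at h4
    rw [res_sval]
    exact (hu.smul_eq_zero).1 h4
  have hne : ((X.basicOpen a : X.Opens) : Set X).Nonempty := by
    rw [Set.nonempty_iff_ne_empty]
    intro hb
    exact ha0 ((basicOpen_eq_bot_iff a).1 (Opens.ext (by rw [hb]; rfl)))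
  have h5 := eq_zero_of_res_eq_zero_of_isFinLocFree hE le_top hne (sval s ⊤) h3
  apply hom_ext_of_sval
  rw [h5]
  rfl

/-- A finite locally free module of rank `r > 1` does not embed sectionwise into `O`. -/
theorem not_injective_app_of_rank [Nonempty X] {r : ℕ} (hr : 1 < r) {E : X.Modules}
    (hE : FlatMod.IsFinLocFreeOfRank r E) (t : E ⟶ unitM X) :
    ∃ V : X.Opens, ¬ Function.Injective (t.app V) := by
  obtain ⟨x⟩ := ‹Nonempty X›
  obtain ⟨V, -, hxV, ⟨ε⟩⟩ := exists_affine_linearEquiv_of_isFinLocFreeOfRank hE x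
  refine ⟨V, fun hinj => ?_⟩
  haveI := nontrivial_sections_of_mem hxV
  let f : (Fin r →₀ Γ(X, V)) →ₗ[Γ(X, V)] Γ(X, V) :=
    { toFun := fun v => (t.app V (ε.symm v) : Γ(X, V))
      map_add' := fun v w => by rw [map_add, map_add]; rfl
      map_smul' := fun c v => by
        rw [map_smul, Scheme.Modules.Hom.app_smul]
        rfl }
  have hf : Function.Injective f := fun v w hvw => ε.symm.injective (hinj hvw)
  have h1 := LinearMap.finrank_le_finrank_of_injective hf
  rw [Module.finrank_finsupp_self, Module.finrank_self, Fintype.card_fin] at h1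
  omega

/-- A finite locally free module of rank `r > 1` on an integral scheme with a nonzero section and
a nonzero cosection has an endomorphism which is not multiplication by a global function that is
either zero or a unit. -/
theorem exists_endo_not_smul [IsIntegral X] {r : ℕ} (hr : 1 < r) {E : X.Modules}
    (hE : FlatMod.IsFinLocFreeOfRank r E)
    (s : unitM X ⟶ E) (hs : s ≠ 0) (t : E ⟶ unitM X) (ht : t ≠ 0) :
    ∃ φ : E ⟶ E, ∀ a : Coh.Γtop X, (a = 0 ∨ IsUnit a) →
      (SheafOfModules.toSheaf X.ringCatSheaf).map φ ≠ Coh.smulAb E a := by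
  haveI : Nonempty X := (inferInstance : IrreducibleSpace X).toNonempty
  refine ⟨t ≫ s, fun a ha h => ?_⟩
  have hsec := app_eq_smul_of_toSheaf_map_eq (t ≫ s) a h
  rcases ha with rfl | ha
  · apply comp_ne_zero_of_isFinLocFree (isFinLocFree_of_isFinLocFreeOfRank hE) s hs t ht
    apply Scheme.Modules.hom_ext
    intro U
    ext e
    rw [hsec U e]
    exact (congrArg (· • e) (map_zero (rres X (le_top : U ≤ ⊤)))).trans (zero_smul _ e)
  · obtain ⟨V, hV⟩ := not_injective_app_of_rank hr hE t
    apply hV
    intro e e' hee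
    have h1 : (t ≫ s).app V e = (t ≫ s).app V e' := by
      change s.app V (t.app V e) = s.app V (t.app V e')
      rw [hee]
    rw [hsec V e, hsec V e'] at h1
    have hu : IsUnit (rres X (le_top : V ≤ ⊤) a) := ha.map _
    exact hu.smul_left_cancel.1 h1

end Groth.Agent.Lib.Lead.SD
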