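import Groth.Agent.Lib.Lead.SD.Split2

/-!
# `P^0_k` is a point; locally free modules on it are free
-/

set_option autoImplicit false

universe u

open CategoryTheory CategoryTheory.Limits AlgebraicGeometry Opposite TopologicalSpace MvPolynomial

namespace Groth.Agent.Lib.Lead.SD

open Groth.Agent.Lib.Helper29.QCoh

section point

variable (k : Type u) [Field k]

lemma degree_eq_iff_fin_one (d : Fin 1 →₀ ℕ) (n : ℕ) : d.degree = n ↔ d = Finsupp.single 0 n := by
  rw [Finsupp.degree_eq_sum, Fin.sum_univ_one]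
  constructor
  · intro h
    refine Finsupp.ext fun i => ?_
    rw [Subsingleton.elim i 0, Finsupp.single_eq_same, h]
  · intro h
    rw [h, Finsupp.single_eq_same]

lemma homogeneousComponent_fin_one (f : MvPolynomial (Fin 1) k) (n : ℕ) :
    homogeneousComponent n f = C (coeff (Finsupp.single 0 n) f) * X 0 ^ n := by
  ext d
  rw [coeff_homogeneousComponent, coeff_C_mul, coeff_X_pow]
  by_cases h : d.degree = n
  · have h' := (degree_eq_iff_fin_one d n).1 h
    rw [if_pos h, if_pos h'.symm, mul_one, h']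
  · have h' : ¬ Finsupp.single 0 n = d := fun h2 => h ((degree_eq_iff_fin_one d n).2 h2.symm)
    rw [if_neg h, if_neg h', mul_zero]

/-- Every point of `P^0_k` is the zero ideal. -/
lemma asHomogeneousIdeal_eq_bot (p : Proj (CohB1.polyGrading 0 k)) (f : MvPolynomial (Fin 1) k)
    (hf : f ∈ p.asHomogeneousIdeal) : f = 0 := by
  have hX : (X 0 : MvPolynomial (Fin 1) k) ∉ p.asHomogeneousIdeal := by
    obtain ⟨i, hi⟩ := exists_mem_basicOpen_X 0 k p
    have hi0 : i = 0 := Fin.ext (by have := i.2; omega)
    rw [hi0] at hi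
    exact hi
  by_contra hne
  obtain ⟨d, hd⟩ := ne_zero_iff.mp hne
  have h1 : (DirectSum.decompose (CohB1.polyGrading 0 k) f (d 0) : MvPolynomial (Fin 1) k) ∈
      p.asHomogeneousIdeal.toIdeal := p.asHomogeneousIdeal.isHomogeneous (d 0) hf
  have h2 : (DirectSum.decompose (CohB1.polyGrading 0 k) f (d 0) : MvPolynomial (Fin 1) k) =
      homogeneousComponent (d 0) f := decomposition.decompose'_apply f (d 0)
  rw [h2, homogeneousComponent_fin_one] at h1
  have hd' : d = Finsupp.single 0 (d 0) := by
    refine Finsupp.ext fun i => ?_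
    rw [Subsingleton.elim i 0, Finsupp.single_eq_same]
  rw [← hd'] at h1
  have hprime : p.asHomogeneousIdeal.toIdeal.IsPrime := p.isPrime
  rcases hprime.mem_or_mem h1 with h3 | h3
  · have hu : IsUnit (C (coeff d f) : MvPolynomial (Fin 1) k) :=
      (IsUnit.mk0 _ hd).map C
    exact hprime.ne_top (Ideal.eq_top_of_isUnit_mem _ h3 hu)
  · exact hX (hprime.mem_of_pow_mem _ h3)

instance subsingleton_projSpace_zero : Subsingleton (CohB1.ProjSpace 0 k) := by
  refine ⟨fun p q => ?_⟩
  apply ProjectiveSpectrum.ext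
  apply HomogeneousIdeal.toIdeal_injective
  ext f
  constructor
  · intro hf
    rw [asHomogeneousIdeal_eq_bot k p f hf]
    exact Ideal.zero_mem _
  · intro hf
    rw [asHomogeneousIdeal_eq_bot k q f hf]
    exact Ideal.zero_mem _

end point

section free

variable {X : Scheme.{u}}

/-- On a one-point scheme, finite locally free modules of rank `r` are free. -/
theorem nonempty_iso_freeMod_of_subsingleton [Subsingleton X] [Nonempty X] {r : ℕ}
    {E : X.Modules} (hE : FlatMod.IsFinLocFreeOfRank r E) :
    Nonempty (E ≅ FlatMod.freeMod X r) := by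
  obtain ⟨x⟩ := ‹Nonempty X›
  rw [isFinLocFreeOfRank_iff_isFreeAlong] at hE
  obtain ⟨U, hxU, hfree⟩ := hE x
  have h1 : IsFreeAlong E (𝟙 X) r := hfree.of_range_subset (𝟙 X) (by
    rintro y -
    rw [Scheme.Opens.range_ι]
    rw [Subsingleton.elim y x]
    exact hxU)
  obtain ⟨e⟩ := h1
  exact ⟨((Scheme.Modules.pullbackId X).app E).symm ≪≫ e⟩

end free

end Groth.Agent.Lib.Lead.SD
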