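import Groth.Agent.Lib.Lead.NatLeray.Scheme
import Groth.Agent.Lib.Helper29.QCohExt

/-!
# Čech cohomology computes cohomology, compatibly with all morphisms between two given modules

The comparison isomorphism of `NatLeray.exists_cechH_addEquiv_HH_natural` is natural for
endomorphisms of a single quasi-coherent module.  Applying it to a biproduct `M ⊞ N` we get
comparison isomorphisms for `M` and `N` which are compatible with all endomorphisms of `M`, all
endomorphisms of `N` and all morphisms `M ⟶ N` (of the underlying abelian sheaves).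
-/

set_option autoImplicit false

universe u

open CategoryTheory CategoryTheory.Limits Opposite TopologicalSpace Abelian AlgebraicGeometry

namespace Groth.Agent.Lib.Lead.SD

open Groth.Agent.Lib.Helper22.Cech Groth.Agent.Lib.Helper22 Groth.Agent.Lib.Lead.NatLeray
open Groth.Agent.Lib.Helper29.QCoh

section general

variable {X : TopCat.{u}} {ι : Type u} (U : ι → Opens X)

lemma cechMap_comp_apply {F G H : CohTop.Ab X} (φ : F ⟶ G) (ψ : G ⟶ H) (p : ℕ)
    (x : (CK U F.obj).homology p) :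
    cechMap U (φ ≫ ψ) p x = cechMap U ψ p (cechMap U φ p x) := by
  have h : cechMap U (φ ≫ ψ) p = cechMap U φ p ≫ cechMap U ψ p := by
    unfold cechMap
    rw [← HomologicalComplex.homologyMap_comp, ← Functor.map_comp]
    rfl
  rw [h]
  rfl

lemma cechMap_id_apply {F : CohTop.Ab X} (p : ℕ) (x : (CK U F.obj).homology p) :
    cechMap U (𝟙 F) p x = x := by
  have h : cechMap U (𝟙 F) p = 𝟙 _ := by
    unfold cechMap
    have : (𝟙 F : F ⟶ F).hom = 𝟙 F.obj := rfl
    rw [this, CategoryTheory.Functor.map_id, HomologicalComplex.homologyMap_id]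
  rw [h]
  rfl

end general

section scheme

variable (X : Scheme.{u}) (M N : X.Modules) [M.IsQuasicoherent] [N.IsQuasicoherent]

lemma isQuasicoherent_biprod : (M ⊞ N).IsQuasicoherent :=
  isQuasicoherent_of_shortExact
    (ShortComplex.mk (biprod.inl : M ⟶ M ⊞ N) (biprod.snd : M ⊞ N ⟶ N) (by simp))
    (ShortComplex.Splitting.ofHasBinaryBiproduct M N).shortExact

/-- **Čech cohomology computes cohomology**, compatibly with all morphisms `M ⟶ N` and all
endomorphisms of `M` and of `N` (morphisms of the underlying abelian sheaves). -/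
theorem exists_cechH_addEquiv_HH_pair {ι : Type u} (U : ι → X.Opens) (hcov : ⨆ i, U i = ⊤)
    (hU : ∀ s : Finset ι, s.Nonempty → IsAffineOpen (⨅ i ∈ s, U i)) (p : ℕ) :
    ∃ (eM : (CK U (Coh.toAb M).obj).homology p ≃+ Coh.HH X M p)
      (eN : (CK U (Coh.toAb N).obj).homology p ≃+ Coh.HH X N p),
      (∀ (φ : Coh.toAb M ⟶ Coh.toAb M) (x : (CK U (Coh.toAb M).obj).homology p),
        eM (cechMap (X := X.carrier) U φ p x) = Sheaf.H.map φ p (eM x)) ∧
      (∀ (φ : Coh.toAb N ⟶ Coh.toAb N) (x : (CK U (Coh.toAb N).obj).homology p),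
        eN (cechMap (X := X.carrier) U φ p x) = Sheaf.H.map φ p (eN x)) ∧
      (∀ (g : Coh.toAb M ⟶ Coh.toAb N) (x : (CK U (Coh.toAb M).obj).homology p),
        eN (cechMap (X := X.carrier) U g p x) = Sheaf.H.map g p (eM x)) := by
  haveI := isQuasicoherent_biprod X M N
  obtain ⟨θ', hθ'⟩ := exists_cechH_addEquiv_HH_natural X (M ⊞ N) U hcov hU p
  let θ : (CK U (Coh.toAb (M ⊞ N)).obj).homology p ≃+ Coh.HH X (M ⊞ N) p := θ'
  have hθ : ∀ (φ : Coh.toAb (M ⊞ N) ⟶ Coh.toAb (M ⊞ N))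
      (x : (CK U (Coh.toAb (M ⊞ N)).obj).homology p),
      θ (cechMap (X := X.carrier) U φ p x) = Sheaf.H.map φ p (θ x) := hθ'
  let iM : Coh.toAb M ⟶ Coh.toAb (M ⊞ N) :=
    (SheafOfModules.toSheaf X.ringCatSheaf).map (biprod.inl : M ⟶ M ⊞ N)
  let iN : Coh.toAb N ⟶ Coh.toAb (M ⊞ N) :=
    (SheafOfModules.toSheaf X.ringCatSheaf).map (biprod.inr : N ⟶ M ⊞ N)
  let pM : Coh.toAb (M ⊞ N) ⟶ Coh.toAb M :=
    (SheafOfModules.toSheaf X.ringCatSheaf).map (biprod.fst : M ⊞ N ⟶ M)
  let pN : Coh.toAb (M ⊞ N) ⟶ Coh.toAb N :=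
    (SheafOfModules.toSheaf X.ringCatSheaf).map (biprod.snd : M ⊞ N ⟶ N)
  have hMM : iM ≫ pM = 𝟙 _ := by
    have h : (biprod.inl : M ⟶ M ⊞ N) ≫ biprod.fst = 𝟙 M := biprod.inl_fst
    exact ((SheafOfModules.toSheaf X.ringCatSheaf).map_comp _ _).symm.trans
      ((congrArg (fun t => (SheafOfModules.toSheaf X.ringCatSheaf).map t) h).trans
        (CategoryTheory.Functor.map_id _ _))
  have hNN : iN ≫ pN = 𝟙 _ := by
    have h : (biprod.inr : N ⟶ M ⊞ N) ≫ biprod.snd = 𝟙 N := biprod.inr_snd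
    exact ((SheafOfModules.toSheaf X.ringCatSheaf).map_comp _ _).symm.trans
      ((congrArg (fun t => (SheafOfModules.toSheaf X.ringCatSheaf).map t) h).trans
        (CategoryTheory.Functor.map_id _ _))
  -- the generic construction
  have key : ∀ (A B : X.Modules) (iA : Coh.toAb A ⟶ Coh.toAb (M ⊞ N))
      (pA : Coh.toAb (M ⊞ N) ⟶ Coh.toAb A) (_ : iA ≫ pA = 𝟙 _)
      (iB : Coh.toAb B ⟶ Coh.toAb (M ⊞ N))
      (pB : Coh.toAb (M ⊞ N) ⟶ Coh.toAb B) (_ : iB ≫ pB = 𝟙 _)
      (g : Coh.toAb A ⟶ Coh.toAb B) (x : (CK U (Coh.toAb A).obj).homology p),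
      Sheaf.H.map pB p (θ (cechMap (X := X.carrier) U iB p (cechMap (X := X.carrier) U g p x))) =
        Sheaf.H.map g p (Sheaf.H.map pA p (θ (cechMap (X := X.carrier) U iA p x))) := by
    intro A B iA pA hA iB pB hB g x
    have h1 : cechMap (X := X.carrier) U iB p (cechMap (X := X.carrier) U g p x) =
        cechMap (X := X.carrier) U (pA ≫ g ≫ iB) p (cechMap (X := X.carrier) U iA p x) := by
      rw [← cechMap_comp_apply, ← cechMap_comp_apply, ← Category.assoc iA, hA, Category.id_comp]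
    rw [h1, hθ (pA ≫ g ≫ iB), Sheaf.H.map_comp_apply, Sheaf.H.map_comp_apply,
      ← Sheaf.H.map_comp_apply iB pB, hB, Sheaf.H.map_id_apply]
  -- the equivalences
  have mkEquiv : ∀ (A : X.Modules) (iA : Coh.toAb A ⟶ Coh.toAb (M ⊞ N))
      (pA : Coh.toAb (M ⊞ N) ⟶ Coh.toAb A) (_ : iA ≫ pA = 𝟙 _),
      ∃ e : (CK U (Coh.toAb A).obj).homology p ≃+ Coh.HH X A p, ∀ x,
        e x = Sheaf.H.map pA p (θ (cechMap (X := X.carrier) U iA p x)) := by
    intro A iA pA hA
    have e0 : iA ≫ ((pA ≫ iA) ≫ pA) = 𝟙 _ := by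
      rw [Category.assoc, hA, Category.comp_id, hA]
    let f : (CK U (Coh.toAb A).obj).homology p →+ Coh.HH X A p :=
      (Sheaf.H.map pA p).comp (θ.toAddMonoidHom.comp (cechMap (X := X.carrier) U iA p).hom)
    let g' : Coh.HH X A p →+ (CK U (Coh.toAb A).obj).homology p :=
      (cechMap (X := X.carrier) U pA p).hom.comp (θ.symm.toAddMonoidHom.comp (Sheaf.H.map iA p))
    have hfg : ∀ y, f (g' y) = y := by
      intro y
      change Sheaf.H.map pA p (θ (cechMap (X := X.carrier) U iA p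
        (cechMap (X := X.carrier) U pA p (θ.symm (Sheaf.H.map iA p y))))) = y
      rw [← cechMap_comp_apply, hθ (pA ≫ iA), AddEquiv.apply_symm_apply,
        ← Sheaf.H.map_comp_apply, ← Sheaf.H.map_comp_apply, e0, Sheaf.H.map_id_apply]
    have hgf : ∀ x, g' (f x) = x := by
      intro x
      change cechMap (X := X.carrier) U pA p (θ.symm (Sheaf.H.map iA p (Sheaf.H.map pA p
        (θ (cechMap (X := X.carrier) U iA p x))))) = x
      rw [← Sheaf.H.map_comp_apply, ← hθ (pA ≫ iA), AddEquiv.symm_apply_apply,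
        ← cechMap_comp_apply, ← cechMap_comp_apply, e0, cechMap_id_apply]
    exact ⟨{ toFun := f, invFun := g', left_inv := hgf, right_inv := hfg, map_add' := f.map_add },
      fun x => rfl⟩
  obtain ⟨eM, heM⟩ := mkEquiv M iM pM hMM
  obtain ⟨eN, heN⟩ := mkEquiv N iN pN hNN
  refine ⟨eM, eN, fun φ x => ?_, fun φ x => ?_, fun g x => ?_⟩
  · rw [heM, heM]
    exact key M M iM pM hMM iM pM hMM φ x
  · rw [heN, heN]
    exact key N N iN pN hNN iN pN hNN φ x
  · rw [heN, heM]
    exact key M N iM pM hMM iN pN hNN g x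

end scheme

end Groth.Agent.Lib.Lead.SD
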