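import Groth.Agent.Lib.Lead.SD.PairNat
import Groth.Agent.Lib.Lead.SD.LaurentMul
import Groth.Agent.Lib.Lead.Pn.TopCoh

/-!
# The pairing `H^0(O(k)) × H^r(O(-r-1-k)) → H^r(O(-r-1))` on `P^r`, in coordinates
-/

set_option autoImplicit false

universe u v

open CategoryTheory CategoryTheory.Limits AlgebraicGeometry Opposite TopologicalSpace MvPolynomial

namespace Groth.Agent.Lib.Lead.SD

open Groth.Agent.Lib.Lead.Pn Groth.Agent.Lib.Lead.Koszul Groth.Agent.Lib.Lead.NatLeray
open Groth.Agent.Lib.Helper29.QCoh Groth.Agent.Lib.Helper22.Cech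

section abstract

variable {R : Type u} [CommRing R]

/-- Two "linear" bijections onto the ring differ by a unit. -/
lemma exists_unit_of_two_equivs {P : Type*} (ρ : R → P → P) (t' τ' : P → R)
    (hτbij : Function.Bijective τ') (htsurj : Function.Surjective t')
    (hτ : ∀ r p, τ' (ρ r p) = r * τ' p) (ht : ∀ r p, t' (ρ r p) = r * t' p) :
    ∃ u : Rˣ, ∀ p, t' p = u * τ' p := by
  obtain ⟨p₁, hp₁⟩ := hτbij.2 1
  have key : ∀ p, t' p = t' p₁ * τ' p := by
    intro p
    have h1 : ρ (τ' p) p₁ = p := by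
      apply hτbij.1
      rw [hτ, hp₁, mul_one]
    conv_lhs => rw [← h1]
    rw [ht, mul_comm]
  obtain ⟨p₂, hp₂⟩ := htsurj 1
  have hu : t' p₁ * τ' p₂ = 1 := by rw [← key, hp₂]
  exact ⟨Units.mkOfMulEqOne _ _ hu, key⟩

/-- The dot product of the coefficient vectors of two polynomials. -/
noncomputable def dot {ι : Type v} (a B : MvPolynomial ι R) : R :=
  ∑ b ∈ a.support, a.coeff b * B.coeff b

end abstract

section pairing

variable {m : ℕ} {R : Type u} [CommRing R]

/-- The exponent `(-1, …, -1)`. -/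
def negOnes (m : ℕ) : Fin (m + 2) → ℤ := fun _ => -1

lemma eq_negOnes_of_mem_EnegD {e : Fin (m + 2) → ℤ} (he : e ∈ EnegD m (-((m : ℤ) + 2))) :
    e = negOnes m := by
  obtain ⟨h1, h2⟩ := he
  by_contra hne
  have : ∃ i, e i ≠ -1 := by
    by_contra hcon
    push Not at hcon
    exact hne (funext hcon)
  obtain ⟨i, hi⟩ := this
  have hlt : e i < -1 := by have := h2 i; omega
  have h3 : ∑ j, e j < ∑ _j : Fin (m + 2), (-1 : ℤ) := by
    apply Finset.sum_lt_sum
    · intro j _
      have := h2 j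
      omega
    · exact ⟨i, Finset.mem_univ i, hlt⟩
  rw [Finset.sum_const, Finset.card_univ, Fintype.card_fin] at h3
  simp only [smul_eq_mul, nsmul_eq_mul, mul_neg, mul_one] at h3
  push_cast at h3
  omega

/-- Evaluation at `(-1, …, -1)` is bijective on the top coefficient functions of `O(-r-1)`. -/
lemma eval_negOnes_bijective :
    Function.Bijective (fun c : Ttop m R (-((m : ℤ) + 2)) => c.1 (negOnes m)) := by
  classical
  constructor
  · intro c c' h
    apply Subtype.ext
    funext e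
    by_cases he : e = negOnes m
    · rw [he]; exact h
    · have h1 : c.1 e = 0 := by
        by_contra hne
        exact he (eq_negOnes_of_mem_EnegD (c.2 e hne))
      have h2 : c'.1 e = 0 := by
        by_contra hne
        exact he (eq_negOnes_of_mem_EnegD (c'.2 e hne))
      rw [h1, h2]
  · intro r
    refine ⟨⟨fun e => if e = negOnes m then r else 0, ?_⟩, ?_⟩
    · intro e he
      by_cases h : e = negOnes m
      · rw [h]
        refine ⟨?_, fun i => by unfold negOnes; omega⟩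
        unfold negOnes
        rw [Finset.sum_const, Finset.card_univ, Fintype.card_fin]
        simp only [smul_eq_mul, nsmul_eq_mul, mul_neg, mul_one]
        push_cast
        ring
      · exact absurd (if_neg h) he
    · exact if_pos rfl

lemma lcD_zero_zexp (B : MvPolynomial (Fin (m + 2)) R) (b : Fin (m + 2) →₀ ℕ) :
    lcD B 0 (zexp b) = B.coeff b := by
  rw [lcD_pos]
  · congr 1
    ext i
    simp
  · intro i
    simp

/-- **The pairing formula.**  For any linear identification `t` of `H^r(P^r, O(-r-1))` with the base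
ring there are a unit `u` and a linear identification `ℓ` of `H^r(P^r, O(-r-1-k))` with the
homogeneous polynomials of degree `k` such that `t (H^r(a ·) x) = u * (a · ℓ x)`. -/
theorem exists_pairing_formula (m k : ℕ) (d d' : ℤ) (hd : d = -((m : ℤ) + 2) - k)
    (hd' : d' = -((m : ℤ) + 2))
    (t : Coh.HH (CohB1.ProjSpace (m + 1) R) (Twist.twistProjSpace (m + 1) R d') (m + 1) ≃ₗ[R] R) :
    ∃ (u : Rˣ) (ℓ : Coh.HH (CohB1.ProjSpace (m + 1) R) (Twist.twistProjSpace (m + 1) R d) (m + 1)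
        ≃ₗ[R] homogeneousSubmodule (Fin (m + 1 + 1)) R k),
      ∀ (a : 𝒜 (m + 1) R k) (hdd : d' = d + k)
        (x : Coh.HH (CohB1.ProjSpace (m + 1) R) (Twist.twistProjSpace (m + 1) R d) (m + 1)),
        t (Sheaf.H.map (mulAb a hdd) (m + 1) x) = u * dot a.1 (ℓ x).1 := by
  classical
  subst hd'
  obtain ⟨eM, eN, hM, hN, hMN⟩ := exists_cechH_addEquiv_HH_pair (Proj (𝒜 (m + 1) R))
    (Twist.twist (𝒜 (m + 1) R) d) (Twist.twist (𝒜 (m + 1) R) (-((m : ℤ) + 2)))
    (stdCov (m + 1) R) (iSup_stdCov (m + 1) R) isAffineOpen_iInf_stdCov (m + 1)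
  obtain ⟨εM, hεM⟩ := exists_top_equiv (m := m) (R := R) (d := d)
  obtain ⟨εN, hεN⟩ := exists_top_equiv (m := m) (R := R) (d := -((m : ℤ) + 2))
  have hεMs : ∀ (r : R) (h : (KK m R d).homology (m + 1)),
      εM (HomologicalComplex.homologyMap (rCech m R d r) (m + 1) h) = r • εM h := by
    intro r h
    obtain ⟨z, rfl⟩ := homologyπ_surjective (KK m R d) m h
    rw [homologyMap_homologyπ, hεM, hεM, iCycles_cyclesMap, topHom_rCech]
  have hεNs : ∀ (r : R) (h : (KK m R (-((m : ℤ) + 2))).homology (m + 1)),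
      εN (HomologicalComplex.homologyMap (rCech m R (-((m : ℤ) + 2)) r) (m + 1) h) = r • εN h := by
    intro r h
    obtain ⟨z, rfl⟩ := homologyπ_surjective (KK m R (-((m : ℤ) + 2))) m h
    rw [homologyMap_homologyπ, hεN, hεN, iCycles_cyclesMap, topHom_rCech]
  -- the two identifications of the Čech cohomology of `O(-r-1)` with `R`
  let τ' : (KK m R (-((m : ℤ) + 2))).homology (m + 1) → R := fun ξ => (εN ξ).1 (negOnes m)
  let t' : (KK m R (-((m : ℤ) + 2))).homology (m + 1) → R := fun ξ => t (eN ξ)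
  let ρ : R → (KK m R (-((m : ℤ) + 2))).homology (m + 1) →
      (KK m R (-((m : ℤ) + 2))).homology (m + 1) := fun r ξ =>
    HomologicalComplex.homologyMap (rCech m R (-((m : ℤ) + 2)) r) (m + 1) ξ
  have hτbij : Function.Bijective τ' :=
    (eval_negOnes_bijective (m := m) (R := R)).comp εN.bijective
  have htsurj : Function.Surjective t' := t.surjective.comp eN.surjective
  have hτ : ∀ r ξ, τ' (ρ r ξ) = r * τ' ξ := by
    intro r ξ
    change (εN (HomologicalComplex.homologyMap (rCech m R (-((m : ℤ) + 2)) r) (m + 1) ξ)).1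
      (negOnes m) = r * (εN ξ).1 (negOnes m)
    rw [hεNs]
    rfl
  have ht : ∀ r ξ, t' (ρ r ξ) = r * t' ξ := by
    intro r ξ
    change t (eN (cechMap (X := (Proj (𝒜 (m + 1) R)).carrier) (stdCov (m + 1) R)
      (rEnd m R (-((m : ℤ) + 2)) r) (m + 1) ξ)) = r * t (eN ξ)
    rw [hN]
    have h1 : Sheaf.H.map (rEnd m R (-((m : ℤ) + 2)) r) (m + 1) (eN ξ) =
        r • (show Coh.HH (CohB1.ProjSpace (m + 1) R)
          (Twist.twistProjSpace (m + 1) R (-((m : ℤ) + 2))) (m + 1) from eN ξ) :=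
      (smul_HH_eq m (-((m : ℤ) + 2)) (m + 1) r _).symm
    rw [h1, map_smul, smul_eq_mul]
  obtain ⟨u, hu⟩ := exists_unit_of_two_equivs ρ t' τ' hτbij htsurj hτ ht
  -- the identification `ℓ`
  have hd2 : d = -((((m + 1 : ℕ) : ℤ)) + 1 + k) := by rw [hd]; push_cast; ring
  let e₀ : Coh.HH (CohB1.ProjSpace (m + 1) R) (Twist.twistProjSpace (m + 1) R d) (m + 1) ≃+
      Ttop m R d := (eM.symm : _ ≃+ (KK m R d).homology (m + 1)).trans εM
  have hlin : ∀ (r : R) (h : Coh.HH (CohB1.ProjSpace (m + 1) R)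
      (Twist.twistProjSpace (m + 1) R d) (m + 1)), e₀ (r • h) = r • e₀ h := by
    intro r h
    obtain ⟨c, rfl⟩ := eM.surjective h
    rw [smul_HH_eq]
    have h1 := hM (rEnd m R d r) c
    change e₀ (Sheaf.H.map (rEnd m R d r) (m + 1) (eM c)) = r • e₀ (eM c)
    rw [← h1]
    change εM (eM.symm (eM _)) = r • εM (eM.symm (eM c))
    rw [AddEquiv.symm_apply_apply, AddEquiv.symm_apply_apply]
    exact hεMs r c
  let e₁ : Coh.HH (CohB1.ProjSpace (m + 1) R) (Twist.twistProjSpace (m + 1) R d) (m + 1) ≃ₗ[R]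
      Ttop m R d := { e₀ with map_smul' := hlin }
  have hTT : Ttop m R d = Ttop' (m + 1) R (-((((m + 1 : ℕ) : ℤ)) + 1 + k)) := by rw [hd2]; rfl
  let e₂ : Ttop m R d ≃ₗ[R] Ttop' (m + 1) R (-((((m + 1 : ℕ) : ℤ)) + 1 + k)) :=
    LinearEquiv.ofEq _ _ hTT
  let ℓ := e₁.trans (e₂.trans (polyTopEquiv (m + 1) R k).symm)
  refine ⟨u, ℓ, ?_⟩
  intro a hdd x
  obtain ⟨ξ, rfl⟩ := eM.surjective x
  obtain ⟨z, rfl⟩ := homologyπ_surjective (KK m R d) m ξ
  have h1 := hMN (mulAb a hdd) ((KK m R d).homologyπ (m + 1) z)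
  rw [← h1]
  change t' _ = _
  rw [hu]
  congr 1
  change (εN (HomologicalComplex.homologyMap (mulCech a hdd) (m + 1)
    ((KK m R d).homologyπ (m + 1) z))).1 (negOnes m) = _
  rw [homologyMap_homologyπ, hεN, iCycles_cyclesMap,
    topHom_mulCech_apply a hdd _ (negOnes m) (fun i => by unfold negOnes; omega)]
  unfold dot
  refine Finset.sum_congr rfl fun b _ => ?_
  congr 1
  -- the coefficient
  have h2 : polyToTop (m + 1) R k (ℓ (eM ((KK m R d).homologyπ (m + 1) z))) =
      e₂ (εM ((KK m R d).homologyπ (m + 1) z)) := by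
    change polyTopEquiv (m + 1) R k ((polyTopEquiv (m + 1) R k).symm (e₂ (εM (eM.symm (eM _))))) = _
    rw [LinearEquiv.apply_symm_apply, AddEquiv.symm_apply_apply]
  have h3 := congrArg (fun c => c.1 (negOnes m - zexp b)) h2
  simp only at h3
  rw [← hεM]
  have h4 : (e₂ (εM ((KK m R d).homologyπ (m + 1) z))).1 (negOnes m - zexp b) =
      (εM ((KK m R d).homologyπ (m + 1) z)).1 (negOnes m - zexp b) := by
    rfl
  rw [← h4, ← h3]
  change lcD (ℓ (eM ((KK m R d).homologyπ (m + 1) z))).1 0 (neg1 (negOnes m - zexp b)) = _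
  have h5 : neg1 (negOnes m - zexp b) = zexp b := by
    funext i
    unfold neg1 negOnes
    simp
  rw [h5]
  exact lcD_zero_zexp _ b

end pairing

end Groth.Agent.Lib.Lead.SD
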