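import Groth.Agent.Lib.Lead.SD.Pairing
import Groth.Agent.Lib.Lead.SD.HomTwist
import Groth.Agent.S0844

/-!
# The perfect pairing for the twisting sheaves on `P^r`, `r ≥ 1`
-/

set_option autoImplicit false

universe u v

open CategoryTheory CategoryTheory.Limits AlgebraicGeometry Opposite TopologicalSpace MvPolynomial

namespace Groth.Agent.Lib.Lead.SD

open Groth.Agent.Lib.Lead.Pn Groth.Agent.Lib.Lead.Koszul
open Groth.Agent.Lib.Helper29.QCoh Groth.Agent.Lib.Helper22.Cech

section dot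

variable {σ : Type v} [Fintype σ] [DecidableEq σ] {R : Type u} [CommRing R]

lemma dot_monomial (a : MvPolynomial σ R) (b : σ →₀ ℕ) : dot a (monomial b 1) = a.coeff b := by
  classical
  unfold dot
  simp only [coeff_monomial, mul_ite, mul_one, mul_zero]
  rw [Finset.sum_ite_eq a.support b fun b' => coeff b' a]
  split_ifs with h
  · rfl
  · exact (notMem_support_iff.mp h).symm

lemma dot_ext {k : ℕ} {a₁ a₂ : MvPolynomial σ R} (h₁ : a₁.IsHomogeneous k)
    (h₂ : a₂.IsHomogeneous k)
    (h : ∀ B : MvPolynomial σ R, B.IsHomogeneous k → dot a₁ B = dot a₂ B) : a₁ = a₂ := by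
  ext b
  by_cases hb : b.degree = k
  · have := h (monomial b 1) (isHomogeneous_monomial 1 hb)
    rwa [dot_monomial, dot_monomial] at this
  · rw [h₁.coeff_eq_zero hb, h₂.coeff_eq_zero hb]

lemma dot_eq_sum (a B : MvPolynomial σ R) (S : Finset (σ →₀ ℕ)) (hS : a.support ⊆ S) :
    dot a B = ∑ b ∈ S, a.coeff b * B.coeff b := by
  unfold dot
  apply Finset.sum_subset hS
  intro b _ hb
  rw [notMem_support_iff.mp hb, zero_mul]

/-- Every linear form on the homogeneous polynomials of degree `k` is a dot product. -/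
lemma dot_exists (k : ℕ) (ψ : homogeneousSubmodule σ R k →ₗ[R] R) :
    ∃ a : MvPolynomial σ R, a.IsHomogeneous k ∧
      ∀ B : homogeneousSubmodule σ R k, dot a B.1 = ψ B := by
  classical
  let S : Finset (σ →₀ ℕ) := Finset.finsuppAntidiag (Finset.univ : Finset σ) k
  have hS : ∀ b : σ →₀ ℕ, b ∈ S ↔ b.degree = k := by
    intro b
    rw [Finset.mem_finsuppAntidiag, Finsupp.degree_eq_sum]
    exact ⟨fun h => h.1, fun h => ⟨h, Finset.subset_univ _⟩⟩
  let proj : MvPolynomial σ R →ₗ[R] homogeneousSubmodule σ R k :=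
    LinearMap.codRestrict _ (homogeneousComponent k) (fun P => homogeneousComponent_mem k P)
  let Ψ : MvPolynomial σ R →ₗ[R] R := ψ ∘ₗ proj
  have hΨ : ∀ B : homogeneousSubmodule σ R k, Ψ B.1 = ψ B := by
    intro B
    change ψ (proj B.1) = ψ B
    congr 1
    apply Subtype.ext
    change homogeneousComponent k B.1 = B.1
    rw [homogeneousComponent_of_mem B.2, if_pos rfl]
  let a : MvPolynomial σ R := ∑ b ∈ S, monomial b (Ψ (monomial b 1))
  have ha : a.IsHomogeneous k := by
    apply IsHomogeneous.sum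
    intro b hb
    exact isHomogeneous_monomial _ ((hS b).1 hb)
  have hcoeff : ∀ b ∈ S, a.coeff b = Ψ (monomial b 1) := by
    intro b hb
    change coeff b (∑ b' ∈ S, monomial b' (Ψ (monomial b' 1))) = _
    rw [coeff_sum]
    simp only [coeff_monomial]
    rw [Finset.sum_ite_eq' S b fun b' => Ψ (monomial b' 1), if_pos hb]
  have hsupp : a.support ⊆ S := by
    intro b hb
    rw [hS]
    by_contra hne
    exact (mem_support_iff.mp hb) (ha.coeff_eq_zero hne)
  refine ⟨a, ha, fun B => ?_⟩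
  rw [dot_eq_sum a B.1 S hsupp, ← hΨ B]
  have hB : B.1 = ∑ b ∈ S, monomial b (B.1.coeff b) := by
    conv_lhs => rw [← support_sum_monomial_coeff B.1]
    apply Finset.sum_subset
    · intro b hb
      rw [hS]
      by_contra hne
      exact (mem_support_iff.mp hb) (IsHomogeneous.coeff_eq_zero B.2 hne)
    · intro b _ hb
      rw [notMem_support_iff.mp hb, monomial_zero]
  conv_rhs => rw [hB, map_sum]
  refine Finset.sum_congr rfl fun b hb => ?_
  rw [hcoeff b hb]
  have : (monomial b (B.1.coeff b) : MvPolynomial σ R) = (B.1.coeff b) • monomial b 1 := by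
    rw [smul_monomial, smul_eq_mul, mul_one]
  rw [this, map_smul, smul_eq_mul, mul_comm]

end dot

section perfect

variable {R : Type u} [CommRing R]

/-- **The perfect pairing for a twisting sheaf on `P^{m+1}_R`.**  For any linear identification
`t` of `H^r(P^r, O(-r-1))` with `R` (`r = m + 1`), every linear form on `H^r(P^r, O(d))` is
`t ∘ H^r(φ)` for a unique morphism `φ : O(d) ⟶ O(-r-1)`. -/
theorem perfect_twist (m : ℕ) (d d' : ℤ) (hd' : d' = -((m : ℤ) + 2))
    (t : Coh.HH (CohB1.ProjSpace (m + 1) R) (Twist.twistProjSpace (m + 1) R d') (m + 1) ≃ₗ[R] R)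
    (ψ : Coh.HH (CohB1.ProjSpace (m + 1) R) (Twist.twistProjSpace (m + 1) R d) (m + 1) →ₗ[R] R) :
    ∃! φ : Twist.twistProjSpace (m + 1) R d ⟶ Twist.twistProjSpace (m + 1) R d',
      ∀ x : Coh.HH (CohB1.ProjSpace (m + 1) R) (Twist.twistProjSpace (m + 1) R d) (m + 1),
        ψ x = t (Sheaf.H.map ((SheafOfModules.toSheaf
          (CohB1.ProjSpace (m + 1) R).ringCatSheaf).map φ) (m + 1) x) := by
  classical
  rcases le_or_gt d d' with hle | hlt
  · obtain ⟨k, hk⟩ : ∃ k : ℕ, d' = d + k := ⟨(d' - d).toNat, by omega⟩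
    have hd : d = -((m : ℤ) + 2) - k := by omega
    obtain ⟨u, ℓ, hℓ⟩ := exists_pairing_formula m k d d' hd hd' t
    let ψ₃ : homogeneousSubmodule (Fin (m + 1 + 1)) R k →ₗ[R] R :=
      ((↑u⁻¹ : R)) • (ψ ∘ₗ ℓ.symm.toLinearMap)
    obtain ⟨a, ha, hdot⟩ := dot_exists k ψ₃
    have hex : ∀ x : Coh.HH (CohB1.ProjSpace (m + 1) R) (Twist.twistProjSpace (m + 1) R d)
        (m + 1), ψ x = t (Sheaf.H.map (mulAb (⟨a, ha⟩ : 𝒜 (m + 1) R k) hk) (m + 1) x) := by
      intro x
      rw [hℓ ⟨a, ha⟩ hk x, hdot (ℓ x)]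
      change ψ x = u * ((↑u⁻¹ : R) * ψ (ℓ.symm (ℓ x)))
      rw [LinearEquiv.symm_apply_apply, ← mul_assoc, Units.mul_inv, one_mul]
    refine ⟨mulHom (𝒜 (m + 1) R) (⟨a, ha⟩ : 𝒜 (m + 1) R k) d d' hk, hex, ?_⟩
    intro φ' hφ'
    obtain ⟨a', ha'⟩ := exists_eq_mulHom
      (φ' : Twist.twist (𝒜 (m + 1) R) d ⟶ Twist.twist (𝒜 (m + 1) R) d') k hk
    have haa : a'.1 = a := by
      apply dot_ext a'.2 ha
      intro B hB
      have h1 := hφ' (ℓ.symm ⟨B, hB⟩)
      have h2 := hex (ℓ.symm ⟨B, hB⟩)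
      have h3 : t (Sheaf.H.map ((SheafOfModules.toSheaf
          (CohB1.ProjSpace (m + 1) R).ringCatSheaf).map φ') (m + 1) (ℓ.symm ⟨B, hB⟩)) =
          t (Sheaf.H.map (mulAb a' hk) (m + 1) (ℓ.symm ⟨B, hB⟩)) := by
        rw [ha']
        rfl
      rw [h3, hℓ a' hk] at h1
      rw [hℓ ⟨a, ha⟩ hk] at h2
      rw [LinearEquiv.apply_symm_apply] at h1 h2
      have h4 : (u : R) * dot a'.1 B = u * dot a B := by rw [← h1, ← h2]
      exact u.isUnit.mul_left_cancel h4
    rw [ha']
    congr 1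
    exact Subtype.ext haa
  · have hsub : Subsingleton (Coh.HH (CohB1.ProjSpace (m + 1) R)
        (Twist.twistProjSpace (m + 1) R d) (m + 1)) :=
      Groth.Agent.S0844.result R (m + 1) d (m + 1) (fun h => by omega)
        (fun h => by have := h.2; push_cast at this; omega)
    refine ⟨0, fun x => ?_, fun φ' _ => ?_⟩
    · rw [Subsingleton.elim x 0, map_zero, map_zero, map_zero]
    · exact eq_zero_of_lt (φ' : Twist.twist (𝒜 (m + 1) R) d ⟶ Twist.twist (𝒜 (m + 1) R) d')
        (by omega)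

end perfect

section const

variable (σ : Type v) (R : Type u) [CommRing R]

/-- The homogeneous polynomials of degree `0` are the constants. -/
noncomputable def constEquiv : homogeneousSubmodule σ R 0 ≃ₗ[R] R where
  toFun B := coeff 0 B.1
  map_add' B B' := by simp
  map_smul' r B := by simp
  invFun r := ⟨C r, isHomogeneous_C σ r⟩
  left_inv B := Subtype.ext (by
    have h : B.1.totalDegree = 0 := (totalDegree_zero_iff_isHomogeneous (p := B.1)).2 B.2
    exact (totalDegree_eq_zero_iff_eq_C.mp h).symm)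
  right_inv r := by simp

end const

end Groth.Agent.Lib.Lead.SD
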