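import Groth.Agent.Lib.Lead.SD.CMEquiv2
import Groth.Agent.S0022

/-!
# Depth of coherent sheaves on `P^N_k` at closed points and the Ext sheaves into `ω_P`
-/

set_option autoImplicit false

universe u

open CategoryTheory CategoryTheory.Limits AlgebraicGeometry TopologicalSpace Opposite Abelian

namespace Groth.Agent.Lib.Lead.SD.PnDepth

open Groth.Agent.Lib.Helper29.QCoh Groth.Agent.Lib.Lead.SD.CMVanish
open Groth.Agent.Lib.Helper10.Hartogs Groth.Agent.Lib.Helper17.ExtAff

variable (k : Type u) [Field k] (N : ℕ)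

/-- depth `≥ d` at closed points gives `ℰxt^c(G, L) = 0` for `c > N - d` -/
theorem isZero_extSh_of_depth_closed (G : (CohB1.ProjSpace N k).Modules) (hG : Coh.IsCoh G) (d : ℕ)
    (hdepth : ∀ z : CohB1.ProjSpace N k, IsClosed ({z} : Set (CohB1.ProjSpace N k)) →
      (d : ℕ∞) ≤ LocCoh.depth ((CohB1.ProjSpace N k).presheaf.stalk z) (G.presheaf.stalk z))
    (L : (CohB1.ProjSpace N k).Modules) (hL : PicF.IsInvertible L) (hLc : Coh.IsCoh L)
    [ModSite.HasSheafHom (O := (CohB1.ProjSpace N k).sheaf) G]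
    [HasInjectiveResolutions (ModSite.Mod (CohB1.ProjSpace N k).sheaf)] (c : ℕ)
    (hc : N < c + d) :
    IsZero ((ModSite.extSh (O := (CohB1.ProjSpace N k).sheaf) G c).obj L) := by
  haveI : IsLocallyNoetherian (CohB1.ProjSpace N k) :=
    Groth.Agent.Lib.Lead.Pn.isLocallyNoetherian_projSpace N k
  haveI := hG.1
  haveI := hG.2
  haveI := hLc.1
  haveI := hLc.2
  apply Groth.Agent.Lib.Helper28.DCohRes.isZero_of_locally
  intro x
  obtain ⟨W, e, hW, hxW, -, hT⟩ := exists_affine_isTriv hL (W := ⊤) x trivial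
  haveI : IsNoetherianRing Γ(CohB1.ProjSpace N k, W) :=
    IsLocallyNoetherian.component_noetherian ⟨W, hW⟩
  haveI : Module.Finite Γ(CohB1.ProjSpace N k, W) Γ(G, W) := module_finite_of_isFiniteType _ hW
  refine ⟨Spec Γ(CohB1.ProjSpace N k, W), hW.fromSpec, inferInstance, ?_, ?_⟩
  · rw [hW.range_fromSpec]
    exact hxW
  · obtain ⟨e'⟩ := extSh_restrict_affine G L hG hW c
    have hsub : Subsingleton (Abelian.Ext
        (ModuleCat.of Γ(CohB1.ProjSpace N k, W) Γ(G, W))
        (ModuleCat.of Γ(CohB1.ProjSpace N k, W) Γ(L, W)) c) := by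
      apply Groth.Agent.Lib.Helper16.ExtRegDepth.ext_subsingleton_of_regular_of_depth
        Γ(CohB1.ProjSpace N k, W) Γ(G, W) Γ(L, W) N d
      · intro p _
        exact nonempty_localized_equiv_of_isTriv L e hT p
      · intro p _ _
        exact regular_localization_of_isMaximal k N hW p
      · intro p hp _
        obtain ⟨z, hzW, hz⟩ := exists_point_primeIdealOf_eq hW p
        subst hz
        rw [← depth_stalk_eq_depth_localized G hW z hzW]
        exact hdepth z (isClosed_singleton_of_isMaximal hW z hzW hp)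
      · exact hc
    have hz : IsZero (ModuleCat.of Γ(CohB1.ProjSpace N k, W) (Abelian.Ext
        (ModuleCat.of Γ(CohB1.ProjSpace N k, W) Γ(G, W))
        (ModuleCat.of Γ(CohB1.ProjSpace N k, W) Γ(L, W)) c)) :=
      ModuleCat.isZero_of_subsingleton _
    have hz' := Functor.map_isZero (tilde.functor Γ(CohB1.ProjSpace N k, W)) hz
    exact hz'.of_iso e'

/-- `ℰxt^c(G, L) = 0` for `N - d < c ≤ N` gives depth `≥ d` at closed points -/
theorem le_depth_of_isZero_extSh_closed (G : (CohB1.ProjSpace N k).Modules) (hG : Coh.IsCoh G)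
    (d : ℕ) (L : (CohB1.ProjSpace N k).Modules) (hL : PicF.IsInvertible L) (hLc : Coh.IsCoh L)
    [ModSite.HasSheafHom (O := (CohB1.ProjSpace N k).sheaf) G]
    [HasInjectiveResolutions (ModSite.Mod (CohB1.ProjSpace N k).sheaf)]
    (h : ∀ c : ℕ, N < c + d → c ≤ N →
      IsZero ((ModSite.extSh (O := (CohB1.ProjSpace N k).sheaf) G c).obj L))
    (z : CohB1.ProjSpace N k) (hz : IsClosed ({z} : Set (CohB1.ProjSpace N k))) :
    (d : ℕ∞) ≤ LocCoh.depth ((CohB1.ProjSpace N k).presheaf.stalk z) (G.presheaf.stalk z) := by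
  haveI : IsLocallyNoetherian (CohB1.ProjSpace N k) :=
    Groth.Agent.Lib.Lead.Pn.isLocallyNoetherian_projSpace N k
  haveI := hG.1
  haveI := hG.2
  haveI := hLc.1
  haveI := hLc.2
  obtain ⟨W, e, hW, hzW, -, hT⟩ := exists_affine_isTriv hL (W := ⊤) z trivial
  have hmax : (hW.primeIdealOf ⟨z, hzW⟩).asIdeal.IsMaximal := by
    refine (Groth.Agent.Lib.Helper6.isClosed_singleton_iff_isMaximal hW z hzW).mp ?_
    have h1 := hz.preimage (continuous_subtype_val (p := fun x => x ∈ W))
    have h2 : (Subtype.val : ↥W → ↥(CohB1.ProjSpace N k)) ⁻¹' {z} = {⟨z, hzW⟩} := by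
      ext ⟨x, hx⟩
      simp only [Set.mem_preimage, Set.mem_singleton_iff, Subtype.mk.injEq]
    rwa [h2] at h1
  haveI := hmax
  haveI : IsNoetherianRing Γ(CohB1.ProjSpace N k, W) :=
    IsLocallyNoetherian.component_noetherian ⟨W, hW⟩
  haveI : Module.Finite Γ(CohB1.ProjSpace N k, W) Γ(G, W) := module_finite_of_isFiniteType _ hW
  rw [depth_stalk_eq_depth_localized G hW z hzW]
  exact Groth.Agent.Lib.Helper16.ExtRegDepth.le_depth_of_ext_subsingleton'
    Γ(CohB1.ProjSpace N k, W) Γ(G, W) Γ(L, W) N d (hW.primeIdealOf ⟨z, hzW⟩).asIdeal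
    (nonempty_localized_equiv_of_isTriv L e hT _)
    (regular_localization_of_isMaximal k N hW _)
    (fun q hq1 hq2 => Groth.Agent.Lib.Helper17.ExtDepth.ext_subsingleton_of_isZero
      G L hG hW q (h q hq1 hq2))

end Groth.Agent.Lib.Lead.SD.PnDepth
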