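import Groth.Agent.Lib.Lead.SD.PnDepth

/-!
# `H^i(P^r, F(-m)) = 0` for `i ≤ n`, `m ≫ 0` iff `depth F_x > n` at all closed points
-/

set_option autoImplicit false

universe u

open CategoryTheory CategoryTheory.Limits AlgebraicGeometry TopologicalSpace Opposite Abelian

namespace Groth.Agent.Lib.Lead.SD.PnDepth

open Groth.Agent.Lib.Helper29.QCoh Groth.Agent.Lib.Lead.SD.CMVanish

variable (k : Type u) [Field k] (r : ℕ)

theorem depth_criterion (F : (CohB1.ProjSpace r k).Modules) (hF : Coh.IsCoh F) (n : ℕ) :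
    (∃ m₀ : ℤ, ∀ m : ℤ, m₀ ≤ m → ∀ i : ℕ, i ≤ n →
      Subsingleton (Coh.HH (CohB1.ProjSpace r k) (Twist.twistBy _ F (-m)) i)) ↔
    ∀ x : (CohB1.ProjSpace r k), IsClosed ({x} : Set (CohB1.ProjSpace r k)) →
      (n : ℕ∞) < LocCoh.depth ((CohB1.ProjSpace r k).presheaf.stalk x) (F.presheaf.stalk x) := by
  haveI : EnoughInjectives (CohB1.ProjSpace r k).Modules :=
    Groth.Agent.S0485.result (Opens.grothendieckTopology (CohB1.ProjSpace r k))
      (CohB1.ProjSpace r k).ringCatSheaf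
  haveI : HasInjectiveResolutions (ModSite.Mod (CohB1.ProjSpace r k).sheaf) :=
    inferInstanceAs (HasInjectiveResolutions (CohB1.ProjSpace r k).Modules)
  haveI : ModSite.HasSheafHom (O := (CohB1.ProjSpace r k).sheaf) F :=
    Groth.Agent.Lib.Helper17.IHom.hasSheafHom _
  have hωi := Groth.Agent.Lib.Lead.Pn.isInvertible_twistProjSpace r k (-((r : ℤ) + 1))
  have hωc := Groth.Agent.Lib.Lead.Pn.isCoh_twist r k (-((r : ℤ) + 1))
  have hlt : ∀ d : ℕ∞, ((n + 1 : ℕ) : ℕ∞) ≤ d ↔ (n : ℕ∞) < d := by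
    intro d
    rw [Nat.cast_add, Nat.cast_one]
    exact Order.add_one_le_iff_of_not_isMax (by simp)
  constructor
  · rintro ⟨m₀, hm₀⟩ x hx
    rw [← hlt]
    refine le_depth_of_isZero_extSh_closed k r F hF (n + 1) _ hωi hωc ?_ x hx
    intro c hc1 hc2
    have h1 := (Groth.Agent.Lib.Helper17.DualVanish.vanishing_iff k r F hF (r - c) (by omega)).mp
      ⟨m₀, fun m hm => hm₀ m hm (r - c) (by omega)⟩
    have h2 : r - (r - c) = c := by omega
    rwa [h2] at h1
  · intro h
    have key : ∀ i : ℕ, ∃ m₀ : ℤ, ∀ m : ℤ, m₀ ≤ m → i ≤ n →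
        Subsingleton (Coh.HH (CohB1.ProjSpace r k) (Twist.twistBy _ F (-m)) i) := by
      intro i
      by_cases hin : i ≤ n
      · by_cases hir : i ≤ r
        · have h1 := (Groth.Agent.Lib.Helper17.DualVanish.vanishing_iff k r F hF i hir).mpr
            (isZero_extSh_of_depth_closed k r F hF (n + 1)
              (fun z hz => (hlt _).mpr (h z hz)) _ hωi hωc (r - i) (by omega))
          obtain ⟨m₀, hm₀⟩ := h1
          exact ⟨m₀, fun m hm _ => hm₀ m hm⟩
        · refine ⟨0, fun m _ _ => ?_⟩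
          haveI := hF.1
          haveI := (Groth.Agent.Lib.Lead.Pn.isCoh_twist r k (-m)).1
          have hq : (CohB1.tensorMod F (Twist.twistProjSpace r k (-m))).IsQuasicoherent :=
            inferInstance
          exact @Groth.Agent.S0022.result r k _ _ hq i (by omega)
      · exact ⟨0, fun m _ hi => absurd hi hin⟩
    choose m₀ hm₀ using key
    obtain ⟨D, hD⟩ := Finset.exists_le ((Finset.range (n + 1)).image m₀)
    refine ⟨D, fun m hm i hi => hm₀ i m ?_ hi⟩
    exact (hD (m₀ i) (Finset.mem_image_of_mem _ (Finset.mem_range.mpr (by omega)))).trans hm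

end Groth.Agent.Lib.Lead.SD.PnDepth
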