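import Groth.Agent.Lib.Lead.ExtCodim.Dim

/-!
# Generic points of top-dimensional components of closed subsets of `P^n_k`

For a closed subset `S` of `P^n_k` of dimension `a` there is a point `x ∈ S`, with no proper
generization in `S`, whose local ring has dimension `n - a`.
-/

set_option autoImplicit false

universe u

open CategoryTheory AlgebraicGeometry TopologicalSpace Opposite MvPolynomial

namespace Groth.Agent.Lib.Lead.SD.PnGenPt

section Top

variable {Y : Type*} [TopologicalSpace Y] [QuasiSober Y] [T0Space Y]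

/-- a closed subset of dimension `a` of a sober space contains a strict chain of `a + 1` points whose
last (most generic) member has no proper generization in the subset -/
theorem exists_chain_of_dim (S : Set Y) (hS : IsClosed S) (a : ℕ)
    (hdim : topologicalKrullDim ↥S = (a : WithBot ℕ∞)) :
    ∃ s : Fin (a + 1) → Y, (∀ i, s i ∈ S) ∧
      (∀ i : Fin a, s i.succ ⤳ s i.castSucc ∧ s i.castSucc ≠ s i.succ) ∧
      ∀ y ∈ S, y ⤳ s (Fin.last a) → y = s (Fin.last a) := by
  haveI : QuasiSober ↥S := hS.isClosedEmbedding_subtypeVal.quasiSober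
  letI := specializationOrder ↥S
  have h1 : Order.krullDim ↥S = (a : WithBot ℕ∞) := by
    rw [← hdim, topologicalKrullDim]
    exact (Order.krullDim_eq_of_orderIso irreducibleSetEquivPoints).symm
  obtain ⟨l, rfl⟩ := Order.le_krullDim_iff.1 (le_of_eq h1.symm)
  refine ⟨fun i => (l i).1, fun i => (l i).2, fun i => ?_, fun y hy hspec => ?_⟩
  · have hlt := l.step i
    have hle : l i.castSucc ≤ l i.succ := hlt.le
    refine ⟨(subtype_specializes_iff _ _).mp hle, fun h => ?_⟩
    exact hlt.ne (Subtype.ext h)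
  · by_contra hne
    have hle : l.last ≤ (⟨y, hy⟩ : ↥S) := (subtype_specializes_iff _ _).mpr hspec
    have hlt : l.last < (⟨y, hy⟩ : ↥S) := lt_of_le_of_ne hle (fun h => hne (by
      have := congrArg Subtype.val h
      exact this.symm))
    have h2 := Order.LTSeries.length_le_krullDim (l.snoc ⟨y, hy⟩ hlt)
    rw [h1, RelSeries.snoc_length] at h2
    have h3 : l.length + 1 ≤ l.length := by exact_mod_cast h2
    omega

end Top

section Chart

variable {P : Scheme.{u}} {U : P.Opens} (hU : IsAffineOpen U)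

theorem primeIdealOf_le_iff (x y : P) (hx : x ∈ U) (hy : y ∈ U) :
    hU.primeIdealOf ⟨x, hx⟩ ≤ hU.primeIdealOf ⟨y, hy⟩ ↔ x ⤳ y := by
  rw [PrimeSpectrum.le_iff_specializes]
  have := hU.fromSpec.isOpenEmbedding.isInducing.specializes_iff
    (x := hU.primeIdealOf ⟨x, hx⟩) (y := hU.primeIdealOf ⟨y, hy⟩)
  rw [hU.fromSpec_primeIdealOf, hU.fromSpec_primeIdealOf] at this
  exact this.symm

/-- a strict chain of `a + 1` points in an affine open gives `a ≤ dim Γ(U)/p` for the prime `p` of
the most generic one -/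
theorem le_dim_quotient (a : ℕ) (s : Fin (a + 1) → P) (hmem : ∀ i, s i ∈ U)
    (hs : ∀ i : Fin a, s i.succ ⤳ s i.castSucc ∧ s i.castSucc ≠ s i.succ) :
    (a : WithBot ℕ∞) ≤
      ringKrullDim (Γ(P, U) ⧸ (hU.primeIdealOf ⟨s (Fin.last a), hmem _⟩).asIdeal) := by
  rw [ringKrullDim_quotient, ← Order.krullDim_orderDual]
  let q : Fin (a + 1) → PrimeSpectrum Γ(P, U) := fun i => hU.primeIdealOf ⟨s i, hmem i⟩
  have hq : ∀ i : Fin a, q i.succ < q i.castSucc := fun i => by
    refine lt_of_le_of_ne ((primeIdealOf_le_iff hU _ _ _ _).mpr (hs i).1) (fun h => (hs i).2 ?_)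
    have h' := congrArg (fun z => hU.fromSpec z) h
    simp only [q] at h'
    rw [hU.fromSpec_primeIdealOf, hU.fromSpec_primeIdealOf] at h'
    exact h'.symm
  have hanti : Antitone q := Fin.antitone_iff_succ_le.mpr (fun i => (hq i).le)
  have hlast : ∀ i, q (Fin.last a) ≤ q i := fun i => hanti (Fin.le_last i)
  have hmemZ : ∀ i, q i ∈ PrimeSpectrum.zeroLocus
      (((hU.primeIdealOf ⟨s (Fin.last a), hmem _⟩).asIdeal : Ideal Γ(P, U)) : Set Γ(P, U)) :=
    fun i => by
      rw [PrimeSpectrum.mem_zeroLocus]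
      exact SetLike.coe_subset_coe.mpr (hlast i)
  let L : LTSeries (↥(PrimeSpectrum.zeroLocus
      (((hU.primeIdealOf ⟨s (Fin.last a), hmem _⟩).asIdeal : Ideal Γ(P, U)) : Set Γ(P, U))))ᵒᵈ :=
    { length := a
      toFun := fun i => OrderDual.toDual ⟨q i, hmemZ i⟩
      step := fun i => by
        change (⟨q i.succ, hmemZ _⟩ : ↥(PrimeSpectrum.zeroLocus _)) < ⟨q i.castSucc, hmemZ _⟩
        exact hq i }
  exact Order.LTSeries.length_le_krullDim L

end Chart

section Formula

/-- the dimension formula in a ring isomorphic to a polynomial ring -/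
theorem card_eq_height_add_dim (k : Type u) [Field k] {σ : Type} [Finite σ] {R : Type u} [CommRing R]
    (e : MvPolynomial σ k ≃+* R) (p : Ideal R) [hp : p.IsPrime] :
    ((Nat.card σ : ℕ) : WithBot ℕ∞) = (p.height : WithBot ℕ∞) + ringKrullDim (R ⧸ p) := by
  let p' : Ideal (MvPolynomial σ k) := p.comap (e : MvPolynomial σ k →+* R)
  haveI : p'.IsPrime := Ideal.comap_isPrime _ p
  have h1 := Groth.Agent.Lib.Helper11.AlgInd.height_add_dim_quotient k (MvPolynomial σ k) p'
  have h2 : ringKrullDim (MvPolynomial σ k) = ((Nat.card σ : ℕ) : WithBot ℕ∞) := by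
    rw [MvPolynomial.ringKrullDim_of_isNoetherianRing, ringKrullDim_eq_zero_of_field, zero_add]
  have h3 : p'.height = p.height := RingEquiv.height_comap e p
  have e' : MvPolynomial σ k ⧸ p' ≃+* R ⧸ p :=
    Ideal.quotientEquiv p' p e
      (Ideal.map_comap_of_surjective (e : MvPolynomial σ k →+* R) e.surjective p).symm
  rw [← h2, h1, h3, ringKrullDim_eq_of_ringEquiv e']

end Formula

section Main

open Groth.Agent.Lib.Helper25.ChartPoly Groth.Agent.Lib.Helper25.SepPts
  Groth.Agent.Lib.Helper25.BertiniPn Groth.Agent.Lib.Helper29.QCoh Groth.Agent.Lib.Lead.ExtCodim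

variable (k : Type u) [Field k] (n : ℕ)

theorem exists_generic_point_codim_aux (a : ℕ) (S : Set ↥(Proj (CohB1.polyGrading n k)))
    (hS : IsClosed S) (hdim : topologicalKrullDim ↥S = (a : WithBot ℕ∞)) :
    ∃ x ∈ S, ringKrullDim ((Proj (CohB1.polyGrading n k)).presheaf.stalk x) + (a : WithBot ℕ∞) =
        (n : WithBot ℕ∞) ∧ ∀ y ∈ S, y ⤳ x → y = x := by
  haveI hQS : QuasiSober ↥(Proj (CohB1.polyGrading n k)) := inferInstance
  obtain ⟨s, hsS, hs, hmax⟩ :=
    exists_chain_of_dim (Y := ↥(Proj (CohB1.polyGrading n k))) S hS a hdim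
  obtain ⟨j, hj⟩ := exists_mem_basicOpen_X n k (s 0)
  have hU : IsAffineOpen (chartU k n j) :=
    Groth.Agent.Lib.Helper25.BertiniPn.isAffineOpen_chartU k n j
  have hspec0 : ∀ i : Fin (a + 1), s i ⤳ s 0 := by
    intro i
    induction i using Fin.induction with
    | zero => exact specializes_rfl
    | succ i ih => exact (hs i).1.trans ih
  have hmem : ∀ i, s i ∈ chartU k n j := fun i => (hspec0 i).mem_open (chartU k n j).isOpen hj
  refine ⟨s (Fin.last a), hsS _, ?_, hmax⟩
  letI : Algebra Γ(Proj (CohB1.polyGrading n k), chartU k n j)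
      ((Proj (CohB1.polyGrading n k)).presheaf.stalk (s (Fin.last a))) :=
    TopCat.Presheaf.algebra_section_stalk (Proj (CohB1.polyGrading n k)).presheaf
      ⟨s (Fin.last a), hmem _⟩
  haveI := hU.isLocalization_stalk ⟨s (Fin.last a), hmem _⟩
  have h1 : ringKrullDim ((Proj (CohB1.polyGrading n k)).presheaf.stalk (s (Fin.last a))) =
      ((hU.primeIdealOf ⟨s (Fin.last a), hmem _⟩).asIdeal.height : WithBot ℕ∞) :=
    IsLocalization.AtPrime.ringKrullDim_eq_height _ _
  have h2 := card_eq_height_add_dim k (chartEquiv k n j)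
    (hU.primeIdealOf ⟨s (Fin.last a), hmem _⟩).asIdeal
  rw [card_chart] at h2
  have h3 := le_dim_quotient hU a s hmem hs
  rw [h1]
  set h := (hU.primeIdealOf ⟨s (Fin.last a), hmem _⟩).asIdeal.height with hh
  set D := ringKrullDim (Γ(Proj (CohB1.polyGrading n k), chartU k n j) ⧸
    (hU.primeIdealOf ⟨s (Fin.last a), hmem _⟩).asIdeal) with hD
  -- extract natural numbers
  have hDbot : D ≠ ⊥ := fun hb => by
    rw [hb] at h3
    exact absurd h3 (by simp)
  obtain ⟨D₁, hD₁⟩ := WithBot.ne_bot_iff_exists.mp hDbot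
  rw [← hD₁] at h2 h3
  have h2' : ((n : ℕ) : ℕ∞) = h + D₁ := by
    have : (((n : ℕ) : ℕ∞) : WithBot ℕ∞) = ((h + D₁ : ℕ∞) : WithBot ℕ∞) := by
      rw [WithBot.coe_add]
      exact h2
    exact WithBot.coe_eq_coe.mp this
  have h3' : ((a : ℕ) : ℕ∞) ≤ D₁ := by
    have : (((a : ℕ) : ℕ∞) : WithBot ℕ∞) ≤ ((D₁ : ℕ∞) : WithBot ℕ∞) := h3
    exact WithBot.coe_le_coe.mp this
  have hhtop : h ≠ ⊤ := fun ht => by
    rw [ht, top_add] at h2'
    exact absurd h2' (ENat.natCast_ne_top n)
  have hDtop : D₁ ≠ ⊤ := fun ht => by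
    rw [ht, add_top] at h2'
    exact absurd h2' (ENat.natCast_ne_top n)
  obtain ⟨h', hh'⟩ := ENat.ne_top_iff_exists.mp hhtop
  obtain ⟨D', hD'⟩ := ENat.ne_top_iff_exists.mp hDtop
  rw [← hh', ← hD'] at h2'
  rw [← hD'] at h3'
  have e1 : n = h' + D' := by exact_mod_cast h2'
  have e2 : a ≤ D' := by exact_mod_cast h3'
  -- the reduced closed subscheme structure on `S`
  let I := Scheme.IdealSheafData.vanishingIdeal (X := Proj (CohB1.polyGrading n k)) ⟨S, hS⟩
  have hrange : Set.range I.subschemeι = S := by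
    rw [Scheme.IdealSheafData.range_subschemeι]
    exact Scheme.IdealSheafData.coe_support_vanishingIdeal _
  obtain ⟨y, hy⟩ : s (Fin.last a) ∈ Set.range I.subschemeι := by
    rw [hrange]
    exact hsS _
  have hdimX : topologicalKrullDim ↥I.subscheme ≤ (a : WithBot ℕ∞) := by
    rw [← hdim]
    let f : ↥I.subscheme → ↥S := fun z => ⟨I.subschemeι z, by
      rw [← hrange]
      exact ⟨z, rfl⟩⟩
    have hf : Topology.IsInducing f := by
      have hc : Continuous f := Continuous.subtype_mk I.subschemeι.continuous _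
      have : Topology.IsInducing (Subtype.val ∘ f) := I.subschemeι.isClosedEmbedding.isInducing
      exact Topology.IsInducing.of_comp hc continuous_subtype_val this
    exact hf.topologicalKrullDim_le
  have hr : topologicalKrullDim ↥I.subscheme + ((n - a : ℕ) : WithBot ℕ∞) ≤ (n : WithBot ℕ∞) := by
    calc topologicalKrullDim ↥I.subscheme + ((n - a : ℕ) : WithBot ℕ∞)
        ≤ (a : WithBot ℕ∞) + ((n - a : ℕ) : WithBot ℕ∞) := add_le_add hdimX le_rfl
      _ = (n : WithBot ℕ∞) := by
          have : a + (n - a) = n := by omega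
          exact_mod_cast this
  have h4 := le_ringKrullDim_stalk k n I.subschemeι (n - a) hr y
  rw [hy, h1, ← hh'] at h4
  have e3 : n - a ≤ h' := by
    have h4' : ((((n - a : ℕ) : ℕ∞)) : WithBot ℕ∞) ≤ (((h' : ℕ) : ℕ∞) : WithBot ℕ∞) := h4
    exact_mod_cast WithBot.coe_le_coe.mp h4'
  rw [← hh']
  have : h' + a = n := by omega
  exact_mod_cast this

theorem exists_generic_point_codim (a : ℕ) (S : Set ↥(CohB1.ProjSpace n k)) (hS : IsClosed S)
    (hdim : topologicalKrullDim ↥S = (a : WithBot ℕ∞)) :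
    ∃ x ∈ S, ringKrullDim ((CohB1.ProjSpace n k).presheaf.stalk x) + (a : WithBot ℕ∞) =
        (n : WithBot ℕ∞) ∧ ∀ y ∈ S, y ⤳ x → y = x :=
  exists_generic_point_codim_aux k n a S hS hdim

end Main

end Groth.Agent.Lib.Lead.SD.PnGenPt
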