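import Groth.Agent.Lib.Lead.SD.QCohDual
import Groth.Agent.Lib.Helper12.ClosedPullbackEpi
import Groth.Agent.Lib.Helper29.VA7
import Groth.Agent.Lib.Helper29.QCohPush
import Groth.Agent.S0042
import Groth.Agent.S0032
import Groth.Agent.S0846
import Groth.Agent.S9514

/-!
# Dualizing pairs on a closed subscheme of `P^n_A`: from twists to all quasi-coherent modules
-/

set_option autoImplicit false

universe u

open CategoryTheory CategoryTheory.Limits AlgebraicGeometry Opposite TopologicalSpace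

namespace Groth.Agent.Lib.Lead.SD.ProjPerf

open Groth.Agent.Lib.Lead.LinLES Groth.Agent.Lib.Lead.SD

attribute [local instance] CategoryTheory.Abelian.hasFiniteBiproducts

section abstract

variable (A : Type u) [CommRing A] {X : Scheme.{u}} [X.Over (Spec (CommRingCat.of A))]
variable {n : ℕ} {ω : X.Modules} {t : Coh.HH X ω n →ₗ[A] A}

theorem perf_of_iso {F F' : X.Modules} (e : F ≅ F') (h : Perf A n ω t F) : Perf A n ω t F' := by
  intro ψ'
  obtain ⟨φ, hφ, hφu⟩ := h (ψ' ∘ₗ Canon.HHlin A e.hom n)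
  refine ⟨e.inv ≫ φ, ?_, ?_⟩
  · intro x
    rw [HHlin_comp, ← hφ, LinearMap.comp_apply, ← HHlin_comp, e.inv_hom_id, HHlin_id]
  · intro φ' hφ'
    have h1 : e.hom ≫ φ' = φ := hφu _ fun y => by
      rw [HHlin_comp]
      exact hφ' _
    rw [← h1, e.inv_hom_id_assoc]

end abstract

section vanishing

/-- a sheaf of abelian groups with vanishing stalks has no nonzero global sections -/
theorem subsingleton_top_of_isZero_stalk {S : TopCat.{u}} (G : TopCat.Sheaf AddCommGrpCat.{u} S)
    (h : ∀ y : S, IsZero (TopCat.Presheaf.stalk (C := AddCommGrpCat.{u}) G.obj y)) :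
    Subsingleton (G.obj.obj (op ⊤)) := by
  refine ⟨fun s s' => ?_⟩
  apply TopCat.Presheaf.section_ext G ⊤
  intro x hx
  haveI : Subsingleton (TopCat.Presheaf.stalk (C := AddCommGrpCat.{u}) G.obj x) :=
    AddCommGrpCat.subsingleton_of_isZero (h x)
  exact Subsingleton.elim _ _

/-- cohomology of coherent modules vanishes above the fibre dimension, over a Noetherian affine
base -/
theorem subsingleton_HH_of_fibre_dim {X S : Scheme.{u}} (f : X ⟶ S) [IsProper f] [IsAffine S]
    [IsLocallyNoetherian S] (r : ℕ)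
    (hfib : ∀ y : S, topologicalKrullDim ↥(f.fiber y) ≤ (r : WithBot ℕ∞))
    (M : X.Modules) (hM : Coh.IsCoh M) (p : ℕ) (hp : r < p) : Subsingleton (Coh.HH X M p) := by
  haveI : Coh.IsQCoh M := hM.1
  obtain ⟨e⟩ := Groth.Agent.S0032.result f M p
  haveI := subsingleton_top_of_isZero_stalk ((Coh.RpushAb f p).obj (Coh.toAb M))
    (fun y => Groth.Agent.S0042.result f y r (hfib y) M hM p hp)
  exact e.toEquiv.subsingleton

end vanishing

section proj

open Groth.Agent.Lib.Helper29.QCoh

variable (A : Type u) [CommRing A] [IsNoetherianRing A] (n r : ℕ)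
  {X : Scheme.{u}} [X.Over (Spec (CommRingCat.of A))]
  (ι : X ⟶ CohB1.ProjSpace n A) [IsClosedImmersion ι]

omit [X.Over (Spec (CommRingCat.of A))] in
/-- every coherent module on a closed subscheme of `P^n_A` is a quotient of a finite sum of
twists -/
theorem exists_epi_twists (F : X.Modules) (hF : Coh.IsCoh F) :
    ∃ (s : ℕ) (d : Fin s → ℤ)
      (φ : (⨁ fun j : Fin s => (Scheme.Modules.pullback ι).obj (Twist.twistProjSpace n A (d j)) :
        X.Modules) ⟶ F), Epi φ := by
  haveI : F.IsQuasicoherent := hF.1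
  haveI : F.IsFiniteType := hF.2
  have hpush : Coh.IsCoh ((Scheme.Modules.pushforward ι).obj F) :=
    ⟨isQuasicoherent_pushforward_of_isAffineHom ι F, isFiniteType_pushforward_of_isFinite ι F⟩
  obtain ⟨s, d, φ, hφ⟩ := Groth.Agent.S0846.result (CohB1.polyGrading n A) _ hpush
  let L : Fin s → (CohB1.ProjSpace n A).Modules := fun j => Twist.twistProjSpace n A (d j)
  let φ₀ : (∐ L : (CohB1.ProjSpace n A).Modules) ⟶ (Scheme.Modules.pushforward ι).obj F := φ
  haveI : Epi φ₀ := hφ
  have h1 := (H12S19488.main ι (∐ L) F φ₀).1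
  let e : (Scheme.Modules.pullback ι).obj (∐ L) ≅
      ∐ fun j => (Scheme.Modules.pullback ι).obj (L j) :=
    PreservesCoproduct.iso (Scheme.Modules.pullback ι) L
  refine ⟨s, d, (biproduct.isoCoproduct _).hom ≫ e.inv ≫
    ((Scheme.Modules.pullbackPushforwardAdjunction ι).homEquiv (∐ L) F).symm φ₀, ?_⟩
  haveI := h1
  haveI : Epi (e.inv ≫
      ((Scheme.Modules.pullbackPushforwardAdjunction ι).homEquiv (∐ L) F).symm φ₀) :=
    epi_comp _ _
  exact epi_comp _ _

variable {n r}

omit [IsNoetherianRing A] in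
theorem perf_of_bijective {ω : X.Modules} {tr : Coh.HH X ω r →ₗ[A] A} {F : X.Modules}
    (h : Function.Bijective (Canon.dualityMap A X r ω tr F)) : Perf A r ω tr F := by
  intro ψ
  obtain ⟨φ, hφ⟩ := h.2 ψ
  refine ⟨φ, fun x => ?_, fun φ' hφ' => ?_⟩
  · rw [← hφ]
    rfl
  · apply h.1
    rw [hφ]
    apply LinearMap.ext
    intro x
    exact (hφ' x).symm

/-- **From twists to all quasi-coherent modules.** -/
theorem isRDualOver_of_twists
    (hι : ι ≫ CohB1.ProjSpace.toSpec n A = X ↘ Spec (CommRingCat.of A))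
    (hfib : ∀ y : ↥(Spec (CommRingCat.of A)),
      topologicalKrullDim ↥((X ↘ Spec (CommRingCat.of A)).fiber y) ≤ (r : WithBot ℕ∞))
    (ω : X.Modules) (hω : Coh.IsQCoh ω) (tr : Coh.HH X ω r →ₗ[A] A)
    (h : ∀ m : ℤ, Function.Bijective
      (Canon.dualityMap A X r ω tr
        ((Scheme.Modules.pullback ι).obj (Twist.twistProjSpace n A m)))) :
    Canon.IsRDualOver A X r ω tr := by
  haveI : IsProper (X ↘ Spec (CommRingCat.of A)) := by
    rw [← hι]
    infer_instance
  haveI : IsLocallyNoetherian X :=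
    LocallyOfFiniteType.isLocallyNoetherian (X ↘ Spec (CommRingCat.of A))
  haveI : CompactSpace X :=
    QuasiCompact.compactSpace_of_compactSpace (X ↘ Spec (CommRingCat.of A))
  haveI : QuasiSeparatedSpace X :=
    quasiSeparatedSpace_of_quasiSeparated (X ↘ Spec (CommRingCat.of A))
  refine isRDualOver_of_perf A r ω hω tr fun F hF => ?_
  obtain ⟨s, d, φ, hφ⟩ := exists_epi_twists A n ι F hF
  haveI : Epi φ := hφ
  have hcohL : ∀ (s : ℕ) (d : Fin s → ℤ), Coh.IsCoh
      (⨁ fun j : Fin s => (Scheme.Modules.pullback ι).obj (Twist.twistProjSpace n A (d j)) :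
        X.Modules) := fun s d =>
    isCoh_biproduct _ fun j =>
      Groth.Agent.Lib.Helper12.H12ConsP.isCoh_pullback ι _
        (Groth.Agent.Lib.Lead.Pn.isCoh_twist n A (d j))
  have hK : Coh.IsCoh (kernel φ) := (Groth.Agent.S9514.result _ (hcohL s d) hF φ).1
  obtain ⟨s', d', ψ, hψ⟩ := exists_epi_twists A n ι (kernel φ) hK
  haveI : Epi ψ := hψ
  have hsub : Subsingleton (Coh.HH X (kernel φ) (r + 1)) :=
    subsingleton_HH_of_fibre_dim (X ↘ Spec (CommRingCat.of A)) r hfib _ hK (r + 1)
      (Nat.lt_succ_self r)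
  exact perf_of_presentation φ ψ
    (perf_biproduct _ fun j => perf_of_bijective A (h (d j)))
    (perf_biproduct _ fun j => perf_of_bijective A (h (d' j))) hsub

end proj

end Groth.Agent.Lib.Lead.SD.ProjPerf
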