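import Groth.Agent.Lib.Lead.SD.LowVanish
import Groth.Agent.Lib.Helper29.VA7
import Groth.Agent.Lib.Helper29.PullTensor
import Groth.Agent.Lib.Helper29.TwistPn
import Groth.Agent.Lib.Helper29.Twist4
import Groth.Agent.Lib.Helper10.OrbitDim2
import Groth.Agent.S1108
import Groth.Agent.S0458
import Groth.Agent.S9514

/-!
# Cohomological dimension on quasi-projective schemes over a field is detected by vector bundles
-/

set_option autoImplicit false

universe u

open CategoryTheory CategoryTheory.Limits AlgebraicGeometry Opposite TopologicalSpace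

namespace Groth.Agent.Lib.Lead.SD

open Groth.Agent.Lib.Lead.LinLES

/-- In a short exact sequence, `H^q(X₂) = 0` and `H^{q+1}(X₁) = 0` imply `H^q(X₃) = 0`. -/
lemma subsingleton_HH_X₃ {X : Scheme.{u}} (S : ShortComplex X.Modules) (hS : S.ShortExact) (q : ℕ)
    (h2 : Subsingleton (Coh.HH X S.X₂ q)) (h1 : Subsingleton (Coh.HH X S.X₁ (q + 1))) :
    Subsingleton (Coh.HH X S.X₃ q) := by
  refine subsingleton_of_forall_eq 0 fun x₃ => ?_
  have h0 : (Abelian.Ext.comp x₃ (eC S hS) rfl : Coh.HH X S.X₁ (q + 1)) = 0 :=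
    Subsingleton.elim _ _
  obtain ⟨x₂, hx₂⟩ := Abelian.Ext.covariant_sequence_exact₃ _ (abS_shortExact S hS) x₃ rfl h0
  have hx0 : x₂ = 0 := @Subsingleton.elim _ h2 _ _
  subst hx0
  exact hx₂.symm.trans (Abelian.Ext.zero_comp _ _ _ _ _)

open Groth.Agent.Lib.Helper29.QCoh in
theorem subsingleton_HH_of_locFree_vanish (k : Type u) [Field k] (N : ℕ) {X : Scheme.{u}}
    (ι : X ⟶ CohB1.ProjSpace N k) [IsImmersion ι] (n : ℕ)
    (h : ∀ E : X.Modules, FlatMod.IsFinLocFree E → ∀ i : ℕ, n < i → Subsingleton (Coh.HH X E i))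
    (F : X.Modules) (hF : Coh.IsCoh F) (i : ℕ) (hi : n < i) :
    Subsingleton (Coh.HH X F i) := by
  haveI hprop := isProper_toSpec N k
  haveI : IsLocallyNoetherian (CohB1.ProjSpace N k) :=
    LocallyOfFiniteType.isLocallyNoetherian (CohB1.ProjSpace.toSpec N k)
  haveI : CompactSpace (CohB1.ProjSpace N k) :=
    QuasiCompact.compactSpace_of_compactSpace (CohB1.ProjSpace.toSpec N k)
  haveI : IsNoetherian (CohB1.ProjSpace N k) := {}
  haveI : NoetherianSpace (CohB1.ProjSpace N k) := inferInstance
  haveI : NoetherianSpace X := ι.isEmbedding.isInducing.noetherianSpace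
  haveI : CompactSpace X := inferInstance
  let f : X ⟶ Spec (CommRingCat.of k) := ι ≫ CohB1.ProjSpace.toSpec N k
  haveI : LocallyOfFiniteType f := inferInstance
  haveI : IsLocallyNoetherian X := LocallyOfFiniteType.isLocallyNoetherian f
  haveI : QuasiCompact f := (quasiCompact_iff_compactSpace f).mpr inferInstance
  have hdim : topologicalKrullDim ↥X < ⊤ := Groth.Agent.Lib.Helper10.OrbitDim.dim_lt_top f
  obtain ⟨d, hd⟩ : ∃ d : ℕ, topologicalKrullDim ↥X ≤ (d : WithBot ℕ∞) := by
    rcases h0 : topologicalKrullDim ↥X with _ | a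
    · exact ⟨0, bot_le⟩
    · rcases a with _ | a
      · rw [h0] at hdim
        exact absurd hdim (lt_irrefl _)
      · exact ⟨a, le_rfl⟩
  have hO1 : CohB1.IsAmple (Twist.twistProjSpace N k 1) :=
    isAmple_twist_one_of_cover (projSpace_degree_one_cover N k)
  have hL : CohB1.IsAmple ((Scheme.Modules.pullback ι).obj (Twist.twistProjSpace N k 1)) :=
    isAmple_pullback_of_isEmbedding ι ι.isEmbedding hO1
  have hres := Groth.Agent.S1108.result X _ hL
  have key : ∀ m : ℕ, ∀ j : ℕ, n < j → d + 1 ≤ j + m → ∀ G : X.Modules, Coh.IsCoh G →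
      Subsingleton (Coh.HH X G j) := by
    intro m
    induction m with
    | zero =>
      intro j _ hjd G _
      exact Groth.Agent.S0458.result (X := X.carrier) d hd (Coh.toAb G) j (by omega)
    | succ m ih =>
      intro j hj hjm G hG
      obtain ⟨E, π, hE, hπ⟩ := hres G hG.1 hG.2
      haveI : Epi π := hπ
      have hEc : Coh.IsCoh E := isCoh_of_isFinLocFree hE
      have hK : Coh.IsCoh (kernel π) := (Groth.Agent.S9514.result _ hEc hG π).1
      let S : ShortComplex X.Modules := ShortComplex.mk (kernel.ι π) π (kernel.condition π)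
      have hS : S.ShortExact :=
        { exact := ShortComplex.exact_of_f_is_kernel _ (kernelIsKernel π)
          mono_f := inferInstanceAs (Mono (kernel.ι π))
          epi_g := hπ }
      exact subsingleton_HH_X₃ S hS j (h E hE j hj) (ih (j + 1) (by omega) (by omega) _ hK)
  exact key (d + 1) i hi (by omega) F hF

end Groth.Agent.Lib.Lead.SD
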