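import Groth.Agent.Lib.Lead.SD.Theta
import Groth.Agent.Lib.Lead.SD.ExtTwist
import Groth.Agent.Lib.Lead.Koszul.SerreVanish
import Groth.Agent.Lib.Lead.Koszul.Resol2
import Groth.Agent.S11314
import Groth.Agent.S9514
import Groth.Agent.S0844

/-!
# Serre duality on projective space over a field

For `P = P^n_k`, `ω = O(-n-1)`, a trace `t : H^n(P, ω) → k` with the dualizing property in degree
zero, the Yoneda maps `θ^i : Ext^i(F, ω) → H^{n-i}(P, F)^*` are bijective for every coherent `F`
and every `i ≤ n`, and `Ext^i(F, ω) = 0` for `i > n`.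
-/

set_option autoImplicit false

universe u

open CategoryTheory CategoryTheory.Limits AlgebraicGeometry Opposite Abelian TopologicalSpace

namespace Groth.Agent.Lib.Lead.SD

open Groth.Agent.Lib.Lead.LinLES Groth.Agent.Lib.Helper29.QCoh Groth.Agent.Lib.Lead.Pn
  Groth.Agent.Lib.Lead.Koszul

attribute [local instance] CategoryTheory.Abelian.hasFiniteBiproducts

section linalg

variable {k : Type u} [Field k] {V W : Type u} [AddCommGroup V] [Module k V] [AddCommGroup W]
  [Module k W]

/-- Linear forms extend along injective linear maps. -/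
lemma exists_extend_of_injective (f : V →ₗ[k] W) (hf : Function.Injective f) (ψ : V →ₗ[k] k) :
    ∃ χ : W →ₗ[k] k, χ ∘ₗ f = ψ := by
  obtain ⟨g, hg⟩ := LinearMap.exists_leftInverse_of_injective f (LinearMap.ker_eq_bot.mpr hf)
  exact ⟨ψ ∘ₗ g, by rw [LinearMap.comp_assoc, hg, LinearMap.comp_id]⟩

/-- A linear form vanishing on the kernel of `f` factors through `f`. -/
lemma exists_factor_of_ker_le (f : V →ₗ[k] W) (ψ : V →ₗ[k] k)
    (h : ∀ x, f x = 0 → ψ x = 0) : ∃ χ : W →ₗ[k] k, χ ∘ₗ f = ψ := by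
  have hle : LinearMap.ker f ≤ LinearMap.ker ψ := fun x hx => h x hx
  let ψ' : LinearMap.range f →ₗ[k] k :=
    ((LinearMap.ker f).liftQ ψ hle) ∘ₗ (f.quotKerEquivRange.symm : _ →ₗ[k] _)
  obtain ⟨χ, hχ⟩ := LinearMap.exists_extend ψ'
  refine ⟨χ, LinearMap.ext fun x => ?_⟩
  have h1 : χ (f x) = ψ' ⟨f x, LinearMap.mem_range_self f x⟩ := by
    rw [← hχ]
    rfl
  rw [LinearMap.comp_apply, h1]
  change (LinearMap.ker f).liftQ ψ hle (f.quotKerEquivRange.symm ⟨f x, _⟩) = ψ x
  rw [LinearMap.quotKerEquivRange_symm_apply_image]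
  rfl

lemma subsingleton_dual_iff : Subsingleton (Module.Dual k V) ↔ Subsingleton V := by
  constructor
  · intro h
    refine subsingleton_of_forall_eq 0 fun v => ?_
    rw [← Module.forall_dual_apply_eq_zero_iff k v]
    intro φ
    rw [Subsingleton.elim φ 0]
    rfl
  · intro h
    refine subsingleton_of_forall_eq 0 fun φ => ?_
    apply LinearMap.ext
    intro x
    rw [Subsingleton.elim x 0, map_zero, map_zero]

end linalg

section general

variable {X : Scheme.{u}} [HasExt.{u} X.Modules]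

/-- `Ext^m(⨁ L, G) = 0` if every `Ext^m(L j, G) = 0`. -/
lemma subsingleton_ext_biproduct {ι : Type} [Fintype ι] (L : ι → X.Modules) (G : X.Modules)
    (m : ℕ) (h : ∀ j, Subsingleton (Ext (L j) G m)) :
    Subsingleton (Ext (⨁ L : X.Modules) G m) := by
  classical
  refine subsingleton_of_forall_eq 0 fun α => ?_
  have h1 : α = ∑ j : ι, (Ext.mk₀ (biproduct.π L j)).comp
      ((Ext.mk₀ (biproduct.ι L j)).comp α (zero_add m)) (zero_add m) := by
    have h2 : ∀ s : Finset ι, (Ext.mk₀ (∑ j ∈ s, biproduct.π L j ≫ biproduct.ι L j)).comp α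
        (zero_add m) = ∑ j ∈ s, (Ext.mk₀ (biproduct.π L j)).comp
          ((Ext.mk₀ (biproduct.ι L j)).comp α (zero_add m)) (zero_add m) := by
      intro s
      induction s using Finset.induction_on with
      | empty => rw [Finset.sum_empty, Finset.sum_empty, Ext.mk₀_zero, Ext.zero_comp]
      | insert a s ha ih =>
        rw [Finset.sum_insert ha, Finset.sum_insert ha, Ext.mk₀_add, Ext.add_comp, ih,
          Ext.mk₀_comp_mk₀_assoc]
    rw [← h2, biproduct.total, Ext.mk₀_id_comp]
  rw [h1]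
  apply Finset.sum_eq_zero
  intro j _
  rw [@Subsingleton.elim _ (h j) ((Ext.mk₀ (biproduct.ι L j)).comp α (zero_add m)) 0,
    Ext.comp_zero]

end general

section Pn

variable (k : Type u) [Field k] (n : ℕ)

/-- A presentation of a coherent module on `P^n_k` by a finite sum of copies of `O(-q)`, `q ≥ 1`. -/
theorem exists_presentation (F : (CohB1.ProjSpace n k).Modules) (hF : Coh.IsCoh F) :
    ∃ (b : ℕ) (q : ℤ) (_ : 1 ≤ q)
      (φ : (⨁ fun _ : Fin b => Twist.twistProjSpace n k (-q)) ⟶ F), Epi φ := by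
  obtain ⟨j₀, hj₀⟩ := exists_vanishing_tw n k F hF
  obtain ⟨b, φ, hφ, -⟩ := exists_epi_coprod_twist_kernel_regular n k F hF (max (j₀ + n) 1)
    (fun r hr p hp1 hpn => hj₀ _ (by
      have := le_max_left (j₀ + (n : ℤ)) 1
      have hp : (p : ℤ) ≤ n := by exact_mod_cast hpn
      omega) p hp1)
  have := hφ
  exact ⟨b, max (j₀ + n) 1, le_max_right _ _, (biproduct.isoCoproduct _).hom ≫ φ,
    epi_comp _ _⟩

variable [HasExt.{u} (CohB1.ProjSpace n k).Modules]

/-- The sums of negative twists have no higher `Ext` into `ω`. -/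
lemma subsingleton_ext_sum_twist (b : ℕ) (q : ℤ) (hq : 1 ≤ q) (m : ℕ) (hm : 1 ≤ m) :
    Subsingleton (Ext (⨁ fun _ : Fin b => Twist.twistProjSpace n k (-q))
      (Twist.twistProjSpace n k (-((n : ℤ) + 1))) m) :=
  subsingleton_ext_biproduct _ _ m fun _ =>
    subsingleton_ext_twist n k (-q) (-((n : ℤ) + 1)) m hm (by omega)

omit [HasExt.{u} (CohB1.ProjSpace n k).Modules] in
/-- The sums of negative twists have no cohomology below the top degree. -/
lemma subsingleton_HH_sum_twist (b : ℕ) (q : ℤ) (hq : 1 ≤ q) (j : ℕ) (hj : j < n) :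
    Subsingleton (Coh.HH (CohB1.ProjSpace n k)
      (⨁ fun _ : Fin b => Twist.twistProjSpace n k (-q)) j) :=
  subsingleton_HH_biproduct k _ j fun _ =>
    Groth.Agent.S0844.result k n (-q) j (by omega) (by omega)

omit [HasExt.{u} (CohB1.ProjSpace n k).Modules] in
lemma isCoh_sum_twist (b : ℕ) (q : ℤ) :
    Coh.IsCoh (⨁ fun _ : Fin b => Twist.twistProjSpace n k (-q)) :=
  isCoh_biproduct _ fun _ => isCoh_twist n k (-q)

end Pn

end Groth.Agent.Lib.Lead.SD
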