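import Groth.Agent.Lib.Lead.SD.LowVanish
import Groth.Agent.Lib.Lead.Koszul.H1Seq

/-!
# Cohomology of finite biproducts as a product; `h^0` of sums of line bundles on `P^1`
-/

set_option autoImplicit false

universe u

open CategoryTheory CategoryTheory.Limits AlgebraicGeometry Opposite TopologicalSpace MvPolynomial

namespace Groth.Agent.Lib.Lead.SD

open Groth.Agent.Lib.Lead.LinLES Groth.Agent.Lib.Lead.Pn Groth.Agent.Lib.Lead.Koszul
open Groth.Agent.Lib.Helper29.QCoh Groth.Agent.Lib.Lead.TwistExact

attribute [local instance] CategoryTheory.Abelian.hasFiniteBiproducts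

section biprod

variable (A : Type u) [CommRing A] {X : Scheme.{u}} [X.Over (Spec (CommRingCat.of A))]
  {ι : Type} [Fintype ι]

/-- The cohomology of a finite biproduct is the product of the cohomologies. -/
noncomputable def HHbiprodEquiv (L : ι → X.Modules) (q : ℕ) :
    Coh.HH X (⨁ L : X.Modules) q ≃ₗ[A] (∀ j, Coh.HH X (L j) q) := by
  classical
  exact LinearEquiv.ofLinear
    (LinearMap.pi fun j => Canon.HHlin A (biproduct.π L j) q)
    (LinearMap.lsum A (fun j => Coh.HH X (L j) q) A
      (fun j => Canon.HHlin A (biproduct.ι L j) q))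
    (by
      refine LinearMap.ext fun y => funext fun j => ?_
      simp only [LinearMap.comp_apply, LinearMap.pi_apply, LinearMap.lsum_apply,
        LinearMap.sum_apply, LinearMap.proj_apply, LinearMap.id_apply, map_sum]
      rw [Finset.sum_eq_single j]
      · rw [← HHlin_comp, biproduct.ι_π_self, HHlin_id]
      · intro i _ hij
        rw [← HHlin_comp, biproduct.ι_π_ne L hij, HHlin_zero_apply]
      · intro h
        exact absurd (Finset.mem_univ j) h)
    (by
      refine LinearMap.ext fun x => ?_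
      simp only [LinearMap.comp_apply, LinearMap.pi_apply, LinearMap.lsum_apply,
        LinearMap.sum_apply, LinearMap.proj_apply, LinearMap.id_apply]
      exact (HH_total A L q x).symm)

end biprod

section P1

variable (k : Type u) [Field k]

/-- `h^0(P^1, O(m)) = max(0, m + 1)`. -/
theorem finrank_HH_zero_twist_P1 (m : ℤ) :
    Module.finrank k (Coh.HH (CohB1.ProjSpace 1 k) (Twist.twistProjSpace 1 k m) 0) =
      (m + 1).toNat := by
  by_cases hm : 0 ≤ m
  · obtain ⟨d, rfl⟩ := Int.eq_ofNat_of_zero_le hm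
    rw [← (h0TwistEquiv 1 k d).finrank_eq]
    have h1 : Module.finrank k (CohB1.polyGrading 1 k d) = Nat.choose (d + 1) 1 :=
      Groth.Agent.Lib.Lead.Pn.finrank_homogeneousSubmodule k 1 d
    rw [h1, Nat.choose_one_right]
    omega
  · haveI : Subsingleton (Coh.HH (CohB1.ProjSpace 1 k) (Twist.twistProjSpace 1 k m) 0) :=
      Groth.Agent.S0844.result k 1 m 0 (by omega) (by omega)
    rw [Module.finrank_zero_of_subsingleton]
    omega

/-- `h^0` of a twisted sum of line bundles on `P^1`. -/
theorem finrank_HH_zero_tw_coprod_P1 {r : ℕ} (d : Fin r → ℤ) (n : ℤ) :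
    Module.finrank k (Coh.HH (CohB1.ProjSpace 1 k)
      (tw 1 k (∐ fun i => Twist.twistProjSpace 1 k (d i)) n) 0) =
      ∑ i, (d i + n + 1).toNat := by
  rw [LinearEquiv.finrank_eq
      (HHlinEquiv k (twCoprodIso 1 k (fun i => Twist.twistProjSpace 1 k (d i)) n) 0),
    LinearEquiv.finrank_eq
      (HHbiprodEquiv k (fun i => tw 1 k (Twist.twistProjSpace 1 k (d i)) n) 0)]
  haveI : ∀ i, Module.Finite k (Coh.HH (CohB1.ProjSpace 1 k)
      (tw 1 k (Twist.twistProjSpace 1 k (d i)) n) 0) := fun i =>
    module_finite_HH_of_isCoh 1 k _ (isCoh_tw 1 k _ (isCoh_twist 1 k (d i)) n) 0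
  rw [Module.finrank_pi_fintype]
  refine Finset.sum_congr rfl fun i _ => ?_
  obtain ⟨e⟩ := nonempty_twist_tensor_iso 1 k (d i) n
  rw [LinearEquiv.finrank_eq (HHlinEquiv k e 0), finrank_HH_zero_twist_P1]

end P1

end Groth.Agent.Lib.Lead.SD
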