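import Groth.Agent.Lib.Lead.SD.PnDepth
import Groth.Agent.Lib.Helper16.ExtFlatBaseChange

/-!
# Vanishing of an Ext sheaf and vanishing of the Ext modules of the stalks
-/

set_option autoImplicit false

universe u

open CategoryTheory CategoryTheory.Limits AlgebraicGeometry TopologicalSpace Opposite Abelian
open scoped TensorProduct

namespace Groth.Agent.Lib.Lead.SD.StalkExt

section Alg

variable {A : Type u} [CommRing A] [IsNoetherianRing A] (p : Ideal A) [p.IsPrime]
  (B : Type u) [CommRing B] [Algebra A B] [IsLocalization.AtPrime B p]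
  (M : Type u) [AddCommGroup M] [Module A M] [Module.Finite A M]
  (Mx : Type u) [AddCommGroup Mx] [Module A Mx] [Module B Mx] [IsScalarTower A B Mx]
  (g : M →ₗ[A] Mx) [IsLocalizedModule p.primeCompl g]
  (L : Type u) [AddCommGroup L] [Module A L] (eL : L ≃ₗ[A] A) (c : ℕ)

include p eL g in
/-- `Ext^c_B(M_x, B) = 0` iff `B ⊗_A Ext^c_A(M, L) = 0`, for `B = A_p`, `M_x = M_p`, `L ≅ A`. -/
theorem subsingleton_ext_stalk_iff :
    Subsingleton (Ext.{u} (ModuleCat.of B Mx) (ModuleCat.of B B) c) ↔
      Subsingleton (B ⊗[A] Ext.{u} (ModuleCat.of A M) (ModuleCat.of A L) c) := by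
  haveI : Module.Flat A B := IsLocalization.flat B p.primeCompl
  obtain ⟨e⟩ := Groth.Agent.Lib.Helper16.ExtBC.nonempty_ext_baseChange_equiv (A := A) B L c M
  have hbc : IsBaseChange B g := IsLocalizedModule.isBaseChange p.primeCompl B g
  let i1 : ModuleCat.of B (B ⊗[A] M) ≅ ModuleCat.of B Mx := hbc.equiv.toModuleIso
  let i2 : ModuleCat.of B (B ⊗[A] L) ≅ ModuleCat.of B B :=
    ((TensorProduct.AlgebraTensorModule.congr (LinearEquiv.refl B B) eL).trans
      (TensorProduct.AlgebraTensorModule.rid A B B)).toModuleIso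
  constructor
  · intro h
    have h1 := Groth.Agent.Lib.Helper16.ExtRegDepth.subsingleton_ext_of_iso_left i1 _ c h
    have h2 := Groth.Agent.Lib.Helper16.ExtRegDepth.subsingleton_ext_of_iso_right _ i2 c h1
    exact e.toEquiv.subsingleton
  · intro h
    have h2 : Subsingleton (Ext.{u} (ModuleCat.of B (B ⊗[A] M)) (ModuleCat.of B (B ⊗[A] L)) c) :=
      e.symm.toEquiv.subsingleton
    have h1 := Groth.Agent.Lib.Helper16.ExtRegDepth.subsingleton_ext_of_iso_right _ i2.symm c h2
    exact Groth.Agent.Lib.Helper16.ExtRegDepth.subsingleton_ext_of_iso_left i1.symm _ c h1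

omit [IsNoetherianRing A] in
/-- a module vanishes if it vanishes after tensoring with the localization at each maximal ideal
(in any model of the localization) -/
theorem subsingleton_of_forall_maximal_tensor (E : Type u) [AddCommGroup E] [Module A E]
    (h : ∀ (P : Ideal A) [P.IsMaximal], ∃ (B : Type u) (_ : CommRing B) (_ : Algebra A B)
      (_ : IsLocalization.AtPrime B P), Subsingleton (B ⊗[A] E)) : Subsingleton E := by
  refine subsingleton_of_forall_eq 0 fun e => ?_
  by_contra hne
  have hI : Ideal.torsionOf A E e ≠ ⊤ := by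
    rw [Ne, Ideal.torsionOf_eq_top_iff]
    exact hne
  obtain ⟨P, hP, hIP⟩ := Ideal.exists_le_maximal _ hI
  haveI := hP
  obtain ⟨B, _, _, hloc, hsub⟩ := h P
  haveI : IsLocalizedModule P.primeCompl (TensorProduct.mk A B E 1) :=
    (isLocalizedModule_iff_isBaseChange P.primeCompl B _).mpr (TensorProduct.isBaseChange A E B)
  have h0 : TensorProduct.mk A B E 1 e = 0 := Subsingleton.elim _ _
  obtain ⟨s, hs⟩ := (IsLocalizedModule.eq_zero_iff P.primeCompl (TensorProduct.mk A B E 1)).mp h0
  exact s.2 (hIP ((Ideal.mem_torsionOf_iff e s.1).mpr hs))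

end Alg

section Geom

open Groth.Agent.Lib.Helper29.QCoh Groth.Agent.Lib.Lead.SD.CMVanish
open Groth.Agent.Lib.Helper10.Hartogs Groth.Agent.Lib.Helper17.ExtAff

variable {X : Scheme.{u}} [IsLocallyNoetherian X]

/-- affine-local comparison of the Ext module of the stalks with the localized Ext module of the
sections -/
theorem subsingleton_ext_stalk_iff_tensor (F L : X.Modules) [F.IsQuasicoherent] [F.IsFiniteType]
    {W : X.Opens} (hW : IsAffineOpen W) (e : Γ(L, W)) (hT : IsTriv L W e) (x : X) (hxW : x ∈ W)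
    (c : ℕ) :
    letI : Algebra Γ(X, W) (X.presheaf.stalk x) :=
      TopCat.Presheaf.algebra_section_stalk X.presheaf ⟨x, hxW⟩
    Subsingleton (Ext.{u} (ModuleCat.of (X.presheaf.stalk x) (F.presheaf.stalk x))
        (ModuleCat.of (X.presheaf.stalk x) (X.presheaf.stalk x)) c) ↔
      Subsingleton ((X.presheaf.stalk x) ⊗[Γ(X, W)]
        Ext.{u} (ModuleCat.of Γ(X, W) Γ(F, W)) (ModuleCat.of Γ(X, W) Γ(L, W)) c) := by
  haveI : IsNoetherianRing Γ(X, W) := IsLocallyNoetherian.component_noetherian ⟨W, hW⟩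
  haveI : Module.Finite Γ(X, W) Γ(F, W) := module_finite_of_isFiniteType F hW
  letI : Algebra Γ(X, W) (X.presheaf.stalk x) :=
    TopCat.Presheaf.algebra_section_stalk X.presheaf ⟨x, hxW⟩
  haveI hloc : IsLocalization.AtPrime (X.presheaf.stalk x) (hW.primeIdealOf ⟨x, hxW⟩).asIdeal :=
    hW.isLocalization_stalk ⟨x, hxW⟩
  letI := stalkModule F W x hxW
  haveI : IsScalarTower Γ(X, W) (X.presheaf.stalk x) (F.presheaf.stalk x) :=
    IsScalarTower.of_algebraMap_smul fun a t => rfl
  haveI hlm := isLocalizedModule_germ F hW x hxW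
  let f : Γ(X, W) ≃ₗ[Γ(X, W)] Γ(L, W) :=
    LinearEquiv.ofBijective (LinearMap.toSpanSingleton Γ(X, W) Γ(L, W) e) hT.bijective
  exact subsingleton_ext_stalk_iff (hW.primeIdealOf ⟨x, hxW⟩).asIdeal (X.presheaf.stalk x)
    Γ(F, W) (F.presheaf.stalk x) (germₗ F W x hxW) Γ(L, W) f.symm c

variable [HasInjectiveResolutions (ModSite.Mod X.sheaf)]

/-- vanishing of the Ext sheaf gives vanishing of the Ext modules of the stalks -/
theorem subsingleton_ext_stalk_of_isZero (F L : X.Modules) (hF : Coh.IsCoh F)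
    (hL : PicF.IsInvertible L) [L.IsQuasicoherent]
    [ModSite.HasSheafHom (O := X.sheaf) F] (c : ℕ)
    (h : IsZero ((ModSite.extSh (O := X.sheaf) F c).obj L)) (x : X) :
    Subsingleton (Ext.{u} (ModuleCat.of (X.presheaf.stalk x) (F.presheaf.stalk x))
        (ModuleCat.of (X.presheaf.stalk x) (X.presheaf.stalk x)) c) := by
  haveI := hF.1
  haveI := hF.2
  obtain ⟨W, e, hW, hxW, -, hT⟩ := exists_affine_isTriv hL (W := ⊤) x trivial
  rw [subsingleton_ext_stalk_iff_tensor F L hW e hT x hxW c]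
  haveI := Groth.Agent.Lib.Helper17.ExtDepth.ext_subsingleton_of_isZero F L hF hW c h
  infer_instance

/-- vanishing of the Ext modules of the stalks at the closed points gives vanishing of the Ext
sheaf (on a Jacobson scheme) -/
theorem isZero_extSh_of_stalk_closed [JacobsonSpace ↥X] (F L : X.Modules) (hF : Coh.IsCoh F)
    (hL : PicF.IsInvertible L) [L.IsQuasicoherent]
    [ModSite.HasSheafHom (O := X.sheaf) F] (c : ℕ)
    (h : ∀ x : X, IsClosed ({x} : Set ↥X) →
      Subsingleton (Ext.{u} (ModuleCat.of (X.presheaf.stalk x) (F.presheaf.stalk x))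
        (ModuleCat.of (X.presheaf.stalk x) (X.presheaf.stalk x)) c)) :
    IsZero ((ModSite.extSh (O := X.sheaf) F c).obj L) := by
  haveI := hF.1
  haveI := hF.2
  apply Groth.Agent.Lib.Helper28.DCohRes.isZero_of_locally
  intro x₀
  obtain ⟨W, e, hW, hxW, -, hT⟩ := exists_affine_isTriv hL (W := ⊤) x₀ trivial
  haveI : IsNoetherianRing Γ(X, W) := IsLocallyNoetherian.component_noetherian ⟨W, hW⟩
  haveI : Module.Finite Γ(X, W) Γ(F, W) := module_finite_of_isFiniteType _ hW
  refine ⟨Spec Γ(X, W), hW.fromSpec, inferInstance, ?_, ?_⟩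
  · rw [hW.range_fromSpec]
    exact hxW
  · obtain ⟨e'⟩ := extSh_restrict_affine F L hF hW c
    have hsub : Subsingleton (Ext.{u} (ModuleCat.of Γ(X, W) Γ(F, W))
        (ModuleCat.of Γ(X, W) Γ(L, W)) c) := by
      apply subsingleton_of_forall_maximal_tensor (A := Γ(X, W))
      intro P hP
      obtain ⟨x, hxW', hx⟩ := exists_point_primeIdealOf_eq hW P
      subst hx
      have hcl : IsClosed ({x} : Set ↥X) := isClosed_singleton_of_isMaximal hW x hxW' hP
      exact ⟨X.presheaf.stalk x, inferInstance,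
        TopCat.Presheaf.algebra_section_stalk X.presheaf ⟨x, hxW'⟩,
        hW.isLocalization_stalk ⟨x, hxW'⟩,
        (subsingleton_ext_stalk_iff_tensor F L hW e hT x hxW' c).mp (h x hcl)⟩
    have hz : IsZero (ModuleCat.of Γ(X, W) (Ext.{u} (ModuleCat.of Γ(X, W) Γ(F, W))
        (ModuleCat.of Γ(X, W) Γ(L, W)) c)) :=
      ModuleCat.isZero_of_subsingleton _
    have hz' := Functor.map_isZero (tilde.functor Γ(X, W)) hz
    exact hz'.of_iso e'

end Geom

end Groth.Agent.Lib.Lead.SD.StalkExt
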