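import Groth.Agent.Lib.Lead.SD.StalkExt

/-!
# `H^i(P^r, F(-m)) = 0` for `m ≫ 0` iff `Ext^{r-i}_{O_x}(F_x, O_x) = 0` at all (closed) points
-/

set_option autoImplicit false

universe u

open CategoryTheory CategoryTheory.Limits AlgebraicGeometry TopologicalSpace Opposite Abelian

namespace Groth.Agent.Lib.Lead.SD.StalkExt

open Groth.Agent.Lib.Helper29.QCoh Groth.Agent.Lib.Lead.SD.CMVanish

variable (k : Type u) [Field k] (r : ℕ)

/-- closed points version -/
theorem vanishing_iff_stalk_ext_closed (F : (CohB1.ProjSpace r k).Modules) (hF : Coh.IsCoh F)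
    (i j : ℕ) (hij : i + j = r) :
    (∃ m₀ : ℤ, ∀ m : ℤ, m₀ ≤ m → Subsingleton (Coh.HH (CohB1.ProjSpace r k)
      (Twist.twistBy (CohB1.polyGrading r k) F (-m)) i)) ↔
    ∀ x : (CohB1.ProjSpace r k), IsClosed ({x} : Set (CohB1.ProjSpace r k)) →
      Subsingleton (Abelian.Ext
        (ModuleCat.of ((CohB1.ProjSpace r k).presheaf.stalk x) (F.presheaf.stalk x))
        (ModuleCat.of ((CohB1.ProjSpace r k).presheaf.stalk x)
          ((CohB1.ProjSpace r k).presheaf.stalk x)) j) := by
  haveI : IsLocallyNoetherian (CohB1.ProjSpace r k) :=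
    Groth.Agent.Lib.Lead.Pn.isLocallyNoetherian_projSpace r k
  haveI : EnoughInjectives (CohB1.ProjSpace r k).Modules :=
    Groth.Agent.S0485.result (Opens.grothendieckTopology (CohB1.ProjSpace r k))
      (CohB1.ProjSpace r k).ringCatSheaf
  haveI : HasInjectiveResolutions (ModSite.Mod (CohB1.ProjSpace r k).sheaf) :=
    inferInstanceAs (HasInjectiveResolutions (CohB1.ProjSpace r k).Modules)
  haveI : ModSite.HasSheafHom (O := (CohB1.ProjSpace r k).sheaf) F :=
    Groth.Agent.Lib.Helper17.IHom.hasSheafHom _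
  have hωi := Groth.Agent.Lib.Lead.Pn.isInvertible_twistProjSpace r k (-((r : ℤ) + 1))
  haveI := (Groth.Agent.Lib.Lead.Pn.isCoh_twist r k (-((r : ℤ) + 1))).1
  have hj : r - i = j := by omega
  have h0 := Groth.Agent.Lib.Helper17.DualVanish.vanishing_iff k r F hF i (by omega)
  rw [hj] at h0
  refine Iff.trans h0 ⟨fun h x _ => ?_, fun h => ?_⟩
  · exact subsingleton_ext_stalk_of_isZero F _ hF hωi j h x
  · exact isZero_extSh_of_stalk_closed F _ hF hωi j h

/-- all points version -/
theorem vanishing_iff_stalk_ext (F : (CohB1.ProjSpace r k).Modules) (hF : Coh.IsCoh F)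
    (i j : ℕ) (hij : i + j = r) :
    (∃ m₀ : ℤ, ∀ m : ℤ, m₀ ≤ m → Subsingleton (Coh.HH (CohB1.ProjSpace r k)
      (Twist.twistBy (CohB1.polyGrading r k) F (-m)) i)) ↔
    ∀ x : (CohB1.ProjSpace r k),
      Subsingleton (Abelian.Ext
        (ModuleCat.of ((CohB1.ProjSpace r k).presheaf.stalk x) (F.presheaf.stalk x))
        (ModuleCat.of ((CohB1.ProjSpace r k).presheaf.stalk x)
          ((CohB1.ProjSpace r k).presheaf.stalk x)) j) := by
  haveI : IsLocallyNoetherian (CohB1.ProjSpace r k) :=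
    Groth.Agent.Lib.Lead.Pn.isLocallyNoetherian_projSpace r k
  haveI : EnoughInjectives (CohB1.ProjSpace r k).Modules :=
    Groth.Agent.S0485.result (Opens.grothendieckTopology (CohB1.ProjSpace r k))
      (CohB1.ProjSpace r k).ringCatSheaf
  haveI : HasInjectiveResolutions (ModSite.Mod (CohB1.ProjSpace r k).sheaf) :=
    inferInstanceAs (HasInjectiveResolutions (CohB1.ProjSpace r k).Modules)
  haveI : ModSite.HasSheafHom (O := (CohB1.ProjSpace r k).sheaf) F :=
    Groth.Agent.Lib.Helper17.IHom.hasSheafHom _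
  have hωi := Groth.Agent.Lib.Lead.Pn.isInvertible_twistProjSpace r k (-((r : ℤ) + 1))
  haveI := (Groth.Agent.Lib.Lead.Pn.isCoh_twist r k (-((r : ℤ) + 1))).1
  have hj : r - i = j := by omega
  have h0 := Groth.Agent.Lib.Helper17.DualVanish.vanishing_iff k r F hF i (by omega)
  rw [hj] at h0
  refine Iff.trans h0 ⟨fun h x => ?_, fun h => ?_⟩
  · exact subsingleton_ext_stalk_of_isZero F _ hF hωi j h x
  · exact isZero_extSh_of_stalk_closed F _ hF hωi j (fun x _ => h x)

end Groth.Agent.Lib.Lead.SD.StalkExt
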