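import Groth.Agent.Lib.Lead.SD.Split1
import Groth.Agent.Lib.Lead.SD.Horrocks2
import Groth.Agent.Lib.Lead.Koszul.Resol2

/-!
# Minimal linear presentations of regular modules on `P^n_k`
-/

set_option autoImplicit false

universe u

open CategoryTheory CategoryTheory.Limits AlgebraicGeometry Opposite TopologicalSpace MvPolynomial
  MonoidalCategory

namespace Groth.Agent.Lib.Lead.SD

open Groth.Agent.Lib.Lead.LinLES Groth.Agent.Lib.Lead.Pn Groth.Agent.Lib.Lead.Koszul
open Groth.Agent.Lib.Helper29.QCoh Groth.Agent.Lib.Lead.TwistExact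
  Groth.Agent.Lib.Helper17.Tensor Groth.Agent.Lib.Helper17.IHom

attribute [local instance] CategoryTheory.Abelian.hasFiniteBiproducts

section General

variable (k : Type u) [Field k] {X : Scheme.{u}} [X.Over (Spec (CommRingCat.of k))]

/-- If `H^0(G)` is finite-dimensional over the field `k`, a spanning family of global sections
indexed by `Fin (dim H^0(G))`. -/
lemma exists_sections_span_finrank (G : X.Modules) [Module.Finite k (Coh.HH X G 0)] :
    ∃ s : Fin (Module.finrank k (Coh.HH X G 0)) → Γ(G, ⊤), ∀ t : Γ(G, ⊤),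
      ∃ c : Fin (Module.finrank k (Coh.HH X G 0)) → Γ(X, ⊤), t = ∑ l, c l • s l := by
  let B := Module.finBasis k (Coh.HH X G 0)
  refine ⟨fun l => hh0 G (B l), fun t => ?_⟩
  have ht : (hh0 G).symm t ∈ Submodule.span k (Set.range B) := by rw [B.span_eq]; trivial
  obtain ⟨c, hc⟩ := (Submodule.mem_span_range_iff_exists_fun k).1 ht
  refine ⟨fun l => (show Γ(X, ⊤) from Coh.toGlobal (X ↘ Spec (CommRingCat.of k)) (c l)), ?_⟩
  have h1 : t = hh0 G (∑ l, c l • B l) := by rw [hc, AddEquiv.apply_symm_apply]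
  rw [h1, map_sum]
  refine Finset.sum_congr rfl fun l _ => ?_
  exact hh0_smul G (Coh.toGlobal (X ↘ Spec (CommRingCat.of k)) (c l)) (B l)

end General

section Pn

variable (n : ℕ) (R : Type u) [CommRing R] [IsNoetherianRing R]

/-- **Linear presentation of a regular module from a given spanning family of sections**. -/
theorem exists_epi_of_sections (F : (CohB1.ProjSpace n R).Modules)
    (hF : Coh.IsCoh F) (m : ℤ)
    (hreg : ∀ r : ℤ, m ≤ r → ∀ p : ℕ, 1 ≤ p → p ≤ n →
      Subsingleton (Coh.HH (CohB1.ProjSpace n R) (tw n R F (r - p)) p))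
    {b : ℕ} (s : Fin b → Γ(tw n R F m, ⊤))
    (hs : ∀ t : Γ(tw n R F m, ⊤), ∃ c : Fin b → Γ(CohB1.ProjSpace n R, ⊤), t = ∑ l, c l • s l) :
    ∃ φ : (∐ fun _ : Fin b => Twist.twistProjSpace n R (-m)) ⟶ F, Epi φ ∧
      ∀ i : ℕ, 1 ≤ i → i ≤ n →
        Subsingleton (Coh.HH (CohB1.ProjSpace n R) (tw n R (kernel φ) (m + 1 - i)) i) := by
  haveI : F.IsQuasicoherent := hF.1
  haveI : F.IsFiniteType := hF.2
  have hcohO := isCoh_twist n R m
  haveI := hcohO.1
  haveI := hcohO.2
  have hGcoh : Coh.IsCoh (tw n R F m) := ⟨inferInstance, inferInstance⟩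
  have hGgg : Curv2.IsGloballyGenerated (tw n R F m) :=
    isGloballyGenerated_tw_of_regular n R F m hreg
  have hG0 : ∀ p : ℕ, 1 ≤ p → p ≤ n →
      Subsingleton (Coh.HH (CohB1.ProjSpace n R) (tw n R (tw n R F m) (0 - p)) p) := by
    intro p hp1 hpn
    obtain ⟨e'⟩ := nonempty_tw_tw_iso n R F m (0 - p)
    refine subsingleton_HH_of_iso e'.symm p ?_
    rw [show m + (0 - (p : ℤ)) = m - p by ring]
    exact hreg m le_rfl p hp1 hpn
  obtain ⟨e0'⟩ := nonempty_unit_iso_twist_zero (CohB1.polyGrading n R)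
  let e0 : unitM (CohB1.ProjSpace n R) ≅ Twist.twistProjSpace n R 0 := e0'
  let ev := evOf e0 (tw n R F m) s
  haveI : Epi ev := epi_evOf e0 _ s hs hGgg
  have hK' := kernel_regular n R (tw n R F m) hG0 ev (evOf_surjective e0 _ s hs)
  haveI : (tensorRight (Twist.twistProjSpace n R (-m))).IsLeftAdjoint :=
    Groth.Agent.Lib.Helper17.Tensor.isLeftAdjoint_flip_obj (O := (CohB1.ProjSpace n R).sheaf) _
  obtain ⟨e1⟩ := nonempty_twist_tensor_iso n R 0 (-m)
  let e1' : (tensorRight (Twist.twistProjSpace n R (-m))).obj (Twist.twistProjSpace n R 0) ≅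
      Twist.twistProjSpace n R (-m) := e1 ≪≫ eqToIso (by rw [zero_add])
  let γ : tw n R (∐ fun _ : Fin b => Twist.twistProjSpace n R 0) (-m) ≅
      ∐ fun _ : Fin b => Twist.twistProjSpace n R (-m) :=
    PreservesCoproduct.iso (tensorRight (Twist.twistProjSpace n R (-m))) _ ≪≫
      Sigma.mapIso (fun _ => e1')
  obtain ⟨β1⟩ := nonempty_tw_tw_iso n R F m (-m)
  obtain ⟨β2⟩ := nonempty_tw_zero_iso n R F
  let β : tw n R (tw n R F m) (-m) ≅ F := β1 ≪≫ eqToIso (by rw [add_neg_cancel]) ≪≫ β2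
  refine ⟨γ.inv ≫ (tensorRight (Twist.twistProjSpace n R (-m))).map ev ≫ β.hom, ?_, ?_⟩
  · have h1 : Epi ((tensorRight (Twist.twistProjSpace n R (-m))).map ev) :=
      (tensorRight (Twist.twistProjSpace n R (-m))).map_epi ev
    have h2 : Epi ((tensorRight (Twist.twistProjSpace n R (-m))).map ev ≫ β.hom) :=
      @epi_comp _ _ _ _ _ _ h1 β.hom inferInstance
    exact @epi_comp _ _ _ _ _ γ.inv inferInstance _ h2
  · intro i hi1 hin
    obtain ⟨κ⟩ := nonempty_kernel_conj_iso n R ev (-m) γ β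
    obtain ⟨ε⟩ := nonempty_tw_tw_iso n R (kernel ev) (-m) (m + 1 - i)
    have h1 := hK' i hi1 hin
    rw [show (1 : ℤ) - i = -m + (m + 1 - i) by ring] at h1
    have h2 := subsingleton_HH_of_iso ε.symm i h1
    exact subsingleton_HH_of_iso
      ((tensorRight (Twist.twistProjSpace n R (m + 1 - i))).mapIso κ.symm) i h2

end Pn

section Field

variable (n : ℕ) (k : Type u) [Field k]

/-- `h^0(P^n_k, O) = 1`. -/
lemma finrank_HH_zero_twist_zero :
    Module.finrank k (Coh.HH (CohB1.ProjSpace n k) (Twist.twistProjSpace n k 0) 0) = 1 := by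
  have h0 : Module.finrank k (Coh.HH (CohB1.ProjSpace n k)
      (Twist.twistProjSpace n k ((0 : ℕ) : ℤ)) 0) = 1 := by
    rw [← (h0TwistEquiv n k 0).finrank_eq]
    have h1 : Module.finrank k (CohB1.polyGrading n k 0) = Nat.choose (0 + n) n :=
      Groth.Agent.Lib.Lead.Pn.finrank_homogeneousSubmodule k n 0
    rw [h1, zero_add, Nat.choose_self]
  exact h0

/-- `h^0(P^n_k, O(-a)^b ⊗ O(a)) = b`. -/
lemma finrank_HH_zero_tw_coprod_neg (b : ℕ) (a : ℤ) :
    Module.finrank k (Coh.HH (CohB1.ProjSpace n k)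
      (tw n k (∐ fun _ : Fin b => Twist.twistProjSpace n k (-a)) a) 0) = b := by
  rw [LinearEquiv.finrank_eq
      (HHlinEquiv k (twCoprodIso n k (fun _ : Fin b => Twist.twistProjSpace n k (-a)) a) 0),
    LinearEquiv.finrank_eq
      (HHbiprodEquiv k (fun _ : Fin b => tw n k (Twist.twistProjSpace n k (-a)) a) 0)]
  haveI : ∀ _ : Fin b, Module.Finite k (Coh.HH (CohB1.ProjSpace n k)
      (tw n k (Twist.twistProjSpace n k (-a)) a) 0) := fun _ =>
    module_finite_HH_of_isCoh n k _ (isCoh_tw n k _ (isCoh_twist n k (-a)) a) 0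
  rw [Module.finrank_pi_fintype]
  obtain ⟨e⟩ := nonempty_tw_twist_iso n k (-a) a 0 (by omega)
  have h1 : ∀ _ : Fin b, Module.finrank k (Coh.HH (CohB1.ProjSpace n k)
      (tw n k (Twist.twistProjSpace n k (-a)) a) 0) = 1 := fun _ => by
    rw [LinearEquiv.finrank_eq (HHlinEquiv k e 0), finrank_HH_zero_twist_zero]
  rw [Finset.sum_congr rfl (fun i _ => h1 i)]
  simp

end Field

end Groth.Agent.Lib.Lead.SD
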