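import Groth.Agent.Lib.Lead.SD.Syz1
import Groth.Agent.S1642

/-!
# The step of the minimal linear resolution on `P^n_k`
-/

set_option autoImplicit false

universe u

open CategoryTheory CategoryTheory.Limits AlgebraicGeometry Opposite TopologicalSpace MvPolynomial
  MonoidalCategory

namespace Groth.Agent.Lib.Lead.SD

open Groth.Agent.Lib.Lead.LinLES Groth.Agent.Lib.Lead.Pn Groth.Agent.Lib.Lead.Koszul
open Groth.Agent.Lib.Helper29.QCoh Groth.Agent.Lib.Lead.TwistExact
  Groth.Agent.Lib.Helper17.Tensor Groth.Agent.Lib.Helper17.IHom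

attribute [local instance] CategoryTheory.Abelian.hasFiniteBiproducts

section General

variable (A : Type u) [CommRing A] {X : Scheme.{u}} [X.Over (Spec (CommRingCat.of A))]

/-- `H^0` is left exact: the first map of a short exact sequence induces an injection on `H^0`. -/
lemma injective_HHlin_zero_f (S : ShortComplex X.Modules) (hS : S.ShortExact) :
    Function.Injective (Canon.HHlin A S.f 0) := by
  haveI : Mono (abMap S.f) := (abS_shortExact S hS).mono_f
  intro x y hxy
  exact Abelian.Ext.postcomp_mk₀_injective_of_mono _ (abMap S.f) hxy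

/-- If `H^0` of the middle term of a left exact sequence injects into `H^0` of the third term,
`H^0` of the first term vanishes. -/
lemma subsingleton_HH_zero_X₁ (S : ShortComplex X.Modules) (hS : S.ShortExact)
    (hinj : Function.Injective (Canon.HHlin A S.g 0)) : Subsingleton (Coh.HH X S.X₁ 0) := by
  refine subsingleton_of_forall_eq 0 fun x => ?_
  apply injective_HHlin_zero_f A S hS
  apply hinj
  rw [map_zero, map_zero]
  exact (exact₂ A S hS 0 _).2 ⟨x, rfl⟩

/-- If `H^1` of the first term vanishes, `H^0(g)` is surjective. -/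
lemma surjective_HHlin_zero_g (S : ShortComplex X.Modules) (hS : S.ShortExact)
    (h₁ : Subsingleton (Coh.HH X S.X₁ 1)) : Function.Surjective (Canon.HHlin A S.g 0) := by
  intro x₃
  exact (exact₃ A S hS 0 x₃).1 (Subsingleton.elim _ _)

end General

section Pn

variable (n : ℕ) (k : Type u) [Field k]

/-- A minimal linear presentation: the kernel of `O(-a)^b → K`, `b = h^0(K(a))`, is
`(a+1)`-regular and `H^0(ker(a)) = 0`. -/
theorem exists_minimal_epi (K : (CohB1.ProjSpace n k).Modules) (hK : Coh.IsCoh K) (a : ℤ)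
    (hreg : ∀ r : ℤ, a ≤ r → ∀ p : ℕ, 1 ≤ p → p ≤ n →
      Subsingleton (Coh.HH (CohB1.ProjSpace n k) (tw n k K (r - p)) p)) :
    ∃ (b : ℕ) (φ : (∐ fun _ : Fin b => Twist.twistProjSpace n k (-a)) ⟶ K), Epi φ ∧
      (∀ i : ℕ, 1 ≤ i → i ≤ n →
        Subsingleton (Coh.HH (CohB1.ProjSpace n k) (tw n k (kernel φ) (a + 1 - i)) i)) ∧
      Subsingleton (Coh.HH (CohB1.ProjSpace n k) (tw n k (kernel φ) a) 0) := by
  haveI : Module.Finite k (Coh.HH (CohB1.ProjSpace n k) (tw n k K a) 0) :=
    module_finite_HH_of_isCoh n k _ (isCoh_tw n k K hK a) 0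
  obtain ⟨s, hs⟩ := exists_sections_span_finrank k (tw n k K a)
  obtain ⟨φ, hφ, hker⟩ := exists_epi_of_sections n k K hK a hreg s hs
  refine ⟨_, φ, hφ, hker, ?_⟩
  haveI := hφ
  have hS := shortExact_map_tw n k (kerSC n k φ) (kerSC_shortExact n k φ) a
  have hKcoh : Coh.IsCoh (kernel φ) :=
    (Groth.Agent.S9514.result _ (isCoh_coprod_twist n k _ (-a)) hK φ).1
  have h1 : Subsingleton (Coh.HH (CohB1.ProjSpace n k) (tw n k (kernel φ) a) 1) := by
    by_cases hn : 1 ≤ n
    · have := hker 1 le_rfl hn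
      rw [show a + 1 - ((1 : ℕ) : ℤ) = a by push_cast; ring] at this
      exact this
    · haveI : (kernel φ).IsQuasicoherent := hKcoh.1
      have hq : Coh.IsQCoh (tw n k (kernel φ) a) := isQuasicoherent_tw n k _ a
      exact @Groth.Agent.S0022.result n k _ (tw n k (kernel φ) a) hq 1 (by omega)
  have hsurj := surjective_HHlin_zero_g k _ hS h1
  haveI hfin₂ : Module.Finite k (Coh.HH (CohB1.ProjSpace n k)
      ((kerSC n k φ).map (tensorRight (Twist.twistProjSpace n k a))).X₂ 0) :=
    module_finite_HH_of_isCoh n k _ (isCoh_tw n k _ (isCoh_coprod_twist n k _ (-a)) a) 0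
  haveI hfin₃ : Module.Finite k (Coh.HH (CohB1.ProjSpace n k)
      ((kerSC n k φ).map (tensorRight (Twist.twistProjSpace n k a))).X₃ 0) :=
    module_finite_HH_of_isCoh n k _ (isCoh_tw n k K hK a) 0
  haveI hfin₂' : Module.Finite k (Coh.HH (CohB1.ProjSpace n k)
      (tw n k (∐ fun _ : Fin (Module.finrank k (Coh.HH (CohB1.ProjSpace n k) (tw n k K a) 0)) =>
        Twist.twistProjSpace n k (-a)) a) 0) := hfin₂
  have hfr : Module.finrank k (Coh.HH (CohB1.ProjSpace n k)
      ((kerSC n k φ).map (tensorRight (Twist.twistProjSpace n k a))).X₂ 0) =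
      Module.finrank k (Coh.HH (CohB1.ProjSpace n k)
      ((kerSC n k φ).map (tensorRight (Twist.twistProjSpace n k a))).X₃ 0) :=
    finrank_HH_zero_tw_coprod_neg n k _ a
  have hinj : Function.Injective (Canon.HHlin k
      ((kerSC n k φ).map (tensorRight (Twist.twistProjSpace n k a))).g 0) :=
    (LinearMap.injective_iff_surjective_of_finrank_eq_finrank hfr).2 hsurj
  exact subsingleton_HH_zero_X₁ k _ hS hinj

/-- The invariant of the `s`-th syzygy module of the minimal linear resolution. -/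
structure Inv (K : (CohB1.ProjSpace n k).Modules) (a : ℤ) (s : ℕ) : Prop where
  coh : Coh.IsCoh K
  reg : ∀ r : ℤ, a ≤ r → ∀ p : ℕ, 1 ≤ p → p ≤ n →
    Subsingleton (Coh.HH (CohB1.ProjSpace n k) (tw n k K (r - p)) p)
  h0 : 1 ≤ s → ∀ j : ℤ, j < a → Subsingleton (Coh.HH (CohB1.ProjSpace n k) (tw n k K j) 0)
  mid : ∀ i : ℕ, 1 ≤ i → i + 1 ≤ n → i + 1 ≤ s → ∀ j : ℤ,
    Subsingleton (Coh.HH (CohB1.ProjSpace n k) (tw n k K j) i)

variable {n k}

theorem Inv.step (hn : 1 ≤ n) {K : (CohB1.ProjSpace n k).Modules} {a : ℤ} {s : ℕ}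
    (h : Inv n k K a s) :
    ∃ (b : ℕ) (φ : (∐ fun _ : Fin b => Twist.twistProjSpace n k (-a)) ⟶ K), Epi φ ∧
      Inv n k (kernel φ) (a + 1) (s + 1) := by
  obtain ⟨b, φ, hφ, hker, hker0⟩ := exists_minimal_epi n k K h.coh a h.reg
  haveI := hφ
  have hKcoh : Coh.IsCoh (kernel φ) :=
    (Groth.Agent.S9514.result _ (isCoh_coprod_twist n k b (-a)) h.coh φ).1
  have hS : ∀ j : ℤ, ((kerSC n k φ).map (tensorRight (Twist.twistProjSpace n k j))).ShortExact :=
    fun j => shortExact_map_tw n k (kerSC n k φ) (kerSC_shortExact n k φ) j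
  have hreg : ∀ r : ℤ, a + 1 ≤ r → Curv2.IsMRegular k n (kernel φ) r := by
    intro r hr
    induction r, hr using Int.leInduction with
    | base => exact hker
    | succ r hr ih => exact Groth.Agent.S1642.result k n (kernel φ) hKcoh r ih
  have hE : ∀ (j : ℤ) (q : ℕ), ¬ (q = 0 ∧ 0 ≤ -a + j) → ¬ (q = n ∧ -a + j ≤ -((n : ℤ) + 1)) →
      Subsingleton (Coh.HH (CohB1.ProjSpace n k)
        (tw n k (∐ fun _ : Fin b => Twist.twistProjSpace n k (-a)) j) q) := fun j q h1 h2 =>
    subsingleton_HH_tw_coprod n k _ j q (fun _ => subsingleton_HH_tw_twist n k (-a) j q h1 h2)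
  refine ⟨b, φ, hφ, ⟨hKcoh, fun r hr p hp1 hpn => hreg r hr p hp1 hpn, ?_, ?_⟩⟩
  · intro _ j hj
    rcases eq_or_lt_of_le (show j ≤ a by omega) with rfl | hja
    · exact hker0
    · haveI : Subsingleton (Coh.HH (CohB1.ProjSpace n k)
          ((kerSC n k φ).map (tensorRight (Twist.twistProjSpace n k j))).X₂ 0) :=
        hE j 0 (by omega) (by omega)
      exact (injective_HHlin_zero_f k _ (hS j)).subsingleton
  · intro i hi1 hin his j
    obtain ⟨q, rfl⟩ : ∃ q, i = q + 1 := ⟨i - 1, by omega⟩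
    rcases Nat.eq_zero_or_pos q with rfl | hq
    · by_cases hja : a ≤ j
      · have := hreg (j + 1) (by omega) 1 le_rfl hn
        rw [show j + 1 - ((1 : ℕ) : ℤ) = j by push_cast; ring] at this
        exact this
      · exact subsingleton_HH_X₁ _ (hS j) 0 (h.h0 (by omega) j (by omega))
          (hE j (0 + 1) (by omega) (by omega))
    · exact subsingleton_HH_X₁ _ (hS j) q (h.mid q hq (by omega) (by omega) j)
        (hE j (q + 1) (by omega) (by omega))

/-- The `n`-th syzygy splits. -/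
theorem Inv.splits (hn : 1 ≤ n) {K : (CohB1.ProjSpace n k).Modules} {a : ℤ}
    (h : Inv n k K a n) :
    ∃ (r : ℕ) (d : Fin r → ℤ),
      Nonempty (K ≅ ∐ fun j => Twist.twistProjSpace n k (d j)) := by
  obtain ⟨m, rfl⟩ : ∃ m, n = m + 1 := ⟨n - 1, by omega⟩
  exact (horrocks m k K h.coh).2
    ⟨⟨a - 1, fun j hj => h.h0 (by omega) j (by omega)⟩,
      fun j i hi1 hin => h.mid i hi1 (by omega) (by omega) j⟩

end Pn

end Groth.Agent.Lib.Lead.SD
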