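import Mathlib.Algebra.Homology.Augment
import Mathlib.Algebra.Homology.Single
import Mathlib.Algebra.Homology.ShortComplex.HomologicalComplex
import Mathlib.Algebra.Homology.ShortComplex.Exact
import Mathlib.Algebra.Homology.ShortComplex.Abelian
import Mathlib.CategoryTheory.Abelian.Exact

/-!
# Assembling finite resolutions from successive presentations (abstract nonsense)
-/

set_option autoImplicit false

universe v' u'

open CategoryTheory CategoryTheory.Limits

namespace Groth.Agent.Lib.Lead.SD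

variable {𝒞 : Type u'} [Category.{v'} 𝒞] [Abelian 𝒞] (P : 𝒞 → Prop)

/-- `K` has a resolution of length `≤ t` by objects satisfying `P`. -/
def HasRes (K : 𝒞) (t : ℕ) : Prop :=
  ∃ (C : ChainComplex 𝒞 ℕ) (π : C.X 0 ⟶ K) (w : C.d 1 0 ≫ π = 0),
    (∀ i : ℕ, t < i → IsZero (C.X i)) ∧ (∀ i : ℕ, P (C.X i)) ∧
    (∀ i : ℕ, 1 ≤ i → IsZero (C.homology i)) ∧ Epi π ∧ (ShortComplex.mk (C.d 1 0) π w).Exact

lemma hasRes_zero (hP0 : ∀ Z : 𝒞, IsZero Z → P Z) (K : 𝒞) (hK : P K) : HasRes P K 0 := by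
  have hz : ∀ i : ℕ, i ≠ 0 → IsZero (((ChainComplex.single₀ 𝒞).obj K).X i) := fun i hi =>
    HomologicalComplex.isZero_single_obj_X _ _ _ _ hi
  have hd : ((ChainComplex.single₀ 𝒞).obj K).d 1 0 = 0 := (hz 1 (by omega)).eq_of_src _ _
  refine ⟨(ChainComplex.single₀ 𝒞).obj K, 𝟙 K, ?_, ?_, ?_, ?_, ?_, ?_⟩
  · rw [hd, zero_comp]
  · intro i hi
    exact hz i (by omega)
  · intro i
    rcases Nat.eq_zero_or_pos i with rfl | hi
    · exact hK
    · exact hP0 _ (hz i (by omega))
  · intro i hi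
    exact (HomologicalComplex.ExactAt.of_isZero (hz i (by omega))).isZero_homology
  · exact inferInstanceAs (Epi (𝟙 K))
  · rw [ShortComplex.exact_iff_mono _ hd]
    exact inferInstanceAs (Mono (𝟙 K))

lemma hasRes_succ {E K : 𝒞} (φ : E ⟶ K) [Epi φ] (hE : P E) {t : ℕ}
    (h : HasRes P (kernel φ) t) : HasRes P K (t + 1) := by
  obtain ⟨C', π', w', hz, hP, hH, hπ', hex⟩ := h
  have w1 : C'.d 1 0 ≫ (π' ≫ kernel.ι φ) = 0 := by rw [← Category.assoc, w', zero_comp]
  have w2 : (π' ≫ kernel.ι φ) ≫ φ = 0 := by rw [Category.assoc, kernel.condition, comp_zero]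
  refine ⟨C'.augment (π' ≫ kernel.ι φ) w1, φ, w2, ?_, ?_, ?_, ‹Epi φ›, ?_⟩
  · intro i hi
    cases i with
    | zero => omega
    | succ i => exact hz i (by omega)
  · intro i
    cases i with
    | zero => exact hE
    | succ i => exact hP i
  · intro i hi
    rw [← HomologicalComplex.exactAt_iff_isZero_homology]
    obtain ⟨i, rfl⟩ : ∃ j, i = j + 1 := ⟨i - 1, by omega⟩
    rw [HomologicalComplex.exactAt_iff' _ (i + 2) (i + 1) i (by simp) (by simp)]
    cases i with
    | zero =>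
      let S₁ := ShortComplex.mk (C'.d 1 0) π' w'
      let S₂ := ShortComplex.mk (C'.d 1 0) (π' ≫ kernel.ι φ) w1
      let f : S₁ ⟶ S₂ :=
        { τ₁ := 𝟙 _
          τ₂ := 𝟙 _
          τ₃ := kernel.ι φ
          comm₁₂ := by simp [S₁, S₂]
          comm₂₃ := by simp [S₁, S₂] }
      haveI : Epi f.τ₁ := inferInstanceAs (Epi (𝟙 _))
      haveI : IsIso f.τ₂ := inferInstanceAs (IsIso (𝟙 _))
      haveI : Mono f.τ₃ := inferInstanceAs (Mono (kernel.ι φ))
      exact (ShortComplex.exact_iff_of_epi_of_isIso_of_mono f).1 hex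
    | succ i =>
      have := hH (i + 1) (by omega)
      rw [← HomologicalComplex.exactAt_iff_isZero_homology,
        HomologicalComplex.exactAt_iff' _ (i + 2) (i + 1) i (by simp) (by simp)] at this
      exact this
  · let S₁ := ShortComplex.mk (π' ≫ kernel.ι φ) φ w2
    let S₂ := ShortComplex.mk (kernel.ι φ) φ (kernel.condition φ)
    let f : S₁ ⟶ S₂ :=
      { τ₁ := π'
        τ₂ := 𝟙 _
        τ₃ := 𝟙 _
        comm₁₂ := by simp [S₁, S₂]
        comm₂₃ := by simp [S₁, S₂] }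
    haveI : Epi f.τ₁ := hπ'
    haveI : IsIso f.τ₂ := inferInstanceAs (IsIso (𝟙 _))
    haveI : Mono f.τ₃ := inferInstanceAs (Mono (𝟙 _))
    exact (ShortComplex.exact_iff_of_epi_of_isIso_of_mono f).2 (ShortComplex.exact_kernel φ)

end Groth.Agent.Lib.Lead.SD
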