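import Groth.Agent.Lib.Lead.SD.Syz2
import Groth.Agent.Lib.Lead.SD.Syz3
import Groth.Agent.Lib.Lead.Koszul.SerreVanish

/-!
# Hilbert's syzygy theorem on `P^n_k`: finite resolutions by sums of twisting sheaves
-/

set_option autoImplicit false

universe u

open CategoryTheory CategoryTheory.Limits AlgebraicGeometry Opposite TopologicalSpace MvPolynomial
  MonoidalCategory

namespace Groth.Agent.Lib.Lead.SD

open Groth.Agent.Lib.Lead.LinLES Groth.Agent.Lib.Lead.Pn Groth.Agent.Lib.Lead.Koszul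
open Groth.Agent.Lib.Helper29.QCoh Groth.Agent.Lib.Lead.TwistExact
  Groth.Agent.Lib.Helper17.Tensor Groth.Agent.Lib.Helper17.IHom

variable (n : ℕ) (k : Type u) [Field k]

/-- `M` is a finite direct sum of twisting sheaves. -/
def IsSumTw (M : (CohB1.ProjSpace n k).Modules) : Prop :=
  ∃ (m : ℕ) (d : Fin m → ℤ), Nonempty (M ≅ ∐ fun j : Fin m => Twist.twistProjSpace n k (d j))

lemma isSumTw_of_isZero (Z : (CohB1.ProjSpace n k).Modules) (hZ : IsZero Z) : IsSumTw n k Z := by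
  refine ⟨0, Fin.elim0, ⟨hZ.iso ?_⟩⟩
  rw [IsZero.iff_id_eq_zero]
  exact Sigma.hom_ext _ _ (fun j => j.elim0)

lemma isSumTw_coprod (b : ℕ) (a : ℤ) :
    IsSumTw n k (∐ fun _ : Fin b => Twist.twistProjSpace n k a) :=
  ⟨b, fun _ => a, ⟨Iso.refl _⟩⟩

variable {n k}

theorem hasRes_of_inv (hn : 1 ≤ n) (t : ℕ) : ∀ (s : ℕ), s + t = n →
    ∀ (K : (CohB1.ProjSpace n k).Modules) (a : ℤ), Inv n k K a s →
      HasRes (IsSumTw n k) K t := by
  induction t with
  | zero =>
    intro s hs K a h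
    have hs' : s = n := by omega
    rw [hs'] at h
    obtain ⟨r, d, e⟩ := h.splits hn
    exact hasRes_zero _ (isSumTw_of_isZero n k) K ⟨r, d, e⟩
  | succ t ih =>
    intro s hs K a h
    obtain ⟨b, φ, hφ, hinv⟩ := h.step hn
    haveI := hφ
    exact hasRes_succ _ φ (isSumTw_coprod n k b (-a)) (ih (s + 1) (by omega) _ _ hinv)

variable (n k)

/-- **Hilbert's syzygy theorem** for coherent sheaves on `P^n_k`. -/
theorem hasRes_of_isCoh (F : (CohB1.ProjSpace n k).Modules) (hF : Coh.IsCoh F) :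
    HasRes (IsSumTw n k) F n := by
  rcases Nat.eq_zero_or_pos n with rfl | hn
  · obtain ⟨b, φ, hφ, -, h0⟩ := exists_minimal_epi 0 k F hF 0
      (fun r _ p hp1 hp0 => absurd hp0 (by omega))
    haveI := hφ
    have hKcoh : Coh.IsCoh (kernel φ) :=
      (Groth.Agent.S9514.result _ (isCoh_coprod_twist 0 k b (-0)) hF φ).1
    have hz : IsZero (kernel φ) := isZero_of_regular_all 0 k (kernel φ) hKcoh 0 h0
      (fun r _ p hp1 hp0 => absurd hp0 (by omega))
    haveI : Mono φ := Preadditive.mono_of_kernel_zero (hz.eq_of_src _ _)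
    haveI : IsIso φ := isIso_of_mono_of_epi φ
    exact hasRes_zero _ (isSumTw_of_isZero 0 k) F ⟨b, fun _ => -0, ⟨(asIso φ).symm⟩⟩
  · obtain ⟨j₀, hj₀⟩ := exists_vanishing_tw n k F hF
    refine hasRes_of_inv hn n 0 (by omega) F (j₀ + n) ⟨hF, ?_, ?_, ?_⟩
    · intro r hr p hp1 hpn
      exact hj₀ (r - p) (by omega) p hp1
    · intro h
      omega
    · intro i _ _ h
      omega

end Groth.Agent.Lib.Lead.SD
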