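import Groth.Agent.Lib.Lead.SD.StalkExt2
import Groth.Agent.Lib.Lead.ExtCodim.Dim
import Groth.Agent.Lib.Helper16.ExtRegDepth2
import Groth.Agent.Lib.Helper17.ZClosDepth
import Groth.Agent.Lib.Helper18.SerreReg2
import Groth.Agent.Lib.Helper9.RefStalk2
import Groth.Agent.Lib.Helper12.Dev2
import Groth.Agent.Lib.Lead.SD.PnGenPt
import Groth.Agent.Lib.Lead.SD.AssMinSupp

set_option autoImplicit false

universe u

open CategoryTheory CategoryTheory.Limits AlgebraicGeometry TopologicalSpace Opposite Abelian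

/-!
# Nonvanishing of `H^a(P^n, G(m))` for some `m` when `dim Supp G = a`
-/

namespace Groth.Agent.Lib.Lead.SD.TopSupp

variable (k : Type u) [Field k] (n : ℕ)

theorem exists_twist_nontrivial (G : (CohB1.ProjSpace n k).Modules) (hG : Coh.IsCoh G) (a : ℕ)
    (hdim : topologicalKrullDim ↥(CohB1.support G) = a) :
    ∃ m : ℤ, Nontrivial (Coh.HH (CohB1.ProjSpace n k)
      (CohB1.tensorMod G (Twist.twistProjSpace n k m)) a) := by
  by_contra hcon
  push Not at hcon
  have hsub : ∀ m : ℤ, Subsingleton (Coh.HH (CohB1.ProjSpace n k)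
      (CohB1.tensorMod G (Twist.twistProjSpace n k m)) a) :=
    fun m => hcon m
  haveI : IsLocallyNoetherian (CohB1.ProjSpace n k) :=
    Groth.Agent.Lib.Lead.Pn.isLocallyNoetherian_projSpace n k
  haveI := hG.1
  haveI := hG.2
  have hS : IsClosed (CohB1.support G) := Groth.Agent.Lib.Helper12.H12Dev.isClosed_support G
  obtain ⟨x, hxS, hdimx, hmin⟩ := Groth.Agent.Lib.Lead.SD.PnGenPt.exists_generic_point_codim k n a (CohB1.support G) hS hdim
  haveI hreg : IsRegularLocalRing ((CohB1.ProjSpace n k).presheaf.stalk x) :=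
    Groth.Agent.Lib.Lead.ExtCodim.isRegularLocalRing_stalk k n x
  obtain ⟨c, hc⟩ := Groth.Agent.Lib.Helper18.SerreReg.exists_ringKrullDim_eq_nat
    ((CohB1.ProjSpace n k).presheaf.stalk x)
  rw [hc] at hdimx
  have hca : c + a = n := by exact_mod_cast hdimx
  have h1 := (Groth.Agent.Lib.Lead.SD.StalkExt.vanishing_iff_stalk_ext k n G hG a c
    (by omega)).mp ⟨0, fun m _ => hsub (-m)⟩ x
  haveI : Module.Finite ((CohB1.ProjSpace n k).presheaf.stalk x) (G.presheaf.stalk x) :=
    Groth.Agent.Lib.Helper9.RefStalk.finite_stalk_of_isCoh G hG x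
  have h2 := Groth.Agent.Lib.Helper16.ExtRegDepth.le_depth_local
    ((CohB1.ProjSpace n k).presheaf.stalk x) c hc (G.presheaf.stalk x) 1
    (fun q hq1 hq2 => by
      have : q = c := by omega
      subst this
      exact h1)
  have h3 := (Groth.Agent.Lib.Helper17.ZClosDepth.one_le_depth_iff G x).mp (by exact_mod_cast h2)
  exact h3 (Groth.Agent.Lib.Lead.SD.AssMinSupp.isAssPoint_of_minimal_support G x hxS hmin)

end Groth.Agent.Lib.Lead.SD.TopSupp
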